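import Cfsg.Agent.Nodes.RGDChev
import Cfsg.Agent.ChevalleyStructure.TorusRange
import Cfsg.Agent.S1034
import Cfsg.Agent.S1032
set_option linter.all false

/-!
# The torus of a Chevalley group over any field (copy, with a small import closure, of a part of `BpExc.FamTwSix`)
-/

set_option autoImplicit false
set_option linter.unusedSectionVars false
set_option maxHeartbeats 400000

namespace Cfsg.Agent.H129.Tor

open CoxeterSystem Cfsg.Agent.ChevalleyStructure.CoxeterGeom Cfsg.Agent.Tits.Roots Cfsg.Agent.Tits.Core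
  Cfsg.Agent.Nodes.RGDChev
open Cfsg.Lie Cfsg.Agent.ChevalleyStructure Cfsg.Agent.ChevalleyStructure.Elts
  Cfsg.Agent.ChevalleyStructure.TorusRange
  Cfsg.Agent.ChevalleyStructure.NPerm Cfsg.Agent.ChevalleyStructure.CoxeterGeomTypes

universe u

variable {D : ChevalleyDatum} {l : ℕ} {M : CoxeterMatrix (Fin l)} (hp : IsType D l M) {F : Type u} [Field F]

include hp in
theorem simpleDiag : SimpleDiag D F := by
  intro i hi c hc
  have hG := RootComb.good_of_mem hp.inList
  have h := StringMem.hMat_eq hp.inList (F := F) (hG.simple_lt hi) hc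
  simpa only [StringMem.cartanR_simple hp.inList hi] using h

include hp in
theorem allDiag : AllDiag D F := by
  intro r hr c hc
  exact StringMem.hMat_eq hp.inList hr hc

theorem hG_conj {i s : ℕ} (hi : i < D.rank) (hs : s < D.nroots) {c : F} (hc : c ≠ 0) (a : F) :
    hG hp.inList (D.simple i) c * xG hp.inList s a * (hG hp.inList (D.simple i) c)⁻¹ =
      xG hp.inList s (c ^ D.cartan i s * a) := by
  rw [mul_inv_eq_iff_eq_mul]
  exact Units.ext (Cfsg.Agent.S1032.result (F := F) D hp.inList i s hi hs c hc a)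

/-- the products of the `h_i(c_i)` -/
theorem exists_prod (c : ℕ → F) (hc : ∀ i < D.rank, c i ≠ 0) (n : ℕ) (hn : n ≤ D.rank) :
    ∃ t ∈ D.diagonalSubgroup F, (t : Matrix D.Idx D.Idx F) =
        D.wordMat F ((List.range n).flatMap fun i => D.hWord (D.simple i) (c i)) ∧
      ∀ s < D.nroots, ∀ a, t * xG hp.inList s a * t⁻¹ =
        xG hp.inList s ((∏ i ∈ Finset.range n, c i ^ D.cartan i s) * a) := by
  induction n with
  | zero =>
    refine ⟨1, one_mem _, ?_, fun s _ a => ?_⟩
    · rw [List.range_zero, List.flatMap_nil, wordMat_nil]; rfl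
    · rw [Finset.range_zero, Finset.prod_empty, one_mul, one_mul, inv_one, mul_one]
  | succ n ih =>
    obtain ⟨t, ht, e, h1⟩ := ih (by omega)
    have hn' : n < D.rank := by omega
    have hcn : c n ≠ 0 := hc n hn'
    have hm : hG hp.inList (D.simple n) (c n) ∈ D.diagonalSubgroup F :=
      hG_mem_diagonal hp.inList (NPerm.simple_lt hp.inList hn') hcn
    refine ⟨t * hG hp.inList (D.simple n) (c n), mul_mem ht hm, ?_, fun s hs a => ?_⟩
    · rw [Units.val_mul, e, List.range_succ, List.flatMap_append, wordMat_append,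
        List.flatMap_cons, List.flatMap_nil, List.append_nil]
      congr 1
    · have e2 : t * hG hp.inList (D.simple n) (c n) * xG hp.inList s a * (t * hG hp.inList (D.simple n) (c n))⁻¹ =
          t * (hG hp.inList (D.simple n) (c n) * xG hp.inList s a * (hG hp.inList (D.simple n) (c n))⁻¹) * t⁻¹ := by
        group
      rw [e2, hG_conj hp hn' hs hcn, h1 s hs, Finset.prod_range_succ, mul_assoc]

/-- **The elements of the torus.** -/
theorem exists_c {t : GL D.Idx F} (ht : t ∈ D.diagonalSubgroup F) :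
    ∃ c : ℕ → F, (∀ i < D.rank, c i ≠ 0) ∧
      (t : Matrix D.Idx D.Idx F) = Matrix.diagonal (Sum.elim (fun _ => (1 : F))
        (fun s : Fin D.nroots => ∏ i ∈ Finset.range D.rank, c i ^ D.cartan i s)) ∧
      ∀ s < D.nroots, ∀ a, t * xG hp.inList s a * t⁻¹ =
        xG hp.inList s ((∏ i ∈ Finset.range D.rank, c i ^ D.cartan i s) * a) := by
  obtain ⟨c, hc, e⟩ := exists_word (simpleDiag hp) (allDiag hp) t ht
  obtain ⟨t', ht', e', h1⟩ := exists_prod hp c hc D.rank le_rfl
  have h2 : t' = t := Units.ext (by rw [e', e])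
  subst h2
  exact ⟨c, hc, by rw [e', wordMat_flatMap_range (simpleDiag hp) c hc D.rank le_rfl], h1⟩

include hp in
/-- the scalar of a root in terms of those of the fundamental roots -/
theorem prod_eq (c : ℕ → F) (hc : ∀ i < D.rank, c i ≠ 0) {r : ℕ} (hr : r < D.nroots) :
    ∏ j ∈ Finset.range D.rank, c j ^ D.cartan j r =
      ∏ i : Fin l, (∏ j ∈ Finset.range D.rank, c j ^ D.cartan j (D.simple i)) ^ vec D l r i := by
  have h3 : ∀ i : Fin l, (∏ j ∈ Finset.range D.rank, c j ^ D.cartan j (D.simple i)) ^ vec D l r i =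
      ∏ j ∈ Finset.range D.rank, c j ^ (D.cartan j (D.simple i) * vec D l r i) := by
    intro i
    rw [← Finset.prod_zpow]
    exact Finset.prod_congr rfl fun j _ => (zpow_mul _ _ _).symm
  rw [Finset.prod_congr rfl fun i _ => h3 i, Finset.prod_comm]
  refine Finset.prod_congr rfl fun j hj => ?_
  have hj' : j < D.rank := Finset.mem_range.1 hj
  have hjl : j < l := by rw [← hp.rank_eq]; exact hj'
  have h5 : ∀ s : Finset (Fin l), ∏ i ∈ s, c j ^ (D.cartan j (D.simple i) * vec D l r i) =
      c j ^ ∑ i ∈ s, D.cartan j (D.simple i) * vec D l r i := by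
    intro s
    induction s using Finset.induction_on with
    | empty => simp
    | insert b s hb ih => rw [Finset.prod_insert hb, Finset.sum_insert hb, ih, zpow_add₀ (hc j hj')]
  rw [h5]
  congr 1
  have h6 := pairing_vec hp ⟨j, hjl⟩ hr
  rw [← h6]
  unfold CoxeterGeom.pairing
  refine Finset.sum_congr rfl fun i _ => ?_
  rw [cartanOf_def]

/-- **The torus is determined by its action on the fundamental root groups.** -/
theorem faithful {t : GL D.Idx F} (ht : t ∈ D.diagonalSubgroup F)
    (h1 : ∀ i : Fin l, t * xG hp.inList (D.simple i) 1 * t⁻¹ = xG hp.inList (D.simple i) 1) : t = 1 := by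
  obtain ⟨c, hc, e, hact⟩ := exists_c hp ht
  have h2 : ∀ i : Fin l, ∏ j ∈ Finset.range D.rank, c j ^ D.cartan j (D.simple i) = 1 := by
    intro i
    have h3 := hact (D.simple i) (simple_lt hp.inList (lt_rank hp i)) 1
    rw [h1 i, mul_one] at h3
    exact (xG_injective hp.inList (simple_lt hp.inList (lt_rank hp i)) h3).symm
  apply Units.ext
  rw [e]
  show _ = (1 : Matrix D.Idx D.Idx F)
  rw [← Matrix.diagonal_one]
  congr 1
  funext i
  rcases i with i | s
  · rfl
  · show ∏ i ∈ Finset.range D.rank, c i ^ D.cartan i s = 1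
    rw [prod_eq hp c hc s.2]
    exact Finset.prod_eq_one fun i _ => by rw [h2 i, one_zpow]

/-- two elements of the torus with the same action -/
theorem eq_of_act {s t : GL D.Idx F} (hs : s ∈ D.diagonalSubgroup F) (ht : t ∈ D.diagonalSubgroup F)
    (h1 : ∀ i : Fin l, s * xG hp.inList (D.simple i) 1 * s⁻¹ = t * xG hp.inList (D.simple i) 1 * t⁻¹) : s = t := by
  have h2 : t⁻¹ * s = 1 := by
    refine faithful hp (mul_mem (inv_mem ht) hs) fun i => ?_
    have e : t⁻¹ * s * xG hp.inList (D.simple i) 1 * (t⁻¹ * s)⁻¹ =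
        t⁻¹ * (s * xG hp.inList (D.simple i) 1 * s⁻¹) * t := by group
    rw [e, h1 i]
    group
  exact (inv_mul_eq_one.1 h2).symm

include hp in
theorem cartan_neg {j : ℕ} (hj : j < D.rank) {r : ℕ} (hr : r < D.nroots) : D.cartan j (D.neg r) = -D.cartan j r := by
  have hjl : j < l := by rw [← hp.rank_eq]; exact hj
  have h1 := pairing_vec hp ⟨j, hjl⟩ hr
  have h2 := pairing_vec hp ⟨j, hjl⟩ (neg_lt hp.inList hr)
  rw [vec_neg hp hr] at h2
  show D.cartan ((⟨j, hjl⟩ : Fin l) : ℕ) (D.neg r) = -D.cartan ((⟨j, hjl⟩ : Fin l) : ℕ) r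
  rw [← h1, ← h2]
  unfold CoxeterGeom.pairing
  rw [← Finset.sum_neg_distrib]
  refine Finset.sum_congr rfl fun i _ => ?_
  rw [Pi.neg_apply, mul_neg]

/-- **Existence of diagonal elements.** -/
theorem exists_diag {m : ℕ} {B : Fin l → Fin l → ℤ} (hB : ∀ i k : Fin l, ∑ j : Fin l, B i j * D.cartan j (D.simple k) =
    if i = k then (m : ℤ) else 0) {b : Fin l → F} (hb0 : ∀ i, b i ≠ 0) (hb : ∀ i, ∃ e : F, e ^ m = b i)
    (hm : m ≠ 0) : ∃ t ∈ D.diagonalSubgroup F, (∀ i : Fin l, ∀ a,
      t * xG hp.inList (D.simple i) a * t⁻¹ = xG hp.inList (D.simple i) (b i * a)) ∧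
      ∀ i : Fin l, ∀ a, t * xG hp.inList (D.neg (D.simple i)) a * t⁻¹ =
        xG hp.inList (D.neg (D.simple i)) ((b i)⁻¹ * a) := by
  choose e he using hb
  have he0 : ∀ i, e i ≠ 0 := fun i h => hb0 i (by rw [← he, h, zero_pow hm])
  obtain ⟨c, hcdef⟩ : ∃ c : ℕ → F, c = fun j => if hj : j < l then ∏ i, e i ^ B i ⟨j, hj⟩ else 1 := ⟨_, rfl⟩
  have hcj : ∀ j : Fin l, c j = ∏ i, e i ^ B i j := fun j => by rw [hcdef]; exact dif_pos j.2
  have hc0 : ∀ j < D.rank, c j ≠ 0 := by
    intro j hj
    have hjl : j < l := by rw [← hp.rank_eq]; exact hj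
    have := hcj ⟨j, hjl⟩
    rw [show c j = _ from this]
    exact Finset.prod_ne_zero_iff.2 fun i _ => zpow_ne_zero _ (he0 i)
  have hzp : ∀ (i : Fin l) (s : Finset (Fin l)) (g : Fin l → ℤ), ∏ j ∈ s, e i ^ g j = e i ^ ∑ j ∈ s, g j := by
    intro i s g
    induction s using Finset.induction_on with
    | empty => simp
    | insert b s hb ih => rw [Finset.prod_insert hb, Finset.sum_insert hb, ih, zpow_add₀ (he0 i)]
  have hprod : ∀ k : Fin l, ∏ j ∈ Finset.range D.rank, c j ^ D.cartan j (D.simple k) = b k := by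
    intro k
    rw [hp.rank_eq, ← Fin.prod_univ_eq_prod_range (fun j => c j ^ D.cartan j (D.simple k)) l]
    have h1 : ∀ j : Fin l, c j ^ D.cartan j (D.simple k) = ∏ i, e i ^ (B i j * D.cartan j (D.simple k)) := by
      intro j
      rw [hcj, ← Finset.prod_zpow]
      exact Finset.prod_congr rfl fun i _ => (zpow_mul _ _ _).symm
    rw [Finset.prod_congr rfl fun j _ => h1 j, Finset.prod_comm,
      Finset.prod_congr rfl fun i _ => hzp i Finset.univ fun j => B i j * D.cartan j (D.simple k),
      Finset.prod_congr rfl fun i _ => congrArg (e i ^ ·) (hB i k), Finset.prod_eq_single k]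
    · rw [if_pos rfl, zpow_natCast, he]
    · intro i _ hi
      rw [if_neg hi, zpow_zero]
    · intro h
      exact absurd (Finset.mem_univ k) h
  obtain ⟨t, ht, -, hact⟩ := exists_prod hp c hc0 D.rank le_rfl
  refine ⟨t, ht, fun i a => ?_, fun i a => ?_⟩
  · rw [hact _ (simple_lt hp.inList (lt_rank hp i)), hprod]
  · have hlt := simple_lt hp.inList (lt_rank hp i)
    rw [hact _ (neg_lt hp.inList hlt)]
    congr 2
    rw [← hprod i, ← Finset.prod_inv_distrib]
    refine Finset.prod_congr rfl fun j hj => ?_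
    rw [cartan_neg hp (Finset.mem_range.1 hj) hlt, zpow_neg]

end Cfsg.Agent.H129.Tor
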