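import Cfsg.Agent.BpExc.NChev
import Cfsg.Agent.BpExc.EmbSplit
import Cfsg.Agent.H129.Tor
set_option linter.all false

/-!
# The torus of `D.group k` and its character lattice (helper129)

`D` a tabulated datum of type `hp : IsType D l M`, `k` a field, `t` in the torus `TT D k` of `D.group k`.

* `cX hp t x` : the value on `t` of the character `x : Fin l → ℤ` of the root lattice;
* `IsMC φ` : `φ` is multiplicative; `isMC_cX`, `cX_root`, `cX_mul`, `cX_inj`, `cX_rp`, `cX_sigma`;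
* `exists_cX` : over an algebraically closed field every multiplicative `φ` is `cX hp t` for some `t` in the torus.
-/

set_option autoImplicit false
set_option linter.unusedSectionVars false

namespace Cfsg.Agent.H129.TorusChar

open CoxeterSystem Cfsg Cfsg.Lie Cfsg.Lie.ChevalleyDatum
open Cfsg.Agent.ChevalleyStructure Cfsg.Agent.ChevalleyStructure.Elts Cfsg.Agent.ChevalleyStructure.CoxeterGeom
  Cfsg.Agent.ChevalleyStructure.CoxeterGeomTypes Cfsg.Agent.ChevalleyStructure.NPerm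
open Cfsg.Agent.Tits.Roots Cfsg.Agent.Tits.Core Cfsg.Agent.Nodes Cfsg.Agent.Nodes.Reps Cfsg.Agent.Nodes.BNOf
  Cfsg.Agent.Nodes.RGDChev Cfsg.Agent.Nodes.Bruhat
open Cfsg.Agent.KFacts.RgdField Cfsg.Agent.KFacts.RgdChevCoord Cfsg.Agent.BpExc.TorCent Cfsg.Agent.BpExc.TorChev
open Cfsg.Agent.GpExc.Field Cfsg.Agent.BpExc.Tow Cfsg.Agent.BpExc.TowChev Cfsg.Agent.BpExc.Fr
  Cfsg.Agent.BpExc.LangFr Cfsg.Agent.LangThm Cfsg.Agent.BpExc

universe u

/-! ### multiplicative functions on the lattice -/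

/-- `φ` is multiplicative on the lattice `ℤ^l`. -/
structure IsMC {l : ℕ} {k : Type u} [Field k] (φ : (Fin l → ℤ) → k) : Prop where
  zero : φ 0 = 1
  add : ∀ x y, φ (x + y) = φ x * φ y

namespace IsMC

variable {l : ℕ} {k : Type u} [Field k] {φ ψ : (Fin l → ℤ) → k} (h : IsMC φ)

include h

theorem neg_mul (x : Fin l → ℤ) : φ x * φ (-x) = 1 := by
  rw [← h.add, add_neg_cancel, h.zero]

theorem ne_zero (x : Fin l → ℤ) : φ x ≠ 0 := left_ne_zero_of_mul_eq_one (h.neg_mul x)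

theorem neg (x : Fin l → ℤ) : φ (-x) = (φ x)⁻¹ := eq_inv_of_mul_eq_one_right (h.neg_mul x)

theorem sub (x y : Fin l → ℤ) : φ (x - y) = φ x / φ y := by
  rw [sub_eq_add_neg, h.add, h.neg, div_eq_mul_inv]

theorem nsmul (n : ℕ) (x : Fin l → ℤ) : φ (n • x) = φ x ^ n := by
  induction n with
  | zero => rw [zero_smul, h.zero, pow_zero]
  | succ n ih => rw [succ_nsmul, h.add, ih, pow_succ]

theorem zsmul (n : ℤ) (x : Fin l → ℤ) : φ (n • x) = φ x ^ n := by
  obtain ⟨m, rfl | rfl⟩ := Int.eq_nat_or_neg n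
  · rw [natCast_zsmul, h.nsmul, zpow_natCast]
  · rw [neg_smul, natCast_zsmul, h.neg, h.nsmul, zpow_neg, zpow_natCast]

theorem sum {ι : Type*} (s : Finset ι) (f : ι → Fin l → ℤ) : φ (∑ i ∈ s, f i) = ∏ i ∈ s, φ (f i) := by
  classical
  induction s using Finset.induction_on with
  | empty => rw [Finset.sum_empty, Finset.prod_empty, h.zero]
  | insert a s ha ih => rw [Finset.sum_insert ha, Finset.prod_insert ha, h.add, ih]

theorem sum_smul {ι : Type*} (s : Finset ι) (c : ι → ℤ) (f : ι → Fin l → ℤ) :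
    φ (∑ i ∈ s, c i • f i) = ∏ i ∈ s, φ (f i) ^ c i := by
  rw [h.sum]
  exact Finset.prod_congr rfl fun i _ => h.zsmul _ _

omit h in
theorem eq_sum_sr (x : Fin l → ℤ) : x = ∑ i, x i • (sr i : Fin l → ℤ) := by
  funext j
  rw [Finset.sum_apply]
  simp only [Pi.smul_apply, smul_eq_mul]
  rw [Finset.sum_eq_single j]
  · rw [sr_self, mul_one]
  · intro i _ hi
    rw [sr_ne (Ne.symm hi), mul_zero]
  · intro hj
    exact absurd (Finset.mem_univ j) hj

theorem eq_prod (x : Fin l → ℤ) : φ x = ∏ i, φ (sr i) ^ x i := by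
  conv_lhs => rw [eq_sum_sr x]
  exact h.sum_smul _ _ _

theorem ext (h' : IsMC ψ) (e : ∀ i, φ (sr i) = ψ (sr i)) (x : Fin l → ℤ) : φ x = ψ x := by
  rw [h.eq_prod, h'.eq_prod]
  exact Finset.prod_congr rfl fun i _ => by rw [e]

theorem comp (g : (Fin l → ℤ) →+ (Fin l → ℤ)) : IsMC (fun x => φ (g x)) where
  zero := by
    show φ (g 0) = 1
    rw [map_zero, h.zero]
  add x y := by
    show φ (g (x + y)) = φ (g x) * φ (g y)
    rw [map_add, h.add]

theorem pow (n : ℕ) : IsMC (fun x => φ x ^ n) where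
  zero := by
    show φ 0 ^ n = 1
    rw [h.zero, one_pow]
  add x y := by
    show φ (x + y) ^ n = φ x ^ n * φ y ^ n
    rw [h.add, mul_pow]

omit h in
/-- the multiplicative function `x ↦ ∏ c_i ^ x_i` -/
theorem of_prod (c : Fin l → k) (hc : ∀ i, c i ≠ 0) : IsMC (fun x : Fin l → ℤ => ∏ i, c i ^ x i) where
  zero := by simp
  add x y := by
    show ∏ i, c i ^ (x + y) i = _
    rw [← Finset.prod_mul_distrib]
    exact Finset.prod_congr rfl fun i _ => by rw [Pi.add_apply, zpow_add₀ (hc i)]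

end IsMC

/-! ### the characters -/

variable {D : ChevalleyDatum} {l : ℕ} {M : CoxeterMatrix (Fin l)} (hp : IsType D l M) {k : Type u} [Field k]

/-- The value of the character `x` of the root lattice on `t`. -/
noncomputable def cX (hp : IsType D l M) (t : ↥(D.group k)) (x : Fin l → ℤ) : k := ∏ i, ch hp (sr i) t ^ x i

theorem ch_sr_act {t : ↥(D.group k)} (ht : t ∈ TT D k) (i : Fin l) :
    ch hp (sr i) t ≠ 0 ∧ ∀ a, t * xc hp (sr i) a * t⁻¹ = xc hp (sr i) (ch hp (sr i) t * a) := by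
  have h := act hp (simple_lt hp.inList (lt_rank hp i)) ht
  rwa [vec_simple hp i] at h

theorem isMC_cX {t : ↥(D.group k)} (ht : t ∈ TT D k) : IsMC (cX hp t) :=
  IsMC.of_prod _ fun i => (ch_sr_act hp ht i).1

theorem cX_sr (t : ↥(D.group k)) (i : Fin l) : cX hp t (sr i) = ch hp (sr i) t := by
  unfold cX
  rw [Finset.prod_eq_single i]
  · rw [sr_self, zpow_one]
  · intro j _ hj
    rw [sr_ne hj, zpow_zero]
  · intro hi
    exact absurd (Finset.mem_univ i) hi

theorem ch_mul {r : ℕ} (hr : r < D.nroots) {s t : ↥(D.group k)} (hs : s ∈ TT D k) (ht : t ∈ TT D k) :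
    ch hp (vec D l r) (s * t) = ch hp (vec D l r) s * ch hp (vec D l r) t := by
  apply ch_eq hp hr (mul_mem hs ht)
  have h2 : s * t * xc hp (vec D l r) 1 * (s * t)⁻¹ = s * (t * xc hp (vec D l r) 1 * t⁻¹) * s⁻¹ := by group
  rw [h2, (act hp hr ht).2, (act hp hr hs).2, mul_one]

theorem cX_mul {s t : ↥(D.group k)} (hs : s ∈ TT D k) (ht : t ∈ TT D k) (x : Fin l → ℤ) :
    cX hp (s * t) x = cX hp s x * cX hp t x := by
  unfold cX
  rw [← Finset.prod_mul_distrib]
  refine Finset.prod_congr rfl fun i _ => ?_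
  have h := ch_mul hp (simple_lt hp.inList (lt_rank hp i)) hs ht
  rw [vec_simple hp i] at h
  rw [h, mul_zpow]

theorem cX_one (x : Fin l → ℤ) : cX hp (1 : ↥(D.group k)) x = 1 := by
  have h := cX_mul hp (one_mem (TT D k)) (one_mem _) x
  rw [mul_one] at h
  exact (mul_eq_left₀ ((isMC_cX hp (one_mem (TT D k))).ne_zero x)).1 h.symm

theorem cX_pow {t : ↥(D.group k)} (ht : t ∈ TT D k) (n : ℕ) (x : Fin l → ℤ) :
    cX hp (t ^ n) x = cX hp t x ^ n := by
  induction n with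
  | zero => rw [pow_zero, pow_zero, cX_one]
  | succ n ih => rw [pow_succ, pow_succ, cX_mul hp (pow_mem ht n) ht, ih]

/-- The characters of the roots. -/
theorem cX_vec {t : ↥(D.group k)} (ht : t ∈ TT D k) {r : ℕ} (hr : r < D.nroots) :
    cX hp t (vec D l r) = ch hp (vec D l r) t := by
  rw [Subgroup.mem_subgroupOf] at ht
  obtain ⟨c, hc, -, hact⟩ := Tor.exists_c hp ht
  have key : ∀ s, s < D.nroots → ch hp (vec D l s) t = ∏ i ∈ Finset.range D.rank, c i ^ D.cartan i s := by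
    intro s hs
    apply ch_eq hp hs ht
    apply Subtype.ext
    rw [Subgroup.coe_mul, Subgroup.coe_mul, Subgroup.coe_inv, coe_xc hp hs, coe_xc hp hs, hact s hs, mul_one]
  rw [key r hr, Tor.prod_eq hp c hc hr]
  unfold cX
  refine Finset.prod_congr rfl fun i _ => ?_
  rw [← vec_simple hp i, key _ (simple_lt hp.inList (lt_rank hp i))]

theorem cX_root {W : Type*} [Group W] (cs : CoxeterSystem M W) {t : ↥(D.group k)} (ht : t ∈ TT D k) {a : Fin l → ℤ}
    (ha : IsRoot cs hp.isCartan a) : cX hp t a = ch hp a t := by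
  obtain ⟨r, hr, rfl⟩ := (isRoot_iff hp cs a).1 ha
  exact cX_vec hp ht hr

/-- **Torus elements are determined by their characters.** -/
theorem cX_inj {s t : ↥(D.group k)} (hs : s ∈ TT D k) (ht : t ∈ TT D k)
    (h : ∀ i, cX hp s (sr i) = cX hp t (sr i)) : s = t := by
  apply Subtype.ext
  refine Tor.eq_of_act hp hs ht fun i => ?_
  have h1 := congrArg Subtype.val ((ch_sr_act hp hs i).2 1)
  have h2 := congrArg Subtype.val ((ch_sr_act hp ht i).2 1)
  have e : ch hp (sr i) s = ch hp (sr i) t := by rw [← cX_sr, ← cX_sr, h i]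
  rw [e] at h1
  have h3 := h1.trans h2.symm
  rw [Subgroup.coe_mul, Subgroup.coe_mul, Subgroup.coe_inv, Subgroup.coe_mul, Subgroup.coe_mul, Subgroup.coe_inv,
    ← vec_simple hp i, coe_xc hp (simple_lt hp.inList (lt_rank hp i))] at h3
  exact h3

/-! ### existence of torus elements -/

/-- `B * A = d` -/
def InvC (D : ChevalleyDatum) (l d : ℕ) (B : Fin l → Fin l → ℤ) : Prop :=
  ∀ m i, ∑ j, B m j * cartanOf D l j i = if m = i then (d : ℤ) else 0

instance decInvC (D : ChevalleyDatum) (l d : ℕ) (B : Fin l → Fin l → ℤ) : Decidable (InvC D l d B) := by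
  unfold InvC; infer_instance

/-- **Existence of torus elements.** -/
theorem exists_cX {d : ℕ} {B : Fin l → Fin l → ℤ} (hB : InvC D l d B) (hd : d ≠ 0) {φ : (Fin l → ℤ) → k}
    (hφ : IsMC φ) (hr : ∀ i, ∃ b : k, b ^ d = φ (sr i)) : ∃ t ∈ TT D k, ∀ x, cX hp t x = φ x := by
  obtain ⟨t, ht, h1, -⟩ := Tor.exists_diag hp (F := k) (m := d) (B := B) hB (b := fun i => φ (sr i))
    (fun i => hφ.ne_zero _) hr hd
  have htG : t ∈ D.group k := by
    exact (diagonal_le_group hp.inList k) ht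
  refine ⟨⟨t, htG⟩, ht, ?_⟩
  refine (isMC_cX hp (t := ⟨t, htG⟩) ht).ext hφ fun i => ?_
  have h2 : ch hp (vec D l (D.simple i)) (⟨t, htG⟩ : ↥(D.group k)) = φ (sr i) := by
    apply ch_eq hp (simple_lt hp.inList (lt_rank hp i)) ht
    apply Subtype.ext
    rw [Subgroup.coe_mul, Subgroup.coe_mul, Subgroup.coe_inv, coe_xc hp (simple_lt hp.inList (lt_rank hp i)),
      coe_xc hp (simple_lt hp.inList (lt_rank hp i)), h1, mul_one]
  rw [cX_sr, ← h2, vec_simple hp i]

theorem invC_G2 : InvC chevG2 2 1 ![![2, 3], ![1, 2]] := by decide +kernel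
theorem invC_D4 : InvC chevD4 4 2 ![![2, 2, 1, 1], ![2, 4, 2, 2], ![1, 2, 2, 1], ![1, 2, 1, 2]] := by decide +kernel
theorem invC_F4 : InvC chevF4 4 1 ![![2, 3, 4, 2], ![3, 6, 8, 4], ![2, 4, 6, 3], ![1, 2, 3, 2]] := by decide +kernel
theorem invC_E6 : InvC chevE6 6 3 ![![4, 3, 5, 6, 4, 2], ![3, 6, 6, 9, 6, 3], ![5, 6, 10, 12, 8, 4],
    ![6, 9, 12, 18, 12, 6], ![4, 6, 8, 12, 10, 5], ![2, 3, 4, 6, 5, 4]] := by decide +kernel
theorem invC_E7 : InvC chevE7 7 2 ![![4, 4, 6, 8, 6, 4, 2], ![4, 7, 8, 12, 9, 6, 3], ![6, 8, 12, 16, 12, 8, 4],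
    ![8, 12, 16, 24, 18, 12, 6], ![6, 9, 12, 18, 15, 10, 5], ![4, 6, 8, 12, 10, 8, 4],
    ![2, 3, 4, 6, 5, 4, 3]] := by decide +kernel
theorem invC_E8 : InvC chevE8 8 1 ![![4, 5, 7, 10, 8, 6, 4, 2], ![5, 8, 10, 15, 12, 9, 6, 3],
    ![7, 10, 14, 20, 16, 12, 8, 4], ![10, 15, 20, 30, 24, 18, 12, 6], ![8, 12, 16, 24, 20, 15, 10, 5],
    ![6, 9, 12, 18, 15, 12, 8, 4], ![4, 6, 8, 12, 10, 8, 6, 3], ![2, 3, 4, 6, 5, 4, 3, 2]] := by decide +kernel

/-! ### the Weyl group and the frame automorphisms -/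

section Act

variable {W : Type*} [Group W] (cs : CoxeterSystem M W)

theorem cX_rp {hN : NSys M (TT D k) (nc hp k)} (hk : LocFin k) (p : ℕ) [Fact p.Prime] [CharP k p] {w : W}
    {g : ↥(D.group k)} (hg : Rp cs hN w g) {t : ↥(D.group k)} (ht : t ∈ TT D k) (x : Fin l → ℤ) :
    cX hp (g * t * g⁻¹) (rep cs hp.isCartan w x) = cX hp t x := by
  have ht' : g * t * g⁻¹ ∈ TT D k := (Subgroup.mem_normalizer_iff.1 hg.mem_normalizer t).1 ht
  have C := coordsL hp cs hk p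
  refine ((isMC_cX hp ht').comp (rep cs hp.isCartan w).toAddMonoidHom).ext (isMC_cX hp ht) (fun i => ?_) x
  show cX hp (g * t * g⁻¹) (rep cs hp.isCartan w (sr i)) = _
  rw [cX_root hp cs ht' ((isRoot_sr cs hp.isCartan i).act w), cX_sr]
  exact C.chi_rp hN hg (isRoot_sr cs hp.isCartan i) ht

variable {p e : ℕ} [Fact p.Prime] [CharP k p] {σ : MulAut ↥(D.group k)} {g : (Fin l → ℤ) ≃+ (Fin l → ℤ)}

theorem ch_sigma [IsAlgClosed k] (hσ : IsFrob p e σ) (F : Fr cs hp.isCartan (TT D k) (XX D l k) σ g)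
    {a : Fin l → ℤ} (ha : IsRoot cs hp.isCartan a) {t : ↥(D.group k)} (ht : t ∈ TT D k) :
    ch hp (g a) (σ t) = ch hp a t ^ p ^ e := by
  obtain ⟨c, hc, h1⟩ := HX.fr_xc hp cs hσ F ha
  obtain ⟨r, hr, rfl⟩ := (isRoot_iff hp cs a).1 ha
  obtain ⟨s, hs, hrs⟩ := (isRoot_iff hp cs (g (vec D l r))).1 ((F.root _).2 ha)
  rw [← hrs] at h1 ⊢
  have hσt : σ t ∈ TT D k := (F.tor t).2 ht
  have h2 := congrArg σ ((act hp hr ht).2 1)
  rw [map_mul, map_mul, map_inv, h1, h1, (act hp hs hσt).2, mul_one, one_pow, mul_one] at h2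
  have h3 := xc_inj hp hs h2
  rw [mul_comm c] at h3
  exact mul_right_cancel₀ hc h3

theorem cX_sigma [IsAlgClosed k] (hσ : IsFrob p e σ) (F : Fr cs hp.isCartan (TT D k) (XX D l k) σ g)
    {t : ↥(D.group k)} (ht : t ∈ TT D k) (x : Fin l → ℤ) : cX hp (σ t) (g x) = cX hp t x ^ p ^ e := by
  have hσt : σ t ∈ TT D k := (F.tor t).2 ht
  refine ((isMC_cX hp hσt).comp g.toAddMonoidHom).ext ((isMC_cX hp ht).pow (p ^ e)) (fun i => ?_) x
  show cX hp (σ t) (g (sr i)) = cX hp t (sr i) ^ p ^ e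
  rw [cX_root hp cs hσt ((F.root _).2 (isRoot_sr cs hp.isCartan i)), cX_sr]
  exact ch_sigma hp cs hσ F (isRoot_sr cs hp.isCartan i) ht

end Act

end Cfsg.Agent.H129.TorusChar
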