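import Cfsg.Agent.H129.TorusMain
import Cfsg.Agent.ChevStructure.FieldMap
import Cfsg.Agent.BpExc.EmbSplit
set_option linter.all false

/-!
# Self-centralising cyclic tori of the untwisted groups (helper129)

* `phi` : the Frobenius automorphism of `D.group k`;
* `isFrob_phi`, `fr_phi` : it is a frame automorphism with trivial action on the root lattice;
* `fix_split` : `Y^φ = emb (D.group F) * T^φ`;
* `fix_range` : `Y^φ = emb (D.group F)` if the inverse Cartan matrix is integral;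
* `untw_one` : the main theorem for these types.
-/

set_option autoImplicit false
set_option linter.unusedSectionVars false

namespace Cfsg.Agent.H129.TorusUntw

open CoxeterSystem Cfsg Cfsg.Lie Cfsg.Lie.ChevalleyDatum
open Cfsg.Agent.ChevalleyStructure Cfsg.Agent.ChevalleyStructure.Elts Cfsg.Agent.ChevalleyStructure.CoxeterGeom
  Cfsg.Agent.ChevalleyStructure.CoxeterGeomTypes Cfsg.Agent.ChevalleyStructure.NPerm
open Cfsg.Agent.Tits.Roots Cfsg.Agent.Tits.Core Cfsg.Agent.Nodes Cfsg.Agent.Nodes.Reps Cfsg.Agent.Nodes.BNOf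
  Cfsg.Agent.Nodes.RGDChev Cfsg.Agent.Nodes.Bruhat Cfsg.Agent.Nodes.SubComb Cfsg.Agent.Nodes.Coroot
open Cfsg.Agent.KFacts.RgdField Cfsg.Agent.KFacts.RgdChevCoord Cfsg.Agent.BpExc.TorCent Cfsg.Agent.BpExc.TorChev
open Cfsg.Agent.GpExc.Field Cfsg.Agent.BpExc.Tow Cfsg.Agent.BpExc.TowChev Cfsg.Agent.BpExc.Fr
  Cfsg.Agent.BpExc.LangFr Cfsg.Agent.LangThm Cfsg.Agent.BpExc Cfsg.Agent.H129.TorusChar Cfsg.Agent.H129.TorusCent
  Cfsg.Agent.H129.TorusTw Cfsg.Agent.H129.TorusMain Cfsg.Agent.ChevStructure.FieldMap Cfsg.Agent.BpExc.EmbSplit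

universe u

variable {D : ChevalleyDatum} {l : ℕ} {M : CoxeterMatrix (Fin l)} (hp : IsType D l M) {k : Type u} [Field k]
  {W : Type*} [Group W] (cs : CoxeterSystem M W) {p e : ℕ} [Fact p.Prime] [CharP k p]

/-- The Frobenius automorphism. -/
noncomputable def phi (D : ChevalleyDatum) (k : Type u) [Field k] [IsAlgClosed k] (p e : ℕ) [Fact p.Prime]
    [CharP k p] : MulAut ↥(D.group k) :=
  groupEquivOfRingEquiv D (iterateFrobeniusEquiv k p e)

theorem coe_phi [IsAlgClosed k] (g : ↥(D.group k)) :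
    ((phi D k p e g : ↥(D.group k)) : GL D.Idx k) = glMap D (iterateFrobenius k p e) g := by
  apply Units.ext
  rw [coe_glMap]
  exact groupEquivOfRingEquiv_coe D _ g

theorem phi_eq [IsAlgClosed k] (g : ↥(D.group k)) : phi D k p e g = emb hp.inList (iterateFrobenius k p e) g :=
  Subtype.ext (coe_phi g)

theorem phi_inv_eq [IsAlgClosed k] (g : ↥(D.group k)) :
    (phi D k p e)⁻¹ g = emb hp.inList ((iterateFrobeniusEquiv k p e).symm : k →+* k) g := by
  apply (phi D k p e).injective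
  rw [MulAut.apply_inv_self, phi_eq hp, emb_comp]
  have h : (iterateFrobenius k p e).comp ((iterateFrobeniusEquiv k p e).symm : k →+* k) = RingHom.id k := by
    ext x
    exact (iterateFrobeniusEquiv k p e).apply_symm_apply x
  rw [h]
  apply Subtype.ext
  apply Units.ext
  rw [coe_emb, coe_glMap]
  ext i j
  rfl

theorem isFrob_phi [IsAlgClosed k] : IsFrob p e (phi D k p e) :=
  ⟨1, fun g => by
    rw [one_mul, inv_one, mul_one, coe_phi]
    apply co_injective
    funext ij
    rw [co_frob]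
    rfl⟩

theorem fr_phi [IsAlgClosed k] :
    Fr cs hp.isCartan (TT D k) (XX D l k) (phi D k p e) (AddEquiv.refl (Fin l → ℤ)) where
  tor t := by
    constructor
    · intro h
      have h1 := emb_T hp ((iterateFrobeniusEquiv k p e).symm : k →+* k) ⟨_, h, rfl⟩
      rwa [← phi_inv_eq hp, MulAut.inv_apply_self] at h1
    · intro h
      rw [phi_eq hp]
      exact emb_T hp _ ⟨t, h, rfl⟩
  root _ := Iff.rfl
  map a ha y := by
    constructor
    · intro h
      have h1 := emb_X hp ((iterateFrobeniusEquiv k p e).symm : k →+* k) cs ha ⟨_, h, rfl⟩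
      rwa [← phi_inv_eq hp, MulAut.inv_apply_self] at h1
    · intro h
      rw [phi_eq hp]
      exact emb_X hp _ cs ha ⟨y, h, rfl⟩

include cs in
theorem nsys_of_locFin (hk : LocFin k) (p : ℕ) [Fact p.Prime] [CharP k p] : NSys M (TT D k) (nc hp k) := by
  rw [← TL_eq hp hk]
  exact (tow hp cs hk p).nsys

section Fix

variable {F : Type u} [Field F] [Fintype F] (f : F →+* k)

/-- The fixed elements of the Frobenius in `k`. -/
theorem frob_fix_iff (hq : Fintype.card F = p ^ e) (x : k) :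
    iterateFrobenius k p e x = x ↔ x ∈ Set.range f := by
  refine Emb.fix_iff_range (F := F) (f := f) (φ := iterateFrobenius k p e) (fun t => ?_) x
  rw [iterateFrobenius_def, hq]

theorem phi_emb [IsAlgClosed k] (hq : Fintype.card F = p ^ e) (x : ↥(D.group F)) :
    phi D k p e (emb hp.inList f x) = emb hp.inList f x := by
  rw [phi_eq hp, emb_comp]
  congr 1
  have h : (iterateFrobenius k p e).comp f = f := by
    ext a
    exact (frob_fix_iff f hq (f a)).2 ⟨a, rfl⟩
  rw [h]

include hp in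
theorem fix_split [IsAlgClosed k] (hq : Fintype.card F = p ^ e) {g : ↥(D.group k)} (hg : phi D k p e g = g) :
    ∃ (x : ↥(D.group F)) (t : ↥(D.group k)), t ∈ TT D k ∧ g = emb hp.inList f x * t := by
  have h1 : glMap D (iterateFrobenius k p e) (g : GL D.Idx k) = g := by
    rw [← coe_phi, hg]
  obtain ⟨x, hx, t, ht, e1⟩ := untw_split hp.inList (frob_fix_iff f hq) g.2 h1
  refine ⟨⟨x, hx⟩, ⟨t, diagonal_le_group hp.inList k ht⟩, ht, ?_⟩
  apply Subtype.ext
  rw [Subgroup.coe_mul, coe_emb]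
  exact e1

/-- A torus element all whose character values are in the range of `f` and have `d`-th roots there. -/
theorem torus_range {d : ℕ} {B : Fin l → Fin l → ℤ} (hB : InvC D l d B) (hd : d ≠ 0) {t : ↥(D.group k)}
    (ht : t ∈ TT D k) (h : ∀ i, ∃ b : F, f b ^ d = cX hp t (sr i)) : t ∈ (emb hp.inList f).range := by
  choose b hb using h
  have hb0 : ∀ i, b i ≠ 0 := by
    intro i h0
    have h1 := hb i
    rw [h0, map_zero, zero_pow hd] at h1
    exact (isMC_cX hp ht).ne_zero _ h1.symm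
  have hφ : IsMC (fun x : Fin l → ℤ => ∏ i, (b i ^ d) ^ x i) := IsMC.of_prod _ fun i => pow_ne_zero _ (hb0 i)
  have hval : ∀ i, (fun x : Fin l → ℤ => ∏ i, (b i ^ d) ^ x i) (sr i) = b i ^ d := by
    intro i
    show ∏ j, (b j ^ d) ^ (sr i : Fin l → ℤ) j = _
    rw [Finset.prod_eq_single i]
    · rw [sr_self, zpow_one]
    · intro j _ hj
      rw [sr_ne hj, zpow_zero]
    · intro hi
      exact absurd (Finset.mem_univ i) hi
  obtain ⟨t', ht', hc⟩ := exists_cX hp hB hd hφ (fun i => ⟨b i, (hval i).symm⟩)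
  refine ⟨t', ?_⟩
  have h1 : emb hp.inList f t' ∈ TT D k := emb_T hp f ⟨t', ht', rfl⟩
  refine cX_inj hp h1 ht fun i => ?_
  have h2 := emb_ch hp f (simple_lt hp.inList (lt_rank hp i)) ht'
  rw [vec_simple hp i] at h2
  have h3 : cX hp t' (sr i) = b i ^ d := by rw [hc]; exact hval i
  rw [cX_sr, h2, ← cX_sr, h3, map_pow, hb]

include hp cs in
/-- The values of the characters of a fixed torus element. -/
theorem fix_cX [IsAlgClosed k] (hq : Fintype.card F = p ^ e) {t : ↥(D.group k)} (ht : t ∈ TT D k)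
    (hf : phi D k p e t = t) (x : Fin l → ℤ) : cX hp t x ∈ Set.range f := by
  rw [← frob_fix_iff f hq]
  have h := cX_sigma hp cs isFrob_phi (fr_phi (p := p) (e := e) hp cs) ht x
  rw [hf] at h
  rw [iterateFrobenius_def]
  exact h.symm

include cs in
/-- `y ^ d` in the image. -/
theorem fix_pow [IsAlgClosed k] (hq : Fintype.card F = p ^ e) {d : ℕ} {B : Fin l → Fin l → ℤ}
    (hB : InvC D l d B) (hd : d ≠ 0) {t : ↥(D.group k)} (ht : t ∈ TT D k) (hf : phi D k p e t = t) :
    t ^ d ∈ (emb hp.inList f).range := by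
  refine torus_range hp f hB hd (pow_mem ht d) fun i => ?_
  obtain ⟨b, hb⟩ := fix_cX hp cs f hq ht hf (sr i)
  exact ⟨b, by rw [hb, cX_pow hp ht]⟩

include cs in
/-- **The fixed points of the Frobenius**, if every element of the image has a `d`-th root there. -/
theorem fix_range [IsAlgClosed k] (hq : Fintype.card F = p ^ e) {d : ℕ} {B : Fin l → Fin l → ℤ}
    (hB : InvC D l d B) (hd : d ≠ 0) (hF : ∀ a : F, ∃ b : F, b ^ d = a) {g : ↥(D.group k)}
    (hg : phi D k p e g = g) : g ∈ (emb hp.inList f).range := by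
  obtain ⟨x, t, ht, rfl⟩ := fix_split hp f hq hg
  rw [map_mul, phi_emb hp f hq] at hg
  have hf : phi D k p e t = t := mul_left_cancel hg
  refine mul_mem ⟨x, rfl⟩ (torus_range hp f hB hd ht fun i => ?_)
  obtain ⟨b, hb⟩ := fix_cX hp cs f hq ht hf (sr i)
  obtain ⟨c, hc⟩ := hF b
  exact ⟨c, by rw [← map_pow, hc, hb]⟩

end Fix

/-- The algebraic closure of a finite field. -/
theorem exists_closure {F : Type u} [Field F] [Fintype F] {q : ℕ} (hq : Fintype.card F = q) :
    ∃ (p e : ℕ) (_ : Fact p.Prime) (_ : CharP F p) (_ : CharP (AlgebraicClosure F) p), 0 < e ∧ q = p ^ e ∧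
      LocFin (AlgebraicClosure F) := by
  obtain ⟨p, hp'⟩ := CharP.exists F
  have : Fact p.Prime := ⟨CharP.char_is_prime F p⟩
  obtain ⟨n, -, h2⟩ := FiniteField.card F p
  have h3 : CharP (AlgebraicClosure F) p := charP_of_injective_algebraMap (algebraMap F _).injective p
  refine ⟨p, n, this, hp', h3, n.pos, by rw [← hq, h2], ?_⟩
  let _ := ZMod.algebra F p
  have : Algebra.IsAlgebraic (ZMod p) F := Algebra.IsAlgebraic.of_finite _ _
  have : Algebra.IsAlgebraic (ZMod p) (AlgebraicClosure F) := Algebra.IsAlgebraic.trans (ZMod p) F _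
  exact locFin_of_isAlgebraic p _

theorem conj_fixed {Y : Type*} [Group Y] {σ : MulAut Y} {n z t s : Y} (hz : n = z⁻¹ * σ z) (hτ : n * σ t * n⁻¹ = t)
    (hs : s ∈ Subgroup.zpowers t) : σ (z * s * z⁻¹) = z * s * z⁻¹ := by
  obtain ⟨m, rfl⟩ := hs
  have h1 : σ (z * t * z⁻¹) = z * t * z⁻¹ := by
    have h2 : σ z = z * n := by rw [hz]; group
    rw [map_mul, map_mul, map_inv, h2]
    calc z * n * σ t * (z * n)⁻¹ = z * (n * σ t * n⁻¹) * z⁻¹ := by group
      _ = z * t * z⁻¹ := by rw [hτ]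
  show σ (z * t ^ m * z⁻¹) = z * t ^ m * z⁻¹
  rw [← conj_zpow, map_zpow, h1]

/-- **The main theorem for the untwisted groups whose fixed points are the finite group.** -/
theorem untw_one [Finite W] (hl : 0 < l) {F : Type u} [Field F] [Fintype F] {q : ℕ} (hq : Fintype.card F = q)
    {d' : ℕ} {B' : Fin l → Fin l → ℤ} (hB : InvC D l d' B') (hd' : d' ≠ 0) (hF : ∀ a : F, ∃ b : F, b ^ d' = a)
    (w : W) {V B : Fin l → Fin l → ℤ} {c : Fin l → ℤ}
    (h : Cyc l (theta hp cs w (AddEquiv.refl (Fin l → ℤ))) V B c) {N r : ℕ} (hfN : fN c (q : ℤ) = N)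
    (hqN : q.Coprime N) (hr : r.Prime) (hrW : ¬ r ∣ Nat.card W) (hrN : r ∣ N)
    (hC : ∀ a, IsRoot cs hp.isCartan a → (r : ℤ) ∣ Gq B (q : ℤ) a → ¬ (N : ℤ) ∣ 2 * Gq B (q : ℤ) a)
    (hO : Orth hp cs {a | IsRoot cs hp.isCartan a ∧ (r : ℤ) ∣ Gq B (q : ℤ) a}) :
    ∃ H : Subgroup ↥(D.group F), IsCyclic ↥H ∧ Nat.card ↥H = N ∧
      Subgroup.centralizer (H : Set ↥(D.group F)) = H := by
  obtain ⟨p, e, hpF, hpc, hpk, he, rfl, hk⟩ := exists_closure hq
  have hpN : ¬ p ∣ N := fun h1 => by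
    have h2 : p ∣ Nat.gcd (p ^ e) N := Nat.dvd_gcd (dvd_pow_self p he.ne') h1
    rw [hqN] at h2
    exact hpF.out.one_lt.ne' (Nat.dvd_one.1 h2)
  have h1 := exists_cyclic (k := AlgebraicClosure F) hp cs hl hk (hN := nsys_of_locFin hp cs hk p) he isFrob_phi
    (fr_phi hp cs) hB hd' w h hfN hpN (d := 1) (r := r) (e0 := emb hp.inList (algebraMap F (AlgebraicClosure F)))
    (emb_injective hp.inList _) (phi_emb hp _ hq) hr hrW (by rwa [one_mul])
    (fun a ha h1 h2 => hC a ha h1 (by simpa using h2)) hO ?_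
  · simpa using h1
  · intro n z t u hn hz ht hτ _ _ s hs
    rw [pow_one]
    refine ⟨fun _ => hs, fun _ => ?_⟩
    refine fix_range hp cs _ hq hB hd' hF ?_
    exact conj_fixed hz hτ hs

end Cfsg.Agent.H129.TorusUntw
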