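import Cfsg.Agent.H129.TorusMain
set_option linter.all false

/-!
# Checks of explicit Weyl group data (helper129)

* `ChainOK`, `chain_rep` : the matrix of a product of simple reflections;
* `CycOK`, `cyc_of` : the cyclic lattices;
* `RootOK`, `root_ind` : an induction over all roots along the orbits of `θ`;
* `Gq_coef`, `not_dvd_G` : the functional `Gq` on the orbits of the roots.
-/

set_option autoImplicit false
set_option linter.unusedSectionVars false

namespace Cfsg.Agent.H129.WData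

open CoxeterSystem Cfsg Cfsg.Lie Cfsg.Lie.ChevalleyDatum
open Cfsg.Agent.ChevalleyStructure Cfsg.Agent.ChevalleyStructure.Elts Cfsg.Agent.ChevalleyStructure.CoxeterGeom
  Cfsg.Agent.ChevalleyStructure.CoxeterGeomTypes Cfsg.Agent.ChevalleyStructure.NPerm
  Cfsg.Agent.ChevalleyStructure.RootVec
open Cfsg.Agent.Tits.Roots Cfsg.Agent.Tits.Core Cfsg.Agent.Nodes Cfsg.Agent.Nodes.Reps Cfsg.Agent.Nodes.BNOf
  Cfsg.Agent.Nodes.RGDChev Cfsg.Agent.Nodes.Bruhat Cfsg.Agent.Nodes.SubComb Cfsg.Agent.Nodes.Coroot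
open Cfsg.Agent.H129.TorusChar Cfsg.Agent.H129.TorusCent Cfsg.Agent.H129.TorusTw Cfsg.Agent.H129.TorusMain

/-- square matrices, `U j` the image of the `j`-th simple root -/
abbrev Mat (l : ℕ) := Fin l → Fin l → ℤ

/-- the first matrix of a chain -/
def hd {l : ℕ} : List (Fin l × Mat l) → Mat l
  | [] => fun j m => if j = m then 1 else 0
  | (_, U) :: _ => U

/-- a chain of matrices of partial products of simple reflections -/
def ChainOK {l : ℕ} (A : Mat l) : List (Fin l × Mat l) → Prop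
  | [] => True
  | (i, U) :: L => (∀ j m, U j m = hd L j m - if m = i then ∑ n, A i n * hd L j n else 0) ∧ ChainOK A L

instance decChainOK {l : ℕ} (A : Mat l) : ∀ L : List (Fin l × Mat l), Decidable (ChainOK A L)
  | [] => isTrue trivial
  | (i, U) :: L =>
    have := decChainOK A L
    inferInstanceAs (Decidable ((∀ j m, U j m = hd L j m - if m = i then ∑ n, A i n * hd L j n else 0) ∧ ChainOK A L))

section

variable {D : ChevalleyDatum} {l : ℕ} {M : CoxeterMatrix (Fin l)} (hp : IsType D l M)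
  {W : Type*} [Group W] (cs : CoxeterSystem M W)

theorem chain_rep {A : Mat l} (hA : ∀ i j, A i j = cartanOf D l i j) {L : List (Fin l × Mat l)}
    (h : ChainOK A L) (j : Fin l) : rep cs hp.isCartan (cs.wordProd (L.map Prod.fst)) (sr j) = hd L j := by
  induction L with
  | nil =>
    rw [List.map_nil, wordProd_nil, map_one, Module.End.one_apply]
    funext m
    show (sr j : Fin l → ℤ) m = if j = m then 1 else 0
    by_cases hm : j = m
    · subst hm; rw [if_pos rfl, sr_self]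
    · rw [if_neg hm, sr_ne (Ne.symm hm)]
  | cons x L ih =>
    obtain ⟨i, U⟩ := x
    obtain ⟨h1, h2⟩ := h
    rw [List.map_cons, wordProd_cons, rep_mul_apply, ih h2, rep_simple_eq]
    funext m
    show (hd L j - pairing (cartanOf D l) i (hd L j) • sr i) m = U j m
    rw [h1, Pi.sub_apply, Pi.smul_apply, smul_eq_mul]
    have e : pairing (cartanOf D l) i (hd L j) = ∑ n, A i n * hd L j n := by
      unfold pairing
      exact Finset.sum_congr rfl fun n _ => by rw [hA]
    rw [e]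
    by_cases hm : m = i
    · subst hm; rw [if_pos rfl, sr_self, mul_one]
    · rw [if_neg hm, sr_ne hm, mul_zero]

/-- `θ` has the matrix `Th` -/
def Lin (θ : (Fin l → ℤ) →+ (Fin l → ℤ)) (Th : Mat l) : Prop := ∀ j, θ (sr j) = Th j

theorem Lin.apply {θ : (Fin l → ℤ) →+ (Fin l → ℤ)} {Th : Mat l} (h : Lin θ Th) (x : Fin l → ℤ) (m : Fin l) :
    θ x m = ∑ j, x j * Th j m := by
  conv_lhs => rw [IsMC.eq_sum_sr x]
  rw [map_sum, Finset.sum_apply]
  refine Finset.sum_congr rfl fun j _ => ?_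
  rw [map_zsmul, Pi.smul_apply, smul_eq_mul, h j]

theorem lin_refl {A : Mat l} (hA : ∀ i j, A i j = cartanOf D l i j) {L : List (Fin l × Mat l)}
    (h : ChainOK A L) :
    Lin (theta hp cs (cs.wordProd (L.map Prod.fst)) (AddEquiv.refl (Fin l → ℤ))) (hd L) := fun j => by
  rw [theta_apply, AddEquiv.refl_apply, chain_rep hp cs hA h]

/-- the checks for a cyclic lattice -/
def CycOK (l : ℕ) (Th V B : Mat l) (c : Fin l → ℤ) : Prop :=
  (∀ j m, (if j = m then 1 else 0) = ∑ i, B j i * V i m) ∧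
  (∀ i i', ∑ j, V i j * B j i' = if i = i' then 1 else 0) ∧
  (∀ i i' : Fin l, (i' : ℕ) = i + 1 → ∀ m, ∑ j, V i j * Th j m = V i' m) ∧
  (∀ i : Fin l, (i : ℕ) + 1 = l → ∀ m, ∑ j, V i j * Th j m = - ∑ j, c j * V j m)

instance decCycOK (l : ℕ) (Th V B : Mat l) (c : Fin l → ℤ) : Decidable (CycOK l Th V B c) := by
  unfold CycOK; infer_instance

theorem cyc_of {θ : (Fin l → ℤ) →+ (Fin l → ℤ)} {Th V B : Mat l} {c : Fin l → ℤ} (h : Lin θ Th)
    (hc : CycOK l Th V B c) : Cyc l θ V B c where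
  span j := by
    funext m
    rw [Finset.sum_apply]
    have h1 := hc.1 j m
    simp only [Pi.smul_apply, smul_eq_mul]
    rw [← h1]
    by_cases hm : j = m
    · subst hm; rw [if_pos rfl, sr_self]
    · rw [if_neg hm, sr_ne (Ne.symm hm)]
  dual := hc.2.1
  succ i i' hi := by
    funext m
    rw [h.apply]
    exact hc.2.2.1 i i' hi m
  last i hi := by
    funext m
    rw [h.apply, hc.2.2.2 i hi m, Pi.neg_apply, Finset.sum_apply]
    rfl

/-- the checks for the roots -/
def RootOK (D : ChevalleyDatum) (l : ℕ) (Th : Mat l) {m : ℕ} (R : Fin m → Fin l → ℤ) (prv dep : ℕ → ℕ) : Prop :=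
  ∀ r : Fin D.nroots, (∃ s, ∀ i : Fin l, rt D r i = R s i) ∨
    (prv r < D.nroots ∧ dep (prv r) < dep r ∧ ∀ i : Fin l, rt D r i = ∑ j : Fin l, rt D (prv r) j * Th j i)

instance decRootOK (D : ChevalleyDatum) (l : ℕ) (Th : Mat l) {m : ℕ} (R : Fin m → Fin l → ℤ) (prv dep : ℕ → ℕ) :
    Decidable (RootOK D l Th R prv dep) := by
  unfold RootOK; infer_instance

theorem root_ind {θ : (Fin l → ℤ) →+ (Fin l → ℤ)} {Th : Mat l} (h : Lin θ Th) {m : ℕ} {R : Fin m → Fin l → ℤ}
    {prv dep : ℕ → ℕ} (hR : RootOK D l Th R prv dep) {P : (Fin l → ℤ) → Prop} (h1 : ∀ s, P (R s))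
    (h2 : ∀ x, P x → P (θ x)) {a : Fin l → ℤ} (ha : IsRoot cs hp.isCartan a) : P a := by
  obtain ⟨r, hr, rfl⟩ := (isRoot_iff hp cs a).1 ha
  have key : ∀ n r : ℕ, r < D.nroots → dep r = n → P (vec D l r) := by
    intro n
    induction n using Nat.strong_induction_on with
    | _ n ih =>
      intro r hr hn
      rcases hR ⟨r, hr⟩ with ⟨s, hs⟩ | ⟨h3, h4, h5⟩
      · have e : vec D l r = R s := funext hs
        rw [e]
        exact h1 s
      · have e : vec D l r = θ (vec D l (prv r)) := by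
          funext i
          rw [h.apply]
          exact h5 i
        rw [e]
        exact h2 _ (ih _ (by rw [← hn]; exact h4) _ h3 rfl)
  exact key _ r hr rfl

end

/-! ### the functional -/

theorem Gq_coef {l : ℕ} (B : Mat l) (q : ℤ) (x g : Fin l → ℤ) (hg : ∀ i, ∑ j, x j * B j i = g i) :
    Gq B q x = ∑ i, g i * q ^ (i : ℕ) := by
  unfold Gq
  calc ∑ j, x j * ∑ i, B j i * q ^ (i : ℕ) = ∑ j, ∑ i, x j * B j i * q ^ (i : ℕ) := by
        refine Finset.sum_congr rfl fun j _ => ?_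
        rw [Finset.mul_sum]
        exact Finset.sum_congr rfl fun i _ => by ring
    _ = ∑ i, ∑ j, x j * B j i * q ^ (i : ℕ) := Finset.sum_comm
    _ = ∑ i, g i * q ^ (i : ℕ) := by
        refine Finset.sum_congr rfl fun i _ => ?_
        rw [← Finset.sum_mul, hg]

section

variable {D : ChevalleyDatum} {l : ℕ} {M : CoxeterMatrix (Fin l)} (hp : IsType D l M)
  {W : Type*} [Group W] (cs : CoxeterSystem M W)

/-- If `r ∣ f(q)` is prime to `q` and to the values of `Gq` on the representatives, then to the values on all roots. -/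
theorem not_dvd_G {θ : (Fin l → ℤ) →+ (Fin l → ℤ)} {Th V B : Mat l} {c : Fin l → ℤ} (h : Lin θ Th)
    (hc : Cyc l θ V B c) {m : ℕ} {R : Fin m → Fin l → ℤ} {prv dep : ℕ → ℕ} (hR : RootOK D l Th R prv dep)
    {q N r : ℕ} (hfN : fN c (q : ℤ) = N) (hr : r.Prime) (hrN : r ∣ N) (hqN : q.Coprime N)
    (hG : ∀ s, ¬ (r : ℤ) ∣ Gq B (q : ℤ) (R s)) {a : Fin l → ℤ} (ha : IsRoot cs hp.isCartan a) :
    ¬ (r : ℤ) ∣ Gq B (q : ℤ) a := by
  refine root_ind hp cs h hR (P := fun a => ¬ (r : ℤ) ∣ Gq B (q : ℤ) a) hG (fun x hx h3 => hx ?_) ha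
  have h4 := hc.dvd_G (q : ℤ) x
  rw [hfN] at h4
  have h5 : (r : ℤ) ∣ (q : ℤ) * Gq B (q : ℤ) x := by
    have h6 := (Int.natCast_dvd_natCast.2 hrN).trans h4
    have h7 := dvd_sub h3 h6
    rwa [sub_sub_cancel] at h7
  rcases (Nat.prime_iff_prime_int.1 hr).dvd_or_dvd h5 with h6 | h6
  · exfalso
    have h7 : r ∣ Nat.gcd q N := Nat.dvd_gcd (Int.natCast_dvd_natCast.1 h6) hrN
    rw [hqN] at h7
    exact hr.one_lt.ne' (Nat.dvd_one.1 h7)
  · exact h6

end

end Cfsg.Agent.H129.WData
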