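import Cfsg.Agent.H129.WData
import Cfsg.Agent.H129.RootFast
import Cfsg.Agent.Prune
set_option linter.all false
prune_inst 0x7f00000000000000000000000000000000000000000000000000000000000000000000000000000000000000000000000000000000000000000000000000000000000000000000000000000000000000003fffffffffffffffffffffffffffbeffbdffffffff
open scoped Cfsg.Agent.FastGrp

/-!
# Data of the torus of order `q⁷ + 1` of `E₇(q)` (helper129)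
-/

set_option autoImplicit false

namespace Cfsg.Agent.H129.DataE7m

open Cfsg.Agent.H129.TorusTw Cfsg.Agent.H129.WData Cfsg.Agent.ChevalleyStructure.CoxeterGeomTypes
open Cfsg.Lie Cfsg.Lie.ChevalleyDatum

/-- the Cartan matrix -/
def Am : Mat 7 := ![![2, 0, -1, 0, 0, 0, 0],
    ![0, 2, 0, -1, 0, 0, 0],
    ![-1, 0, 2, -1, 0, 0, 0],
    ![0, -1, -1, 2, -1, 0, 0],
    ![0, 0, 0, -1, 2, -1, 0],
    ![0, 0, 0, 0, -1, 2, -1],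
    ![0, 0, 0, 0, 0, -1, 2]]

/-- the partial products -/
def chain : List (Fin 7 × Mat 7) := [
    (4, ![![-1, 0, -1, 0, 0, 0, 0],
      ![0, 0, 0, 0, 0, 1, 0],
      ![1, 1, 2, 2, 2, 1, 0],
      ![0, -1, -1, -1, -1, -1, 0],
      ![0, 1, 0, 0, 0, 0, 0],
      ![0, 0, 1, 1, 1, 1, 1],
      ![0, 0, 0, 0, -1, -1, -1]]),
    (5, ![![-1, 0, -1, 0, 0, 0, 0],
      ![0, 0, 0, 0, 1, 1, 0],
      ![1, 1, 2, 2, 1, 1, 0],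
      ![0, -1, -1, -1, -1, -1, 0],
      ![0, 1, 0, 0, 0, 0, 0],
      ![0, 0, 1, 1, 1, 1, 1],
      ![0, 0, 0, 0, 0, -1, -1]]),
    (2, ![![-1, 0, -1, 0, 0, 0, 0],
      ![0, 0, 0, 0, 1, 0, 0],
      ![1, 1, 2, 2, 1, 0, 0],
      ![0, -1, -1, -1, -1, 0, 0],
      ![0, 1, 0, 0, 0, 0, 0],
      ![0, 0, 1, 1, 1, 1, 1],
      ![0, 0, 0, 0, 0, 0, -1]]),
    (3, ![![-1, 0, 0, 0, 0, 0, 0],
      ![0, 0, 0, 0, 1, 0, 0],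
      ![1, 1, 1, 2, 1, 0, 0],
      ![0, -1, 0, -1, -1, 0, 0],
      ![0, 1, 0, 0, 0, 0, 0],
      ![0, 0, 0, 1, 1, 1, 1],
      ![0, 0, 0, 0, 0, 0, -1]]),
    (6, ![![-1, 0, 0, 0, 0, 0, 0],
      ![0, 0, 0, 1, 1, 0, 0],
      ![1, 1, 1, 1, 1, 0, 0],
      ![0, -1, 0, -1, -1, 0, 0],
      ![0, 1, 0, 1, 0, 0, 0],
      ![0, 0, 0, 0, 1, 1, 1],
      ![0, 0, 0, 0, 0, 0, -1]]),
    (4, ![![-1, 0, 0, 0, 0, 0, 0],
      ![0, 0, 0, 1, 1, 0, 0],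
      ![1, 1, 1, 1, 1, 0, 0],
      ![0, -1, 0, -1, -1, 0, 0],
      ![0, 1, 0, 1, 0, 0, 0],
      ![0, 0, 0, 0, 1, 1, 0],
      ![0, 0, 0, 0, 0, 0, 1]]),
    (0, ![![-1, 0, 0, 0, 0, 0, 0],
      ![0, 0, 0, 1, 0, 0, 0],
      ![1, 1, 1, 1, 0, 0, 0],
      ![0, -1, 0, -1, 0, 0, 0],
      ![0, 1, 0, 1, 1, 0, 0],
      ![0, 0, 0, 0, 0, 1, 0],
      ![0, 0, 0, 0, 0, 0, 1]]),
    (1, ![![1, 0, 0, 0, 0, 0, 0],
      ![0, 0, 0, 1, 0, 0, 0],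
      ![0, 1, 1, 1, 0, 0, 0],
      ![0, -1, 0, -1, 0, 0, 0],
      ![0, 1, 0, 1, 1, 0, 0],
      ![0, 0, 0, 0, 0, 1, 0],
      ![0, 0, 0, 0, 0, 0, 1]]),
    (3, ![![1, 0, 0, 0, 0, 0, 0],
      ![0, 1, 0, 1, 0, 0, 0],
      ![0, 0, 1, 1, 0, 0, 0],
      ![0, 0, 0, -1, 0, 0, 0],
      ![0, 0, 0, 1, 1, 0, 0],
      ![0, 0, 0, 0, 0, 1, 0],
      ![0, 0, 0, 0, 0, 0, 1]])]

/-- the matrix of `θ` -/
def Th : Mat 7 := ![![-1, 0, -1, 0, 0, 0, 0],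
    ![0, 0, 0, 0, 0, 1, 0],
    ![1, 1, 2, 2, 2, 1, 0],
    ![0, -1, -1, -1, -1, -1, 0],
    ![0, 1, 0, 0, 0, 0, 0],
    ![0, 0, 1, 1, 1, 1, 1],
    ![0, 0, 0, 0, -1, -1, -1]]

/-- the basis -/
def V : Mat 7 := ![![-1, -1, -1, -1, -1, 0, 0],
    ![0, -1, 0, -1, -1, -1, 0],
    ![0, 0, 0, 0, 0, -1, -1],
    ![0, 0, -1, -1, 0, 0, 0],
    ![-1, 0, -1, -1, -1, 0, 0],
    ![0, -1, 0, -1, -1, 0, 0],
    ![0, 0, 1, 1, 1, 0, 0]]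

/-- the coordinates -/
def B : Mat 7 := ![![0, 0, 0, 0, -1, 0, -1],
    ![-1, 0, 0, 0, 1, 0, 0],
    ![-1, 0, 0, 0, 1, 1, 1],
    ![1, 0, 0, -1, -1, -1, -1],
    ![0, 0, 0, 1, 0, 0, 1],
    ![0, -1, 0, 0, 0, 1, 0],
    ![0, 1, -1, 0, 0, -1, 0]]

/-- the polynomial -/
def c : Fin 7 → ℤ := ![1, 0, 0, 0, 0, 0, 0]

/-- the representatives of the orbits of `θ` on the roots -/
def R : Fin 9 → Fin 7 → ℤ := ![![-2, -2, -3, -4, -3, -2, -1],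
    ![-1, -2, -2, -3, -3, -2, -1],
    ![-1, -2, -2, -3, -2, -1, -1],
    ![-1, -2, -2, -3, -2, -1, 0],
    ![-1, -1, -2, -3, -2, -1, 0],
    ![-1, -1, -2, -2, -1, 0, 0],
    ![-1, -1, -1, -1, -1, -1, -1],
    ![-1, -1, -1, -1, -1, 0, 0],
    ![-1, -1, -1, -1, 0, 0, 0]]

/-- the values of the functional on the representatives -/
def G : Fin 9 → Fin 7 → ℤ := ![![1, 1, 1, 1, 1, 0, 0],
    ![1, 1, 1, 0, 0, 0, -1],
    ![1, 0, 1, 1, 0, 1, 0],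
    ![1, 1, 0, 1, 0, 0, 0],
    ![0, 1, 0, 1, 1, 0, 0],
    ![1, 0, 0, 1, 0, 0, 0],
    ![1, 0, 1, 0, 0, 0, 0],
    ![1, 0, 0, 0, 0, 0, 0],
    ![1, 0, 0, 1, 0, 0, 1]]

/-- predecessor -/
def prv (r : ℕ) : ℕ := Nat.mod (Nat.shiftRight 0x7c727d707a76716e79756f554c495c564d77736d7b78745a544b5b58534a59205765615e6c666243382e446a64606b4240372d411668635f693e352b514e47362f2c52483f141e1a15673c50463d3b121d1913394f453a1b17111f1c18265d24332a2500002900090502100a060027213431280008040f00000300000b00 (8 * r)) 256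

/-- depth -/
def dep (r : ℕ) : ℕ := Nat.mod (Nat.shiftRight 0x706080708070706090a0705060606050708080809080b0704070709050b0a050b05060609080a0404030409080c09040605060a0509080b0a030303090509020c020a0a0a030401020c030d0c0d0b020501020b0a0b0b0301020d0d0c040c03040c0200000b00040102010101000c0d0d0d0c0003020d00000100010d00 (8 * r)) 256

theorem hA : ∀ i j, Am i j = cartanOf chevE7 7 i j :=
  H129.RootF.cE7

theorem chainOK : ChainOK Am chain :=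
  H129.ChainF.ok H129.ChainF.i7 H129.ChainF.m7 (H129.ChainF.c7 <| H129.ChainF.c7 <| H129.ChainF.c7 <| H129.ChainF.c7 <| H129.ChainF.c7 <| H129.ChainF.c7 <| H129.ChainF.c7 <| H129.ChainF.c7 <| H129.ChainF.c7 <| H129.ChainF.nil) (by decide +kernel)

theorem cycOK : CycOK 7 Th V B c :=
  H129.RootF.cyc H129.ChainF.i7 H129.RootF.t7 H129.ChainF.m7 H129.RootF.t7 H129.ChainF.m7 H129.RootF.t7 H129.RootF.r7 (by decide +kernel)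

theorem rootOK : RootOK chevE7 7 Th R prv dep :=
  H129.RootF.ok H129.RootF.t7 (H129.RootF.mc H129.RootF.r7 <| H129.RootF.mc H129.RootF.r7 <| H129.RootF.mc H129.RootF.r7 <| H129.RootF.mc H129.RootF.r7 <| H129.RootF.mc H129.RootF.r7 <| H129.RootF.mc H129.RootF.r7 <| H129.RootF.mc H129.RootF.r7 <| H129.RootF.mc H129.RootF.r7 <| H129.RootF.mc H129.RootF.r7 <| H129.RootF.m0) (by decide +kernel)

theorem coefOK : ∀ s i, ∑ j, R s j * B j i = G s i := by decide +kernel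

theorem fN_eq (x : ℤ) : fN c x = 1 + x ^ 7 := by
  unfold fN c
  simp [Fin.sum_univ_succ]
  ring

theorem G_0 (x : ℤ) : Gq B x (R 0) = 1 + x + x ^ 2 + x ^ 3 + x ^ 4 := by
  rw [Gq_coef B x (R 0) (G 0) (coefOK 0)]
  unfold G
  simp [Fin.sum_univ_succ]
  try ring

theorem bez_0 (x : ℤ) : (-x - 2 * x ^ 2 - x ^ 3) * (1 - x + x ^ 2 - x ^ 3 + x ^ 4 - x ^ 5 + x ^ 6) + (1 - x ^ 3 + x ^ 5) * (1 + x + x ^ 2 + x ^ 3 + x ^ 4) = 1 := by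
  ring

theorem G_1 (x : ℤ) : Gq B x (R 1) = 1 + x + x ^ 2 - x ^ 6 := by
  rw [Gq_coef B x (R 1) (G 1) (coefOK 1)]
  unfold G
  simp [Fin.sum_univ_succ]
  try ring

theorem bez_1 (x : ℤ) : (3 - 4 * x ^ 2 + 4 * x ^ 3 + 3 * x ^ 4 - 3 * x ^ 5) * (1 - x + x ^ 2 - x ^ 3 + x ^ 4 - x ^ 5 + x ^ 6) + (4 - x - 2 * x ^ 2 - 2 * x ^ 3 + 6 * x ^ 4 - 3 * x ^ 5) * (1 + x + x ^ 2 - x ^ 6) = 7 := by
  ring

theorem G_2 (x : ℤ) : Gq B x (R 2) = 1 + x ^ 2 + x ^ 3 + x ^ 5 := by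
  rw [Gq_coef B x (R 2) (G 2) (coefOK 2)]
  unfold G
  simp [Fin.sum_univ_succ]
  try ring

theorem bez_2 (x : ℤ) : (-1 + x - 2 * x ^ 2 - 6 * x ^ 3 - x ^ 4) * (1 - x + x ^ 2 - x ^ 3 + x ^ 4 - x ^ 5 + x ^ 6) + (8 - 2 * x - 4 * x ^ 2 - 4 * x ^ 3 + 5 * x ^ 4 + x ^ 5) * (1 + x ^ 2 + x ^ 3 + x ^ 5) = 7 := by
  ring

theorem G_3 (x : ℤ) : Gq B x (R 3) = 1 + x + x ^ 3 := by
  rw [Gq_coef B x (R 3) (G 3) (coefOK 3)]
  unfold G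
  simp [Fin.sum_univ_succ]
  try ring

theorem bez_3 (x : ℤ) : (-x) * (1 - x + x ^ 2 - x ^ 3 + x ^ 4 - x ^ 5 + x ^ 6) + (2 - x - x ^ 3 + x ^ 4) * (1 + x + x ^ 3) = 2 := by
  ring

theorem G_4 (x : ℤ) : Gq B x (R 4) = x + x ^ 3 + x ^ 4 := by
  rw [Gq_coef B x (R 4) (G 4) (coefOK 4)]
  unfold G
  simp [Fin.sum_univ_succ]
  try ring

theorem bez_4 (x : ℤ) : (2 + 2 * x - x ^ 2 - x ^ 3) * (1 - x + x ^ 2 - x ^ 3 + x ^ 4 - x ^ 5 + x ^ 6) + (x - x ^ 3 - x ^ 4 + x ^ 5) * (x + x ^ 3 + x ^ 4) = 2 := by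
  ring

theorem G_5 (x : ℤ) : Gq B x (R 5) = 1 + x ^ 3 := by
  rw [Gq_coef B x (R 5) (G 5) (coefOK 5)]
  unfold G
  simp [Fin.sum_univ_succ]
  try ring

theorem bez_5 (x : ℤ) : (5 + 2 * x - 2 * x ^ 2) * (1 - x + x ^ 2 - x ^ 3 + x ^ 4 - x ^ 5 + x ^ 6) + (2 + 3 * x - x ^ 2 - x ^ 3 - 4 * x ^ 4 + 2 * x ^ 5) * (1 + x ^ 3) = 7 := by
  ring

theorem G_6 (x : ℤ) : Gq B x (R 6) = 1 + x ^ 2 := by
  rw [Gq_coef B x (R 6) (G 6) (coefOK 6)]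
  unfold G
  simp [Fin.sum_univ_succ]
  try ring

theorem bez_6 (x : ℤ) : (x) * (1 - x + x ^ 2 - x ^ 3 + x ^ 4 - x ^ 5 + x ^ 6) + (1 - x + x ^ 4 - x ^ 5) * (1 + x ^ 2) = 1 := by
  ring

theorem G_7 (x : ℤ) : Gq B x (R 7) = 1 := by
  rw [Gq_coef B x (R 7) (G 7) (coefOK 7)]
  unfold G
  simp [Fin.sum_univ_succ]
  try ring

theorem bez_7 (x : ℤ) : (0) * (1 - x + x ^ 2 - x ^ 3 + x ^ 4 - x ^ 5 + x ^ 6) + (1) * (1) = 1 := by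
  ring

theorem G_8 (x : ℤ) : Gq B x (R 8) = 1 + x ^ 3 + x ^ 6 := by
  rw [Gq_coef B x (R 8) (G 8) (coefOK 8)]
  unfold G
  simp [Fin.sum_univ_succ]
  try ring

theorem bez_8 (x : ℤ) : (-1 + x + 2 * x ^ 2 - x ^ 3 - x ^ 4 + x ^ 5) * (1 - x + x ^ 2 - x ^ 3 + x ^ 4 - x ^ 5 + x ^ 6) + (2 - 2 * x - x ^ 3 + 2 * x ^ 4 - x ^ 5) * (1 + x ^ 3 + x ^ 6) = 1 := by
  ring

/-- Common divisors of `f(x)` and the value of `Gq` on a representative. -/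
theorem dvd_of_G {x r : ℤ} (h : r ∣ 1 - x + x ^ 2 - x ^ 3 + x ^ 4 - x ^ 5 + x ^ 6) (s : Fin 9) (hs : r ∣ Gq B x (R s)) :
    r ∣ 1 ∨ r ∣ 2 ∨ r ∣ 7 := by
  have key : ∀ {a b g y : ℤ}, a * (1 - x + x ^ 2 - x ^ 3 + x ^ 4 - x ^ 5 + x ^ 6) + b * g = y → r ∣ g → r ∣ y := fun e hg => by
    rw [← e]
    exact dvd_add (h.mul_left _) (hg.mul_left _)
  fin_cases s
  · exact Or.inl (key (bez_0 x) (by rw [← G_0]; exact hs))
  · exact Or.inr (Or.inr (key (bez_1 x) (by rw [← G_1]; exact hs)))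
  · exact Or.inr (Or.inr (key (bez_2 x) (by rw [← G_2]; exact hs)))
  · exact Or.inr (Or.inl (key (bez_3 x) (by rw [← G_3]; exact hs)))
  · exact Or.inr (Or.inl (key (bez_4 x) (by rw [← G_4]; exact hs)))
  · exact Or.inr (Or.inr (key (bez_5 x) (by rw [← G_5]; exact hs)))
  · exact Or.inl (key (bez_6 x) (by rw [← G_6]; exact hs))
  · exact Or.inl (key (bez_7 x) (by rw [← G_7]; exact hs))
  · exact Or.inl (key (bez_8 x) (by rw [← G_8]; exact hs))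

end Cfsg.Agent.H129.DataE7m
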