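import Cfsg.Agent.H129.CycRow
import Cfsg.Agent.H129.DataE6
import Cfsg.Agent.H129.DataE7m
import Cfsg.Agent.H129.DataE6e
import Cfsg.Agent.Prune
set_option linter.all false
prune_inst 0x7f00000000000000000000000000000000000000000000000000000000000000000000000000000000000000000000000000000000000000000000000000000000000000000000000000000000000000003fffffffffffffffffffffffffffbeffbdffffffff
open scoped Cfsg.Agent.FastGrp

/-!
# Cyclic tori with their orders (helper129)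

* `CycCard G r m d` : a cyclic subgroup `T` with `|T| ∣ m ∣ d |T|`, `r ∣ |T|`, containing the centralisers of its
  elements of order `r`;
* the rows for `G₂`, `F₄`, `E₆`, `E₇`, `E₈`, `³D₄`, `²E₆`.
-/

set_option autoImplicit false
set_option linter.unusedSectionVars false
set_option linter.dupNamespace false

namespace Cfsg.Agent.H129.CycCard

open CoxeterSystem Cfsg Cfsg.Lie Cfsg.Lie.ChevalleyDatum
open Cfsg.Agent.ChevalleyStructure Cfsg.Agent.ChevalleyStructure.Elts Cfsg.Agent.ChevalleyStructure.CoxeterGeom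
  Cfsg.Agent.ChevalleyStructure.CoxeterGeomTypes Cfsg.Agent.ChevalleyStructure.NPerm
open Cfsg.Agent.Tits.Roots Cfsg.Agent.Tits.Core Cfsg.Agent.Nodes Cfsg.Agent.Nodes.Reps Cfsg.Agent.Nodes.BNOf
  Cfsg.Agent.Nodes.RGDChev Cfsg.Agent.Nodes.Bruhat Cfsg.Agent.Nodes.SubComb Cfsg.Agent.Nodes.Coroot
open Cfsg.Agent.H129 Cfsg.Agent.H129.TorusChar Cfsg.Agent.H129.TorusTw Cfsg.Agent.H129.WData Cfsg.Agent.H129.TorAct
  Cfsg.Agent.H129.RealT Cfsg.Agent.H129.CycT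

universe u

section Abs

variable {G : Type*} [Group G]

/-- A cyclic subgroup `T` with `|T| ∣ m ∣ d |T|` and `r ∣ |T|`, containing the centralisers of its elements of order
`r`. -/
def CycCard (G : Type*) [Group G] (r m d : ℕ) : Prop :=
  ∃ T : Subgroup G, IsCyclic ↥T ∧ Nat.card ↥T ∣ m ∧ m ∣ d * Nat.card ↥T ∧ r ∣ Nat.card ↥T ∧
    ∀ y ∈ T, orderOf y = r → Subgroup.centralizer {y} ≤ T

theorem CycCard.mono {r m d d' : ℕ} (h : CycCard G r m d) (hd : d ∣ d') : CycCard G r m d' := by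
  obtain ⟨T, h1, h2, h3, h4, h5⟩ := h
  exact ⟨T, h1, h2, h3.trans (mul_dvd_mul_right hd _), h4, h5⟩

theorem CycCard.cycAt {r m d : ℕ} (h : CycCard G r m d) : CycAt G r := by
  obtain ⟨T, h1, -, -, h4, h5⟩ := h
  exact ⟨T, h1, h4, h5⟩

theorem CycCard.congr {H : Type*} [Group H] (e : G ≃* H) {r m d : ℕ} (h : CycCard G r m d) : CycCard H r m d := by
  obtain ⟨T, h1, h2, h3, h4, h5⟩ := h
  have hc : Nat.card ↥(T.map e.toMonoidHom) = Nat.card ↥T :=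
    Nat.card_congr (T.equivMapOfInjective e.toMonoidHom e.injective).symm.toEquiv
  refine ⟨T.map e.toMonoidHom, (T.equivMapOfInjective e.toMonoidHom e.injective).isCyclic.1 h1, hc ▸ h2, hc ▸ h3,
    hc ▸ h4, ?_⟩
  rintro _ ⟨y, hy, rfl⟩ hyr z hz
  rw [Subgroup.mem_centralizer_singleton_iff] at hz
  have ho : orderOf y = r := by
    rw [← hyr]
    exact (orderOf_injective e.toMonoidHom e.injective y).symm
  refine ⟨e.symm z, h5 y hy ho ?_, by simp⟩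
  rw [Subgroup.mem_centralizer_singleton_iff]
  apply e.injective
  simpa using hz

theorem cycCard_of_exact {r m : ℕ} (h : CycExact G m) (hr : r.Prime) (hrm : r ∣ m) : CycCard G r m 1 := by
  obtain ⟨T, h1, h2, h3⟩ := h
  refine ⟨T, h1, h2.dvd, by rw [one_mul, h2], h2 ▸ hrm, fun y hy hyr => (h3 y hy ?_).le⟩
  rintro rfl
  rw [orderOf_one] at hyr
  exact hr.one_lt.ne hyr

end Abs

/-- the `n`-th power map on a finite field is surjective if `n` is prime to `q - 1` -/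
theorem pow_surj {F : Type*} [Field F] [Fintype F] {q n : ℕ} (hF : Fintype.card F = q) (h0 : n ≠ 0)
    (h : (q - 1).Coprime n) : ∀ a : F, ∃ b : F, b ^ n = a := by
  intro a
  by_cases ha : a = 0
  · exact ⟨0, by rw [ha, zero_pow h0]⟩
  · have h1 : (Nat.card Fˣ).Coprime n := by
      classical
      rw [Nat.card_eq_fintype_card, Fintype.card_units, hF]; exact h
    obtain ⟨b, hb⟩ := (powCoprime h1).surjective (Units.mk0 a ha)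
    exact ⟨b, by simpa using congrArg Units.val hb⟩

section Gen

variable {D : ChevalleyDatum} {l : ℕ} {M : CoxeterMatrix (Fin l)} (hp : IsType D l M)
  {W : Type*} [Group W] (cs : CoxeterSystem M W)

include hp cs in
theorem card_untw [Finite W] (hl : 0 < l) {F : Type u} [Field F] [Fintype F] {q : ℕ} (hq : Fintype.card F = q)
    {d' : ℕ} {B' : Fin l → Fin l → ℤ} (hB : InvC D l d' B') (hd' : d' ≠ 0)
    {A : Mat l} (hA : ∀ i j, A i j = cartanOf D l i j) {L : List (Fin l × Mat l)} (hL : ChainOK A L)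
    {V B : Mat l} {c : Fin l → ℤ} (hcyc : CycOK l (hd L) V B c) {m : ℕ} {R : Fin m → Fin l → ℤ} {prv dep : ℕ → ℕ}
    (hR : RootOK D l (hd L) R prv dep) {N : ℕ} (hfN : fN c (q : ℤ) = N) (hqN : q.Coprime N) {d : ℕ}
    (hdd : d = d' ∨ d = 1 ∧ ∀ a : F, ∃ b : F, b ^ d' = a) {r : ℕ} (hr : r.Prime) (hrN : r ∣ N) (hrd : ¬ r ∣ d)
    (hrW : ¬ r ∣ Nat.card W) (hG : ∀ s, ¬ (r : ℤ) ∣ Gq B (q : ℤ) (R s)) : CycCard ↥(D.group F) r N d := by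
  obtain ⟨T, h1, h2, h3, h4, -⟩ := UntwT.untw_T hp cs hl hq hB hd' hA hL hcyc hR hfN hqN hdd
  exact ⟨T, h1, h2, h3, dvd_of_dvd_mul hr hrN hrd h3, h4 r hr hrW hG⟩

include hp cs in
theorem card_untwp [Finite W] (hl : 0 < l) {F : Type u} [Field F] [Fintype F] {q : ℕ} (hq : Fintype.card F = q)
    {d' : ℕ} {B' : Fin l → Fin l → ℤ} (hB : InvC D l d' B') (hd' : d'.Prime)
    {A : Mat l} (hA : ∀ i j, A i j = cartanOf D l i j) {L : List (Fin l × Mat l)} (hL : ChainOK A L)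
    {V B : Mat l} {c : Fin l → ℤ} (hcyc : CycOK l (hd L) V B c) {m : ℕ} {R : Fin m → Fin l → ℤ} {prv dep : ℕ → ℕ}
    (hR : RootOK D l (hd L) R prv dep) {N : ℕ} (hfN : fN c (q : ℤ) = N) (hqN : q.Coprime N)
    {r : ℕ} (hr : r.Prime) (hrN : r ∣ N) (hrd : r ≠ d')
    (hrW : ¬ r ∣ Nat.card W) (hG : ∀ s, ¬ (r : ℤ) ∣ Gq B (q : ℤ) (R s)) :
    CycCard ↥(D.group F) r N (Nat.gcd d' (q - 1)) := by
  by_cases hd : d' ∣ q - 1
  · rw [Nat.gcd_eq_left hd]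
    exact card_untw hp cs hl hq hB hd'.ne_zero hA hL hcyc hR hfN hqN (Or.inl rfl) hr hrN
      (fun h => hrd ((Nat.prime_dvd_prime_iff_eq hr hd').1 h)) hrW hG
  · have h1 : Nat.gcd d' (q - 1) = 1 := (Nat.Prime.coprime_iff_not_dvd hd').2 hd
    rw [h1]
    exact card_untw hp cs hl hq hB hd'.ne_zero hA hL hcyc hR hfN hqN
      (Or.inr ⟨rfl, pow_surj hq hd'.ne_zero (Nat.Coprime.symm h1)⟩) hr hrN (fun h => hr.one_lt.ne' (Nat.dvd_one.1 h))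
      hrW hG

end Gen

/-! ### primes -/

/-- a prime divisor as an equation -/
theorem zmod_of {z : ℤ} {r : ℕ} (h : (r : ℤ) ∣ z) : (z : ZMod r) = 0 := (ZMod.intCast_zmod_eq_zero_iff_dvd z r).2 h

theorem dvd_of_int {r m : ℕ} {z w : ℤ} (h : (r : ℤ) ∣ z) (hm : (m : ℤ) = z * w) : r ∣ m :=
  Int.natCast_dvd_natCast.1 (hm ▸ h.mul_right w)

variable {F : Type u} [Field F] [Fintype F] {q : ℕ}

/-! ### `G₂` -/

/-- `G₂(q)`, `Φ₃` -/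
theorem card_G2_3 (hq : Fintype.card F = q) {m : ℕ} (hm : (m : ℤ) = 1 + (q : ℤ) + (q : ℤ) ^ 2) {r : ℕ} (hr : r.Prime)
    (h : (r : ℤ) ∣ 1 + (q : ℤ) + (q : ℤ) ^ 2) (hr3 : r ≠ 3) : CycCard ↥(chevG2.group F) r m 1 := by
  have : Finite CoxeterMatrix.G₂.Group := Nat.finite_of_card_ne_zero (by rw [cardW_G2]; norm_num)
  have hrm : r ∣ m := dvd_of_int h (by rw [hm, mul_one])
  exact card_untw typeG2 CoxeterMatrix.G₂.toCoxeterSystem (by norm_num) hq TorusChar.invC_G2 one_ne_zero DataG2.hA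
    DataG2.chainOK DataG2.cycOK DataG2.rootOK (by rw [DataG2.fN_eq, hm])
    (UntwData.coprime_of_eq (a := 1 + (q : ℤ)) (by rw [hm]; ring)) (Or.inl rfl) hr hrm
    (fun h => hr.one_lt.ne' (Nat.dvd_one.1 h)) (good_G2_3 hm hr hrm hr3).1 (good_G2_3 hm hr hrm hr3).2

/-- `G₂(q)`, `Φ₆` -/
theorem card_G2_6 (hq : Fintype.card F = q) {m : ℕ} (hm : (m : ℤ) = 1 - (q : ℤ) + (q : ℤ) ^ 2) {r : ℕ} (hr : r.Prime)
    (h : (r : ℤ) ∣ 1 - (q : ℤ) + (q : ℤ) ^ 2) (hr3 : r ≠ 3) : CycCard ↥(chevG2.group F) r m 1 := by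
  have : Finite CoxeterMatrix.G₂.Group := Nat.finite_of_card_ne_zero (by rw [cardW_G2]; norm_num)
  have hrm : r ∣ m := dvd_of_int h (by rw [hm, mul_one])
  exact card_untw typeG2 CoxeterMatrix.G₂.toCoxeterSystem (by norm_num) hq TorusChar.invC_G2 one_ne_zero DataG2h.hA
    DataG2h.chainOK DataG2h.cycOK DataG2h.rootOK (by rw [DataG2h.fN_eq, hm])
    (UntwData.coprime_of_eq (a := -1 + (q : ℤ)) (by rw [hm]; ring)) (Or.inl rfl) hr hrm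
    (fun h => hr.one_lt.ne' (Nat.dvd_one.1 h)) (good_G2_6 hm hr hrm hr3).1 (good_G2_6 hm hr hrm hr3).2

/-! ### `F₄` -/

/-- `F₄(q)`, `Φ₁₂` -/
theorem card_F4_12 (hq : Fintype.card F = q) {m : ℕ} (hm : (m : ℤ) = 1 - (q : ℤ) ^ 2 + (q : ℤ) ^ 4) {r : ℕ}
    (hr : r.Prime) (h : (r : ℤ) ∣ 1 - (q : ℤ) ^ 2 + (q : ℤ) ^ 4) : CycCard ↥(chevF4.group F) r m 1 :=
  cycCard_of_exact (exact_F4_12 hq hm) hr (dvd_of_int h (by rw [hm, mul_one]))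

/-- `F₄(q)`, `Φ₈` -/
theorem card_F4_8 (hq : Fintype.card F = q) {m : ℕ} (hm : (m : ℤ) = 1 + (q : ℤ) ^ 4) {r : ℕ} (hr : r.Prime)
    (h : (r : ℤ) ∣ 1 + (q : ℤ) ^ 4) (hr2 : r ≠ 2) : CycCard ↥(chevF4.group F) r m 1 := by
  have : Finite CoxeterMatrix.F₄.Group := Nat.finite_of_card_ne_zero (by rw [cardW_F4]; norm_num)
  have hrm : r ∣ m := dvd_of_int h (by rw [hm, mul_one])
  exact card_untw typeF4 CoxeterMatrix.F₄.toCoxeterSystem (by norm_num) hq TorusChar.invC_F4 one_ne_zero DataF4.hA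
    DataF4.chainOK DataF4.cycOK DataF4.rootOK (by rw [DataF4.fN_eq, hm])
    (UntwData.coprime_of_eq (a := (q : ℤ) ^ 3) (by rw [hm]; ring)) (Or.inl rfl) hr hrm
    (fun h => hr.one_lt.ne' (Nat.dvd_one.1 h)) (good_F4_8 hm hr hrm hr2).1 (good_F4_8 hm hr hrm hr2).2

/-! ### `E₆` -/

/-- `E₆(q)`, `Φ₉` -/
theorem card_E6_9 (hq : Fintype.card F = q) {m : ℕ} (hm : (m : ℤ) = 1 + (q : ℤ) ^ 3 + (q : ℤ) ^ 6) {r : ℕ}
    (hr : r.Prime) (h : (r : ℤ) ∣ 1 + (q : ℤ) ^ 3 + (q : ℤ) ^ 6) (hr3 : r ≠ 3) :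
    CycCard ↥(chevE6.group F) r m (Nat.gcd 3 (q - 1)) := by
  have := TwT.finite_W6
  have hrm : r ∣ m := dvd_of_int h (by rw [hm, mul_one])
  exact card_untwp typeE6 CoxeterMatrix.E₆.toCoxeterSystem (by norm_num) hq TorusChar.invC_E6 Nat.prime_three
    DataE6n.hA DataE6n.chainOK DataE6n.cycOK DataE6n.rootOK (by rw [DataE6n.fN_eq, hm])
    (UntwData.coprime_of_eq (a := (q : ℤ) ^ 2 + (q : ℤ) ^ 5) (by rw [hm]; ring)) hr hrm hr3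
    (good_E6_9 hm hr hrm hr3).1 (good_E6_9 hm hr hrm hr3).2

theorem ne_12 {r : ℕ} (h : (r : ℤ) ∣ 1 - (q : ℤ) ^ 2 + (q : ℤ) ^ 4) : r ≠ 2 ∧ r ≠ 3 ∧ r ≠ 5 := by
  have hz := zmod_of h
  push_cast at hz
  refine ⟨?_, ?_, ?_⟩ <;> rintro rfl
  · generalize (q : ZMod 2) = x at hz; revert hz; revert x; decide
  · generalize (q : ZMod 3) = x at hz; revert hz; revert x; decide
  · generalize (q : ZMod 5) = x at hz; revert hz; revert x; decide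

/-- `E₆(q)`, `Φ₁₂ Φ₃` -/
theorem card_E6_12 (hq : Fintype.card F = q) {m : ℕ}
    (hm : (m : ℤ) = (1 - (q : ℤ) ^ 2 + (q : ℤ) ^ 4) * (1 + (q : ℤ) + (q : ℤ) ^ 2)) {r : ℕ}
    (hr : r.Prime) (h : (r : ℤ) ∣ 1 - (q : ℤ) ^ 2 + (q : ℤ) ^ 4) :
    CycCard ↥(chevE6.group F) r m (Nat.gcd 3 (q - 1)) := by
  have := TwT.finite_W6
  obtain ⟨h2, h3, h5⟩ := ne_12 h
  refine card_untwp typeE6 CoxeterMatrix.E₆.toCoxeterSystem (by norm_num) hq TorusChar.invC_E6 Nat.prime_three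
    DataE6.hA DataE6.chainOK DataE6.cycOK DataE6.rootOK (by rw [DataE6.fN_eq, hm]; ring)
    (UntwData.coprime_of_eq (a := 1 - (q : ℤ) ^ 2 + (q : ℤ) ^ 4 + (q : ℤ) ^ 5) (by rw [hm]; ring)) hr
    (dvd_of_int h hm) h3 (not_dvd_W_E6 hr h2 h3 h5) fun s hs => ?_
  rcases DataE6.dvd_of_G h s hs with h | h
  · exact not_one hr h
  · exact not_prime hr Nat.prime_two h2 h

theorem ne_8 {r : ℕ} (h : (r : ℤ) ∣ 1 + (q : ℤ) ^ 4) : r ≠ 3 ∧ r ≠ 5 := by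
  have hz := zmod_of h
  push_cast at hz
  refine ⟨?_, ?_⟩ <;> rintro rfl
  · generalize (q : ZMod 3) = x at hz; revert hz; revert x; decide
  · generalize (q : ZMod 5) = x at hz; revert hz; revert x; decide

/-- `E₆(q)`, `Φ₈ (q² - 1)` -/
theorem card_E6_8 (hq : Fintype.card F = q) {m : ℕ}
    (hm : (m : ℤ) = (1 + (q : ℤ) ^ 4) * ((q : ℤ) ^ 2 - 1)) {r : ℕ}
    (hr : r.Prime) (h : (r : ℤ) ∣ 1 + (q : ℤ) ^ 4) (h2 : r ≠ 2) :
    CycCard ↥(chevE6.group F) r m (Nat.gcd 3 (q - 1)) := by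
  have := TwT.finite_W6
  obtain ⟨h3, h5⟩ := ne_8 h
  refine card_untwp typeE6 CoxeterMatrix.E₆.toCoxeterSystem (by norm_num) hq TorusChar.invC_E6 Nat.prime_three
    DataE6e.hA DataE6e.chainOK DataE6e.cycOK DataE6e.rootOK (by rw [DataE6e.fN_eq, hm]; ring)
    (coprime_of_neg (a := (q : ℤ) - (q : ℤ) ^ 3 + (q : ℤ) ^ 5) (by rw [hm]; ring)) hr
    (dvd_of_int h hm) h3 (not_dvd_W_E6 hr h2 h3 h5) fun s hs => ?_
  rcases DataE6e.dvd_of_G h s hs with h | h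
  · exact not_one hr h
  · exact not_prime hr Nat.prime_two h2 h

/-! ### `E₇` -/

/-- `E₇(q)`, `q⁷ - 1` -/
theorem card_E7_7 (hq : Fintype.card F = q) {m : ℕ} (hm : (m : ℤ) = (q : ℤ) ^ 7 - 1) {r : ℕ} (hr : r.Prime)
    (h : (r : ℤ) ∣ 1 + (q : ℤ) + (q : ℤ) ^ 2 + (q : ℤ) ^ 3 + (q : ℤ) ^ 4 + (q : ℤ) ^ 5 + (q : ℤ) ^ 6)
    (hr7 : r ≠ 7) : CycCard ↥(chevE7.group F) r m (Nat.gcd 2 (q - 1)) := by
  have := finite_W7
  have h2 : r ≠ 2 ∧ r ≠ 3 ∧ r ≠ 5 := by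
    have hz := zmod_of h
    push_cast at hz
    refine ⟨?_, ?_, ?_⟩ <;> rintro rfl
    · generalize (q : ZMod 2) = x at hz; revert hz; revert x; decide
    · generalize (q : ZMod 3) = x at hz; revert hz; revert x; decide
    · generalize (q : ZMod 5) = x at hz; revert hz; revert x; decide
  obtain ⟨h2, h3, h5⟩ := h2
  refine card_untwp typeE7 CoxeterMatrix.E₇.toCoxeterSystem (by norm_num) hq TorusChar.invC_E7 Nat.prime_two
    DataE7s.hA DataE7s.chainOK DataE7s.cycOK DataE7s.rootOK (by rw [DataE7s.fN_eq, hm]; ring)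
    (coprime_of_neg (a := (q : ℤ) ^ 6) (by rw [hm]; ring)) hr
    (dvd_of_int h (w := (q : ℤ) - 1) (by rw [hm]; ring)) h2 (not_dvd_W7 hr h2 h3 h5 hr7) fun s hs => ?_
  rcases DataE7s.dvd_of_G h s hs with h | h | h
  · exact not_one hr h
  · exact not_prime hr Nat.prime_two h2 h
  · exact not_prime hr (by norm_num : (7 : ℕ).Prime) hr7 h

/-- `E₇(q)`, `q⁷ + 1` -/
theorem card_E7_14 (hq : Fintype.card F = q) {m : ℕ} (hm : (m : ℤ) = (q : ℤ) ^ 7 + 1) {r : ℕ} (hr : r.Prime)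
    (h : (r : ℤ) ∣ 1 - (q : ℤ) + (q : ℤ) ^ 2 - (q : ℤ) ^ 3 + (q : ℤ) ^ 4 - (q : ℤ) ^ 5 + (q : ℤ) ^ 6)
    (hr7 : r ≠ 7) : CycCard ↥(chevE7.group F) r m (Nat.gcd 2 (q - 1)) := by
  have := finite_W7
  have h2 : r ≠ 2 ∧ r ≠ 3 ∧ r ≠ 5 := by
    have hz := zmod_of h
    push_cast at hz
    refine ⟨?_, ?_, ?_⟩ <;> rintro rfl
    · generalize (q : ZMod 2) = x at hz; revert hz; revert x; decide
    · generalize (q : ZMod 3) = x at hz; revert hz; revert x; decide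
    · generalize (q : ZMod 5) = x at hz; revert hz; revert x; decide
  obtain ⟨h2, h3, h5⟩ := h2
  refine card_untwp typeE7 CoxeterMatrix.E₇.toCoxeterSystem (by norm_num) hq TorusChar.invC_E7 Nat.prime_two
    DataE7m.hA DataE7m.chainOK DataE7m.cycOK DataE7m.rootOK (by rw [DataE7m.fN_eq, hm]; ring)
    (UntwData.coprime_of_eq (a := (q : ℤ) ^ 6) (by rw [hm]; ring)) hr
    (dvd_of_int h (w := (q : ℤ) + 1) (by rw [hm]; ring)) h2 (not_dvd_W7 hr h2 h3 h5 hr7) fun s hs => ?_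
  rcases DataE7m.dvd_of_G h s hs with h | h | h
  · exact not_one hr h
  · exact not_prime hr Nat.prime_two h2 h
  · exact not_prime hr (by norm_num : (7 : ℕ).Prime) hr7 h

/-- `E₇(q)`, `Φ₉ (q - 1)` -/
theorem card_E7_9 (hq : Fintype.card F = q) {m : ℕ}
    (hm : (m : ℤ) = (1 + (q : ℤ) ^ 3 + (q : ℤ) ^ 6) * ((q : ℤ) - 1)) {r : ℕ} (hr : r.Prime)
    (h : (r : ℤ) ∣ 1 + (q : ℤ) ^ 3 + (q : ℤ) ^ 6) (hr3 : r ≠ 3) :
    CycCard ↥(chevE7.group F) r m (Nat.gcd 2 (q - 1)) := by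
  have := finite_W7
  have h2 : r ≠ 2 ∧ r ≠ 5 ∧ r ≠ 7 := by
    have hz := zmod_of h
    push_cast at hz
    refine ⟨?_, ?_, ?_⟩ <;> rintro rfl
    · generalize (q : ZMod 2) = x at hz; revert hz; revert x; decide
    · generalize (q : ZMod 5) = x at hz; revert hz; revert x; decide
    · generalize (q : ZMod 7) = x at hz; revert hz; revert x; decide
  obtain ⟨h2, h5, h7⟩ := h2
  refine card_untwp typeE7 CoxeterMatrix.E₇.toCoxeterSystem (by norm_num) hq TorusChar.invC_E7 Nat.prime_two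
    DataE7n.hA DataE7n.chainOK DataE7n.cycOK DataE7n.rootOK (by rw [DataE7n.fN_eq, hm]; ring)
    (coprime_of_neg (a := 1 - (q : ℤ) ^ 2 + (q : ℤ) ^ 3 - (q : ℤ) ^ 5 + (q : ℤ) ^ 6) (by rw [hm]; ring)) hr
    (dvd_of_int h hm) h2 (not_dvd_W7 hr h2 hr3 h5 h7) fun s hs => ?_
  rcases DataE7n.dvd_of_G h s hs with h | h
  · exact not_one hr h
  · exact not_prime hr Nat.prime_three hr3 h

/-- `E₇(q)`, `Φ₁₈ (q + 1)` -/
theorem card_E7_18 (hq : Fintype.card F = q) {m : ℕ}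
    (hm : (m : ℤ) = (1 - (q : ℤ) ^ 3 + (q : ℤ) ^ 6) * ((q : ℤ) + 1)) {r : ℕ} (hr : r.Prime)
    (h : (r : ℤ) ∣ 1 - (q : ℤ) ^ 3 + (q : ℤ) ^ 6) (hr3 : r ≠ 3) :
    CycCard ↥(chevE7.group F) r m (Nat.gcd 2 (q - 1)) := by
  have := finite_W7
  have h2 : r ≠ 2 ∧ r ≠ 5 ∧ r ≠ 7 := by
    have hz := zmod_of h
    push_cast at hz
    refine ⟨?_, ?_, ?_⟩ <;> rintro rfl
    · generalize (q : ZMod 2) = x at hz; revert hz; revert x; decide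
    · generalize (q : ZMod 5) = x at hz; revert hz; revert x; decide
    · generalize (q : ZMod 7) = x at hz; revert hz; revert x; decide
  obtain ⟨h2, h5, h7⟩ := h2
  refine card_untwp typeE7 CoxeterMatrix.E₇.toCoxeterSystem (by norm_num) hq TorusChar.invC_E7 Nat.prime_two
    DataE7h.hA DataE7h.chainOK DataE7h.cycOK DataE7h.rootOK (by rw [DataE7h.fN_eq, hm]; ring)
    (UntwData.coprime_of_eq (a := 1 - (q : ℤ) ^ 2 - (q : ℤ) ^ 3 + (q : ℤ) ^ 5 + (q : ℤ) ^ 6) (by rw [hm]; ring)) hr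
    (dvd_of_int h hm) h2 (not_dvd_W7 hr h2 hr3 h5 h7) fun s hs => ?_
  rcases DataE7h.dvd_of_G h s hs with h | h
  · exact not_one hr h
  · exact not_prime hr Nat.prime_three hr3 h

/-! ### `E₈` -/

/-- `E₈(q)`, `Φ₃₀` -/
theorem card_E8_30 (hq : Fintype.card F = q) {m : ℕ}
    (hm : (m : ℤ) = 1 + (q : ℤ) - (q : ℤ) ^ 3 - (q : ℤ) ^ 4 - (q : ℤ) ^ 5 + (q : ℤ) ^ 7 + (q : ℤ) ^ 8) {r : ℕ}
    (hr : r.Prime)
    (h : (r : ℤ) ∣ 1 + (q : ℤ) - (q : ℤ) ^ 3 - (q : ℤ) ^ 4 - (q : ℤ) ^ 5 + (q : ℤ) ^ 7 + (q : ℤ) ^ 8) :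
    CycCard ↥(chevE8.group F) r m 1 :=
  cycCard_of_exact (exact_E8_30 hq hm) hr (dvd_of_int h (by rw [hm, mul_one]))

/-- `E₈(q)`, `Φ₁₅` -/
theorem card_E8_15 (hq : Fintype.card F = q) {m : ℕ}
    (hm : (m : ℤ) = 1 - (q : ℤ) + (q : ℤ) ^ 3 - (q : ℤ) ^ 4 + (q : ℤ) ^ 5 - (q : ℤ) ^ 7 + (q : ℤ) ^ 8) {r : ℕ}
    (hr : r.Prime)
    (h : (r : ℤ) ∣ 1 - (q : ℤ) + (q : ℤ) ^ 3 - (q : ℤ) ^ 4 + (q : ℤ) ^ 5 - (q : ℤ) ^ 7 + (q : ℤ) ^ 8) :
    CycCard ↥(chevE8.group F) r m 1 :=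
  cycCard_of_exact (exact_E8_15 hq hm) hr (dvd_of_int h (by rw [hm, mul_one]))

/-- `E₈(q)`, `Φ₂₄` -/
theorem card_E8_24 (hq : Fintype.card F = q) {m : ℕ} (hm : (m : ℤ) = 1 - (q : ℤ) ^ 4 + (q : ℤ) ^ 8) {r : ℕ}
    (hr : r.Prime) (h : (r : ℤ) ∣ 1 - (q : ℤ) ^ 4 + (q : ℤ) ^ 8) : CycCard ↥(chevE8.group F) r m 1 :=
  cycCard_of_exact (exact_E8_24 hq hm) hr (dvd_of_int h (by rw [hm, mul_one]))

/-- `E₈(q)`, `Φ₂₀` -/
theorem card_E8_20 (hq : Fintype.card F = q) {m : ℕ}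
    (hm : (m : ℤ) = 1 - (q : ℤ) ^ 2 + (q : ℤ) ^ 4 - (q : ℤ) ^ 6 + (q : ℤ) ^ 8) {r : ℕ} (hr : r.Prime)
    (h : (r : ℤ) ∣ 1 - (q : ℤ) ^ 2 + (q : ℤ) ^ 4 - (q : ℤ) ^ 6 + (q : ℤ) ^ 8) (h5 : r ≠ 5) :
    CycCard ↥(chevE8.group F) r m 1 := by
  have := finite_W8
  have hrm : r ∣ m := dvd_of_int h (by rw [hm, mul_one])
  exact card_untw typeE8 CoxeterMatrix.E₈.toCoxeterSystem (by norm_num) hq TorusChar.invC_E8 one_ne_zero DataE8b.hA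
    DataE8b.chainOK DataE8b.cycOK DataE8b.rootOK (by rw [DataE8b.fN_eq, hm])
    (UntwData.coprime_of_eq (a := -(q : ℤ) + (q : ℤ) ^ 3 - (q : ℤ) ^ 5 + (q : ℤ) ^ 7) (by rw [hm]; ring))
    (Or.inl rfl) hr hrm (fun h => hr.one_lt.ne' (Nat.dvd_one.1 h)) (good_E8_20 hm hr hrm h5).1
    (good_E8_20 hm hr hrm h5).2

/-! ### `³D₄` -/

/-- `³D₄(q)`, `Φ₁₂` -/
theorem card_tD4_12 (hq : IsPrimePow q) (hK : Fintype.card F = q ^ 3) {m : ℕ}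
    (hm : (m : ℤ) = 1 - (q : ℤ) ^ 2 + (q : ℤ) ^ 4) {r : ℕ} (hr : r.Prime)
    (h : (r : ℤ) ∣ 1 - (q : ℤ) ^ 2 + (q : ℤ) ^ 4) : CycCard ↥(twistedD4 F q) r m 1 :=
  cycCard_of_exact (exact_tD4_12 hq hK hm) hr (dvd_of_int h (by rw [hm, mul_one]))

/-! ### `²E₆` -/

/-- `²E₆(q)`, `Φ₁₈` -/
theorem card_tE6_18 (hq : IsPrimePow q) (hK : Fintype.card F = q ^ 2) {m : ℕ}
    (hm : (m : ℤ) = 1 - (q : ℤ) ^ 3 + (q : ℤ) ^ 6) {r : ℕ} (hr : r.Prime)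
    (h : (r : ℤ) ∣ 1 - (q : ℤ) ^ 3 + (q : ℤ) ^ 6) (hr3 : r ≠ 3) :
    CycCard ↥(twistedE6 F q) r m (Nat.gcd 3 (q + 1)) := by
  obtain ⟨T, h1, h2, h4, h5⟩ := torus_tE6_18 hq hK hm
  have hrm : r ∣ m := dvd_of_int h (by rw [hm, mul_one])
  exact ⟨T, h1, h2, h4, dvd_of_dvd_mul hr hrm (not_dvd_gcd3 hr hr3) h4, h5 r hr hrm hr3⟩

/-- `²E₆(q)`, `Φ₁₂ Φ₆` -/
theorem card_tE6_12 (hq : IsPrimePow q) (hK : Fintype.card F = q ^ 2) {m : ℕ}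
    (hm : (m : ℤ) = (1 - (q : ℤ) ^ 2 + (q : ℤ) ^ 4) * (1 - (q : ℤ) + (q : ℤ) ^ 2)) {r : ℕ} (hr : r.Prime)
    (h : (r : ℤ) ∣ 1 - (q : ℤ) ^ 2 + (q : ℤ) ^ 4) : CycCard ↥(twistedE6 F q) r m (Nat.gcd 3 (q + 1)) := by
  obtain ⟨h2, h3, hr5⟩ := ne_12 h
  obtain ⟨T, h1, h6, h4, h5, -⟩ := TwT.flip_T hq hK DataTE6c.hA DataTE6c.chainOK DataTE6c.hd_pi DataTE6c.cycOK
    DataTE6c.rootOK DataTE6c.chain2OK DataTE6c.hd2_eq (N := m) (by rw [DataTE6c.fN_eq, hm]; ring)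
    (UntwData.coprime_of_eq (a := -1 + (q : ℤ) ^ 2 - (q : ℤ) ^ 4 + (q : ℤ) ^ 5) (by rw [hm]; ring))
  refine ⟨T, h1, h6, h4, dvd_of_dvd_mul hr (dvd_of_int h hm) (not_dvd_gcd3 hr h3) h4,
    h5 r hr (not_dvd_W_E6 hr h2 h3 hr5) fun s hs => ?_⟩
  rcases DataTE6c.dvd_of_G h s hs with h | h
  · exact not_one hr h
  · exact not_prime hr Nat.prime_two h2 h

/-- `²E₆(q)`, `Φ₈ (q² - 1)` -/
theorem card_tE6_8 (hq : IsPrimePow q) (hK : Fintype.card F = q ^ 2) {m : ℕ}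
    (hm : (m : ℤ) = (1 + (q : ℤ) ^ 4) * ((q : ℤ) ^ 2 - 1)) {r : ℕ} (hr : r.Prime)
    (h : (r : ℤ) ∣ 1 + (q : ℤ) ^ 4) (h2 : r ≠ 2) : CycCard ↥(twistedE6 F q) r m (Nat.gcd 3 (q + 1)) := by
  obtain ⟨h3, hr5⟩ := ne_8 h
  obtain ⟨T, h1, h6, h4, h5, -⟩ := TwT.flip_T hq hK DataTE6e.hA DataTE6e.chainOK DataTE6e.hd_pi DataTE6e.cycOK
    DataTE6e.rootOK DataTE6e.chain2OK DataTE6e.hd2_eq (N := m) (by rw [DataTE6e.fN_eq, hm]; ring)
    (coprime_of_neg (a := (q : ℤ) - (q : ℤ) ^ 3 + (q : ℤ) ^ 5) (by rw [hm]; ring))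
  refine ⟨T, h1, h6, h4, dvd_of_dvd_mul hr (dvd_of_int h hm) (not_dvd_gcd3 hr h3) h4,
    h5 r hr (not_dvd_W_E6 hr h2 h3 hr5) fun s hs => ?_⟩
  rcases DataTE6e.dvd_of_G h s hs with h | h
  · exact not_one hr h
  · exact not_prime hr Nat.prime_two h2 h

end Cfsg.Agent.H129.CycCard

private theorem dce_3077bdb5c931 : _root_.True := by
  try have : _root_.True := by simp only [_root_.powCoprime.congr_simp]
  exact _root_.True.intro
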