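import Cfsg.Agent.H129.WData
import Cfsg.Agent.Lib.FinFast
import Cfsg.Agent.H129.RootFast
import Cfsg.Agent.Prune
set_option linter.all false
prune_inst 0x7f00000000000000000000000000000000000000000000000000000000000000000000000000000000000000000000000000000000000000000000000000000000000000000000000000000000000000003fffffffffffffffffffffffffffbeffbdffffffff
open scoped Cfsg.Agent.FastGrp

/-!
# Data of the torus of order `(q - 1)(q⁶ + q³ + 1)` of `E₇(q)` (helper129)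
-/

set_option autoImplicit false

namespace Cfsg.Agent.H129.DataE7n

open Cfsg.Agent.H129.TorusTw Cfsg.Agent.H129.WData Cfsg.Agent.ChevalleyStructure.CoxeterGeomTypes
open Cfsg.Lie Cfsg.Lie.ChevalleyDatum

/-- the Cartan matrix -/
def Am : Mat 7 := ![![2, 0, -1, 0, 0, 0, 0],
    ![0, 2, 0, -1, 0, 0, 0],
    ![-1, 0, 2, -1, 0, 0, 0],
    ![0, -1, -1, 2, -1, 0, 0],
    ![0, 0, 0, -1, 2, -1, 0],
    ![0, 0, 0, 0, -1, 2, -1],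
    ![0, 0, 0, 0, 0, -1, 2]]

/-- the partial products -/
def chain : List (Fin 7 × Mat 7) := [
    (3, ![![0, 1, 1, 2, 1, 0, 0],
      ![0, 0, 0, 0, -1, 0, 0],
      ![-1, -1, -1, -2, -1, 0, 0],
      ![1, 0, 1, 1, 1, 0, 0],
      ![0, 1, 0, 1, 1, 1, 0],
      ![0, 0, 0, -1, -1, -1, 0],
      ![0, 0, 0, 1, 1, 1, 1]]),
    (4, ![![0, 1, 1, 1, 1, 0, 0],
      ![0, 0, 0, -1, -1, 0, 0],
      ![-1, -1, -1, -1, -1, 0, 0],
      ![1, 0, 1, 1, 1, 0, 0],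
      ![0, 1, 0, 1, 1, 1, 0],
      ![0, 0, 0, 0, -1, -1, 0],
      ![0, 0, 0, 0, 1, 1, 1]]),
    (1, ![![0, 1, 1, 1, 0, 0, 0],
      ![0, 0, 0, -1, 0, 0, 0],
      ![-1, -1, -1, -1, 0, 0, 0],
      ![1, 0, 1, 1, 0, 0, 0],
      ![0, 1, 0, 1, 1, 1, 0],
      ![0, 0, 0, 0, 0, -1, 0],
      ![0, 0, 0, 0, 0, 1, 1]]),
    (3, ![![0, 0, 1, 1, 0, 0, 0],
      ![0, -1, 0, -1, 0, 0, 0],
      ![-1, 0, -1, -1, 0, 0, 0],
      ![1, 1, 1, 1, 0, 0, 0],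
      ![0, 0, 0, 1, 1, 1, 0],
      ![0, 0, 0, 0, 0, -1, 0],
      ![0, 0, 0, 0, 0, 1, 1]]),
    (0, ![![0, 0, 1, 0, 0, 0, 0],
      ![0, -1, 0, 0, 0, 0, 0],
      ![-1, 0, -1, 0, 0, 0, 0],
      ![1, 1, 1, 1, 0, 0, 0],
      ![0, 0, 0, 0, 1, 1, 0],
      ![0, 0, 0, 0, 0, -1, 0],
      ![0, 0, 0, 0, 0, 1, 1]]),
    (2, ![![1, 0, 1, 0, 0, 0, 0],
      ![0, -1, 0, 0, 0, 0, 0],
      ![0, 0, -1, 0, 0, 0, 0],
      ![0, 1, 1, 1, 0, 0, 0],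
      ![0, 0, 0, 0, 1, 1, 0],
      ![0, 0, 0, 0, 0, -1, 0],
      ![0, 0, 0, 0, 0, 1, 1]]),
    (1, ![![1, 0, 0, 0, 0, 0, 0],
      ![0, -1, 0, 0, 0, 0, 0],
      ![0, 0, 1, 0, 0, 0, 0],
      ![0, 1, 0, 1, 0, 0, 0],
      ![0, 0, 0, 0, 1, 1, 0],
      ![0, 0, 0, 0, 0, -1, 0],
      ![0, 0, 0, 0, 0, 1, 1]]),
    (5, ![![1, 0, 0, 0, 0, 0, 0],
      ![0, 1, 0, 0, 0, 0, 0],
      ![0, 0, 1, 0, 0, 0, 0],
      ![0, 0, 0, 1, 0, 0, 0],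
      ![0, 0, 0, 0, 1, 1, 0],
      ![0, 0, 0, 0, 0, -1, 0],
      ![0, 0, 0, 0, 0, 1, 1]])]

/-- the matrix of `θ` -/
def Th : Mat 7 := ![![0, 1, 1, 2, 1, 0, 0],
    ![0, 0, 0, 0, -1, 0, 0],
    ![-1, -1, -1, -2, -1, 0, 0],
    ![1, 0, 1, 1, 1, 0, 0],
    ![0, 1, 0, 1, 1, 1, 0],
    ![0, 0, 0, -1, -1, -1, 0],
    ![0, 0, 0, 1, 1, 1, 1]]

/-- the basis -/
def V : Mat 7 := ![![0, -1, 0, -1, -1, -1, -1],
    ![-1, -1, -1, -2, -1, -1, -1],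
    ![-1, -1, -2, -3, -2, -1, -1],
    ![-1, -1, -2, -3, -3, -2, -1],
    ![-1, -2, -2, -3, -3, -2, -1],
    ![-1, -2, -2, -3, -2, -2, -1],
    ![-1, -1, -2, -2, -1, -1, -1]]

/-- the coordinates -/
def B : Mat 7 := ![![1, -2, 1, 0, -1, 1, 0],
    ![0, 0, 0, 1, -1, 0, 0],
    ![0, 1, 0, 0, 0, 0, -1],
    ![0, 0, -1, 0, 1, -1, 1],
    ![0, 0, 0, 0, -1, 1, 0],
    ![0, 0, 1, -1, 1, -1, 0],
    ![-1, 0, 0, 0, 0, 1, -1]]

/-- the polynomial -/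
def c : Fin 7 → ℤ := ![-1, 1, 0, -1, 1, 0, -1]

/-- the representatives of the orbits of `θ` on the roots -/
def R : Fin 14 → Fin 7 → ℤ := ![![-2, -2, -3, -4, -3, -2, -1],
    ![-1, -2, -2, -3, -3, -2, -1],
    ![-1, -2, -2, -3, -2, -1, -1],
    ![-1, -1, -2, -2, -1, -1, 0],
    ![-1, -1, -2, -2, -2, -1, 0],
    ![-1, -1, -2, -2, -1, 0, 0],
    ![-1, -1, -1, -1, -1, -1, 0],
    ![1, 0, 1, 1, 1, 1, 0],
    ![1, 0, 1, 1, 0, 0, 0],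
    ![-1, 0, -1, -1, -1, -1, 0],
    ![-1, 0, -1, -1, 0, 0, 0],
    ![0, 0, 0, 0, 0, 0, 1],
    ![0, 1, 0, 1, 1, 1, 1],
    ![0, 1, 1, 2, 2, 1, 1]]

/-- the values of the functional on the representatives -/
def G : Fin 14 → Fin 7 → ℤ := ![![-1, 1, 0, 0, 1, 0, 0],
    ![0, 0, 0, 0, 1, 0, 0],
    ![0, 0, 1, -1, 1, 0, 0],
    ![-1, 0, 0, 0, 0, 1, 0],
    ![-1, 0, 0, 0, 1, 0, 0],
    ![-1, 0, 1, -1, 1, 0, 0],
    ![-1, 1, -1, 0, 1, 0, 0],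
    ![1, -1, 1, -1, 0, 0, 0],
    ![1, -1, 0, 0, 0, 0, 0],
    ![-1, 1, -1, 1, 0, 0, 0],
    ![-1, 1, 0, 0, 0, 0, 0],
    ![-1, 0, 0, 0, 0, 1, -1],
    ![-1, 0, 0, 0, 0, 0, 0],
    ![-1, 1, -1, 0, 0, 0, 0]]

/-- predecessor -/
def prv (r : ℕ) : ℕ := Nat.mod (Nat.shiftRight 0x7b7d6b767a6c6a747869677c75737977685b48465250345c5a475159004500581f71006066645d7270616500422a33436f6d5f636e3f3d28314d4b2f5654003c29274e32304c55403e0f1a1e100e3a4a533b39181c0d0b2019171d1b0c5e25003800242c360021492d2b3735220000040008011614050913000300120000 (8 * r)) 256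

/-- depth -/
def dep (r : ℕ) : ℕ := Nat.mod (Nat.shiftRight 0x40503040502040303020306040406050401020301030206050406080003000607050004070508070501060005020803070501070601030202080204080200050204040204060603060107010103030807050501010103080505080703070600070006060400040708060707080000020002020807010808000100080100 (8 * r)) 256

theorem hA : ∀ i j, Am i j = cartanOf chevE7 7 i j :=
  H129.RootF.cE7

theorem chainOK : ChainOK Am chain :=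
  H129.ChainF.ok H129.ChainF.i7 H129.ChainF.m7 (H129.ChainF.c7 <| H129.ChainF.c7 <| H129.ChainF.c7 <| H129.ChainF.c7 <| H129.ChainF.c7 <| H129.ChainF.c7 <| H129.ChainF.c7 <| H129.ChainF.c7 <| H129.ChainF.nil) (by decide +kernel)

private noncomputable def _root_.Cfsg.Agent.LsF.fa36330_6 : {f // @Cfsg.Agent.H129.DataE7n.B = f} := ⟨_, by first | (delta Cfsg.Agent.H129.DataE7n.B; rewrite [Cfsg.Agent.LsF.ineg_pat, Cfsg.Agent.LsF.vecCons_eq]; exact rfl) | exact rfl⟩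
theorem cycOK : CycOK 7 Th V B c :=
  H129.RootF.cyc H129.ChainF.i7 H129.RootF.t7 H129.ChainF.m7 H129.RootF.t7 H129.ChainF.m7 H129.RootF.t7 H129.RootF.r7 (by decide +kernel)

private noncomputable def _root_.Cfsg.Agent.LsF.fa36330_14 : {f // @Cfsg.Agent.H129.DataE7n.R = f} := ⟨_, by first | (delta Cfsg.Agent.H129.DataE7n.R; rewrite [Cfsg.Agent.LsF.ineg_pat, Cfsg.Agent.LsF.vecCons_eq]; exact rfl) | exact rfl⟩
theorem rootOK : RootOK chevE7 7 Th R prv dep :=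
  H129.RootF.ok H129.RootF.t7 (H129.RootF.mc H129.RootF.r7 <| H129.RootF.mc H129.RootF.r7 <| H129.RootF.mc H129.RootF.r7 <| H129.RootF.mc H129.RootF.r7 <| H129.RootF.mc H129.RootF.r7 <| H129.RootF.mc H129.RootF.r7 <| H129.RootF.mc H129.RootF.r7 <| H129.RootF.mc H129.RootF.r7 <| H129.RootF.mc H129.RootF.r7 <| H129.RootF.mc H129.RootF.r7 <| H129.RootF.mc H129.RootF.r7 <| H129.RootF.mc H129.RootF.r7 <| H129.RootF.mc H129.RootF.r7 <| H129.RootF.mc H129.RootF.r7 <| H129.RootF.m0) (by decide +kernel)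

private noncomputable def _root_.Cfsg.Agent.LsF.fa36330_17 : {f // @Cfsg.Agent.H129.DataE7n.G = f} := ⟨_, by first | (delta Cfsg.Agent.H129.DataE7n.G; rewrite [Cfsg.Agent.LsF.ineg_pat, Cfsg.Agent.LsF.vecCons_eq]; exact rfl) | exact rfl⟩
theorem coefOK : ∀ s i, ∑ j, R s j * B j i = G s i := by (refine of_decide_eq_true ?_; (try (rewrite [Cfsg.Agent.LsF.sumF_pat, Cfsg.Agent.LsF.fa36330_14.2, Cfsg.Agent.LsF.fa36330_6.2, Cfsg.Agent.LsF.fa36330_17.2, Cfsg.Agent.LsF.iadd_pat, Cfsg.Agent.LsF.imul_pat, Cfsg.Agent.LsF.iACM_eq, Cfsg.Agent.LsF.instIDecEq_eq, Cfsg.Agent.LsF.dForallFin_eq, Cfsg.Agent.LsF.decide_eq])); decide +kernel)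

theorem fN_eq (x : ℤ) : fN c x = -1 + x - x ^ 3 + x ^ 4 - x ^ 6 + x ^ 7 := by
  unfold fN c
  simp [Fin.sum_univ_succ]
  ring

theorem G_0 (x : ℤ) : Gq B x (R 0) = -1 + x + x ^ 4 := by
  rw [Gq_coef B x (R 0) (G 0) (coefOK 0)]
  unfold G
  simp [Fin.sum_univ_succ]
  try ring

theorem bez_0 (x : ℤ) : (1 - x + x ^ 3) * (1 + x ^ 3 + x ^ 6) + (-x - x ^ 2 + x ^ 3 - x ^ 5) * (-1 + x + x ^ 4) = 1 := by
  ring

theorem G_1 (x : ℤ) : Gq B x (R 1) = x ^ 4 := by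
  rw [Gq_coef B x (R 1) (G 1) (coefOK 1)]
  unfold G
  simp [Fin.sum_univ_succ]
  try ring

theorem bez_1 (x : ℤ) : (1 - x ^ 3) * (1 + x ^ 3 + x ^ 6) + (x ^ 5) * (x ^ 4) = 1 := by
  ring

theorem G_2 (x : ℤ) : Gq B x (R 2) = x ^ 2 - x ^ 3 + x ^ 4 := by
  rw [Gq_coef B x (R 2) (G 2) (coefOK 2)]
  unfold G
  simp [Fin.sum_univ_succ]
  try ring

theorem bez_2 (x : ℤ) : (1) * (1 + x ^ 3 + x ^ 6) + (-x - x ^ 2) * (x ^ 2 - x ^ 3 + x ^ 4) = 1 := by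
  ring

theorem G_3 (x : ℤ) : Gq B x (R 3) = -1 + x ^ 5 := by
  rw [Gq_coef B x (R 3) (G 3) (coefOK 3)]
  unfold G
  simp [Fin.sum_univ_succ]
  try ring

theorem bez_3 (x : ℤ) : (2 - x - x ^ 2 - x ^ 3 + 2 * x ^ 4) * (1 + x ^ 3 + x ^ 6) + (-1 - x - x ^ 2 + x ^ 3 + x ^ 4 - 2 * x ^ 5) * (-1 + x ^ 5) = 3 := by
  ring

theorem G_4 (x : ℤ) : Gq B x (R 4) = -1 + x ^ 4 := by
  rw [Gq_coef B x (R 4) (G 4) (coefOK 4)]
  unfold G
  simp [Fin.sum_univ_succ]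
  try ring

theorem bez_4 (x : ℤ) : (1 + x + x ^ 2 - 2 * x ^ 3) * (1 + x ^ 3 + x ^ 6) + (-2 + x + x ^ 2 - x ^ 3 - x ^ 4 + 2 * x ^ 5) * (-1 + x ^ 4) = 3 := by
  ring

theorem G_5 (x : ℤ) : Gq B x (R 5) = -1 + x ^ 2 - x ^ 3 + x ^ 4 := by
  rw [Gq_coef B x (R 5) (G 5) (coefOK 5)]
  unfold G
  simp [Fin.sum_univ_succ]
  try ring

theorem bez_5 (x : ℤ) : (2 - 2 * x + x ^ 2) * (1 + x ^ 3 + x ^ 6) + (-1 - 2 * x + x ^ 3 - x ^ 4) * (-1 + x ^ 2 - x ^ 3 + x ^ 4) = 3 := by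
  ring

theorem G_6 (x : ℤ) : Gq B x (R 6) = -1 + x - x ^ 2 + x ^ 4 := by
  rw [Gq_coef B x (R 6) (G 6) (coefOK 6)]
  unfold G
  simp [Fin.sum_univ_succ]
  try ring

theorem bez_6 (x : ℤ) : (3 + x - 2 * x ^ 2 - x ^ 3) * (1 + x ^ 3 + x ^ 6) + (x - x ^ 2 + 2 * x ^ 4 + x ^ 5) * (-1 + x - x ^ 2 + x ^ 4) = 3 := by
  ring

theorem G_7 (x : ℤ) : Gq B x (R 7) = 1 - x + x ^ 2 - x ^ 3 := by
  rw [Gq_coef B x (R 7) (G 7) (coefOK 7)]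
  unfold G
  simp [Fin.sum_univ_succ]
  try ring

theorem bez_7 (x : ℤ) : (-1 + 3 * x - x ^ 2) * (1 + x ^ 3 + x ^ 6) + (4 + x - 2 * x ^ 2 + 2 * x ^ 3 + 2 * x ^ 4 - x ^ 5) * (1 - x + x ^ 2 - x ^ 3) = 3 := by
  ring

theorem G_8 (x : ℤ) : Gq B x (R 8) = 1 - x := by
  rw [Gq_coef B x (R 8) (G 8) (coefOK 8)]
  unfold G
  simp [Fin.sum_univ_succ]
  try ring

theorem bez_8 (x : ℤ) : (1) * (1 + x ^ 3 + x ^ 6) + (2 + 2 * x + 2 * x ^ 2 + x ^ 3 + x ^ 4 + x ^ 5) * (1 - x) = 3 := by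
  ring

theorem G_9 (x : ℤ) : Gq B x (R 9) = -1 + x - x ^ 2 + x ^ 3 := by
  rw [Gq_coef B x (R 9) (G 9) (coefOK 9)]
  unfold G
  simp [Fin.sum_univ_succ]
  try ring

theorem bez_9 (x : ℤ) : (-1 + 3 * x - x ^ 2) * (1 + x ^ 3 + x ^ 6) + (-4 - x + 2 * x ^ 2 - 2 * x ^ 3 - 2 * x ^ 4 + x ^ 5) * (-1 + x - x ^ 2 + x ^ 3) = 3 := by
  ring

theorem G_10 (x : ℤ) : Gq B x (R 10) = -1 + x := by
  rw [Gq_coef B x (R 10) (G 10) (coefOK 10)]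
  unfold G
  simp [Fin.sum_univ_succ]
  try ring

theorem bez_10 (x : ℤ) : (1) * (1 + x ^ 3 + x ^ 6) + (-2 - 2 * x - 2 * x ^ 2 - x ^ 3 - x ^ 4 - x ^ 5) * (-1 + x) = 3 := by
  ring

theorem G_11 (x : ℤ) : Gq B x (R 11) = -1 + x ^ 5 - x ^ 6 := by
  rw [Gq_coef B x (R 11) (G 11) (coefOK 11)]
  unfold G
  simp [Fin.sum_univ_succ]
  try ring

theorem bez_11 (x : ℤ) : (1 + x - 2 * x ^ 3 + x ^ 5) * (1 + x ^ 3 + x ^ 6) + (x - x ^ 3 + x ^ 4 + x ^ 5) * (-1 + x ^ 5 - x ^ 6) = 1 := by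
  ring

theorem G_12 (x : ℤ) : Gq B x (R 12) = -1 := by
  rw [Gq_coef B x (R 12) (G 12) (coefOK 12)]
  unfold G
  simp [Fin.sum_univ_succ]
  try ring

theorem bez_12 (x : ℤ) : (0) * (1 + x ^ 3 + x ^ 6) + (-1) * (-1) = 1 := by
  ring

theorem G_13 (x : ℤ) : Gq B x (R 13) = -1 + x - x ^ 2 := by
  rw [Gq_coef B x (R 13) (G 13) (coefOK 13)]
  unfold G
  simp [Fin.sum_univ_succ]
  try ring

theorem bez_13 (x : ℤ) : (1) * (1 + x ^ 3 + x ^ 6) + (x ^ 3 + x ^ 4) * (-1 + x - x ^ 2) = 1 := by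
  ring

/-- Common divisors of `f(x)` and the value of `Gq` on a representative. -/
theorem dvd_of_G {x r : ℤ} (h : r ∣ 1 + x ^ 3 + x ^ 6) (s : Fin 14) (hs : r ∣ Gq B x (R s)) :
    r ∣ 1 ∨ r ∣ 3 := by
  have key : ∀ {a b g y : ℤ}, a * (1 + x ^ 3 + x ^ 6) + b * g = y → r ∣ g → r ∣ y := fun e hg => by
    rw [← e]
    exact dvd_add (h.mul_left _) (hg.mul_left _)
  fin_cases s
  · exact Or.inl (key (bez_0 x) (by rw [← G_0]; exact hs))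
  · exact Or.inl (key (bez_1 x) (by rw [← G_1]; exact hs))
  · exact Or.inl (key (bez_2 x) (by rw [← G_2]; exact hs))
  · exact Or.inr (key (bez_3 x) (by rw [← G_3]; exact hs))
  · exact Or.inr (key (bez_4 x) (by rw [← G_4]; exact hs))
  · exact Or.inr (key (bez_5 x) (by rw [← G_5]; exact hs))
  · exact Or.inr (key (bez_6 x) (by rw [← G_6]; exact hs))
  · exact Or.inr (key (bez_7 x) (by rw [← G_7]; exact hs))
  · exact Or.inr (key (bez_8 x) (by rw [← G_8]; exact hs))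
  · exact Or.inr (key (bez_9 x) (by rw [← G_9]; exact hs))
  · exact Or.inr (key (bez_10 x) (by rw [← G_10]; exact hs))
  · exact Or.inl (key (bez_11 x) (by rw [← G_11]; exact hs))
  · exact Or.inl (key (bez_12 x) (by rw [← G_12]; exact hs))
  · exact Or.inl (key (bez_13 x) (by rw [← G_13]; exact hs))

end Cfsg.Agent.H129.DataE7n
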