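import Cfsg.Agent.H129.StCover
set_option linter.all false

/-!
# The torus of the Steinberg groups of type E₆, E₇ over any field (helper129)
-/

set_option autoImplicit false

namespace Cfsg.Agent.H129.PhiE

open Cfsg.Lie Cfsg.Lie.ChevalleyDatum Cfsg.Agent.ChevalleyStructure.StBasic Cfsg.Agent.ChevalleyStructure.StTorus
  Cfsg.Agent.ChevalleyStructure.StCenter Cfsg.Agent.ChevalleyStructure.StEmbed Cfsg.Agent.S1079
  Cfsg.Agent.H129.StCover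

universe u

theorem isPhi_E6 (K : Type u) [Field K] :
    ∃ Φ : (Fin chevE6.rank → Kˣ) →* chevE6.SteinbergGroup K, IsPhi Φ := by
  obtain ⟨Φ, hΦ, hle, hiff⟩ := exists_Phi K chevE6 (by simp)
  obtain ⟨Φ', hΦ', -, hiff'⟩ := exists_Phi K chevE7 (by simp)
  obtain ⟨hs, -, -⟩ := data chevE6 (by simp)
  obtain ⟨hs', -, -⟩ := data chevE7 (by simp)
  exact ⟨Φ, hΦ, hle, hiff, Phi_injective emb67 hs simple67 (by decide)
    hs' ![![-2, 1, -1, 0, 0, 0], ![-4, 2, -2, 0, 0, 0], ![-5, 2, -2, 0, 0, 0], ![-8, 3, -4, 0, 0, 0],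
      ![-7, 2, -4, -1, 0, 0], ![-6, 1, -4, -2, -1, 0], ![-5, 0, -4, -3, -2, -1]] (by decide +kernel)
    Φ hΦ Φ' hΦ' hiff'⟩

theorem isPhi_E7 (K : Type u) [Field K] :
    ∃ Φ : (Fin chevE7.rank → Kˣ) →* chevE7.SteinbergGroup K, IsPhi Φ := by
  obtain ⟨Φ, hΦ, hle, hiff⟩ := exists_Phi K chevE7 (by simp)
  obtain ⟨Φ', hΦ', -, hiff'⟩ := exists_Phi K chevE8 (by simp)
  obtain ⟨hs, -, -⟩ := data chevE7 (by simp)
  obtain ⟨hs', -, -⟩ := data chevE8 (by simp)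
  exact ⟨Φ, hΦ, hle, hiff, Phi_injective emb78 hs simple78 (by decide)
    hs' ![![-2, 1, -1, 0, 0, 0, 0], ![-4, 2, -2, 0, 0, 0, 0], ![-5, 2, -2, 0, 0, 0, 0],
      ![-8, 3, -4, 0, 0, 0, 0], ![-7, 2, -4, -1, 0, 0, 0], ![-6, 1, -4, -2, -1, 0, 0],
      ![-5, 0, -4, -3, -2, -1, 0], ![-4, -1, -4, -4, -3, -2, -1]] (by decide +kernel)
    Φ hΦ Φ' hΦ' hiff'⟩

end Cfsg.Agent.H129.PhiE
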