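import Cfsg.Agent.H129.WData
import Cfsg.Agent.H129.TorusUntw
set_option linter.all false

/-!
# Self-centralising cyclic tori of the untwisted groups from explicit data (helper129)
-/

set_option autoImplicit false
set_option linter.unusedSectionVars false

namespace Cfsg.Agent.H129.UntwData

open CoxeterSystem Cfsg Cfsg.Lie Cfsg.Lie.ChevalleyDatum
open Cfsg.Agent.ChevalleyStructure Cfsg.Agent.ChevalleyStructure.Elts Cfsg.Agent.ChevalleyStructure.CoxeterGeom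
  Cfsg.Agent.ChevalleyStructure.CoxeterGeomTypes Cfsg.Agent.ChevalleyStructure.NPerm
open Cfsg.Agent.Tits.Roots Cfsg.Agent.Tits.Core Cfsg.Agent.Nodes Cfsg.Agent.Nodes.Reps Cfsg.Agent.Nodes.BNOf
  Cfsg.Agent.Nodes.RGDChev
open Cfsg.Agent.H129.TorusChar Cfsg.Agent.H129.TorusCent Cfsg.Agent.H129.TorusTw Cfsg.Agent.H129.TorusMain
  Cfsg.Agent.H129.TorusUntw Cfsg.Agent.H129.WData

universe u

variable {D : ChevalleyDatum} {l : ℕ} {M : CoxeterMatrix (Fin l)} (hp : IsType D l M)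
  {W : Type*} [Group W] (cs : CoxeterSystem M W)

include hp cs in
theorem untw_data [Finite W] (hl : 0 < l) {F : Type u} [Field F] [Fintype F] {q : ℕ} (hq : Fintype.card F = q)
    {d' : ℕ} {B' : Fin l → Fin l → ℤ} (hB : InvC D l d' B') (hd' : d' ≠ 0) (hF : ∀ a : F, ∃ b : F, b ^ d' = a)
    {A : Mat l} (hA : ∀ i j, A i j = cartanOf D l i j) {L : List (Fin l × Mat l)} (hL : ChainOK A L)
    {V B : Mat l} {c : Fin l → ℤ} (hcyc : CycOK l (hd L) V B c) {m : ℕ} {R : Fin m → Fin l → ℤ} {prv dep : ℕ → ℕ}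
    (hR : RootOK D l (hd L) R prv dep) {N r : ℕ} (hfN : fN c (q : ℤ) = N)
    (hqN : q.Coprime N) (hr : r.Prime) (hrW : ¬ r ∣ Nat.card W) (hrN : r ∣ N)
    (hG : ∀ s, ¬ (r : ℤ) ∣ Gq B (q : ℤ) (R s)) :
    ∃ H : Subgroup ↥(D.group F), IsCyclic ↥H ∧ Nat.card ↥H = N ∧
      Subgroup.centralizer (H : Set ↥(D.group F)) = H := by
  have hlin := lin_refl hp cs hA hL
  have hc := cyc_of hlin hcyc
  have hnot := fun {a : Fin l → ℤ} (ha : IsRoot cs hp.isCartan a) =>
    not_dvd_G hp cs hlin hc hR hfN hr hrN hqN hG ha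
  exact untw_one hp cs hl hq hB hd' hF (cs.wordProd (L.map Prod.fst)) hc hfN hqN hr hrW hrN
    (fun a ha h1 => absurd h1 (hnot ha)) (fun a ha => absurd ha.2 (hnot ha.1))

/-- primality to `q` of `q * a + 1` -/
theorem coprime_of_eq {q N : ℕ} {a : ℤ} (h : (N : ℤ) = q * a + 1) : q.Coprime N := by
  rw [← Nat.isCoprime_iff_coprime]
  exact ⟨-a, 1, by rw [h]; ring⟩

end Cfsg.Agent.H129.UntwData
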