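import Cfsg.Agent.H129.StabGen
import Cfsg.Agent.H129.UntwTwo
import Cfsg.Agent.H129.UntwData
import Cfsg.Agent.H129.DataG2h
import Cfsg.Agent.H129.DataF4h
import Cfsg.Agent.H129.DataE6
import Cfsg.Agent.H129.DataE8
import Cfsg.Agent.H101.RealOdd
import Cfsg.Agent.S2373
import Cfsg.Agent.S1092
import Cfsg.Agent.S1093
import Cfsg.Agent.H129.WData
import Cfsg.Agent.H129.RootFast
import Cfsg.Agent.H129.PhiE
import Cfsg.Agent.H129.DataE7m
import Cfsg.Agent.FastGrp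
import Cfsg.Agent.Prune
set_option linter.all false

section
prune_inst 0x7ffffffffff8afffdfff7e7ffef9dffe1bd1dfffafdffb4bffecf1ff2f9f23021be5fb879de050ff0ed6e2b630b87813fbffffffef6ffc7ffffdfff45ffbee5fe5f6bd8911d698340fb80fff63f07fce7f3fffffffffffffffffffffffffffbeffffffffffff

-- part: H129/TorAct
section
prune_inst 0x50000000018000062001c42a2000402004b00000020010404808a002003862108200112901000440034004000000100000000000000000041180180102002020040a000000000000000000000000000000000000000000000000000000000000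
set_option linter.all false
open scoped Cfsg.Agent.FastGrp

/-!
# The normalizer action on the twisted tori (helper129)

* `torus_lang` : Lang's theorem for the twisted torus;
* `TD` : a generator `t` of the twisted torus of `w`; `TD.exists`;
* `TD.mem_TT` : `C_Y(t ^ j) = T` if `t ^ j` has prime order `r`, `r ∤ |W|` and `r ∤ G(a)` for all roots `a`;
* `TD.exists_norm` : if `v ∈ W` commutes with `θ` and acts as `s` on `L/(θ - q)` there is `y` with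
  `n σ(y) n⁻¹ = y` and `y t^s y⁻¹ = t`;
* `TD.T` : the subgroup of a finite group `G0`; `isCyclic_T`, `card_T_dvd`, `dvd_card_T`, `centralizer_le`,
  `exists_act`.
-/

set_option autoImplicit false
set_option linter.unusedSectionVars false

namespace Cfsg.Agent.H129.TorAct

open CoxeterSystem Cfsg Cfsg.Lie Cfsg.Lie.ChevalleyDatum
open Cfsg.Agent.ChevalleyStructure Cfsg.Agent.ChevalleyStructure.Elts Cfsg.Agent.ChevalleyStructure.CoxeterGeom
  Cfsg.Agent.ChevalleyStructure.CoxeterGeomTypes Cfsg.Agent.ChevalleyStructure.NPerm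
open Cfsg.Agent.Tits.Roots Cfsg.Agent.Tits.Core Cfsg.Agent.Nodes Cfsg.Agent.Nodes.Reps Cfsg.Agent.Nodes.BNOf
  Cfsg.Agent.Nodes.RGDChev Cfsg.Agent.Nodes.Bruhat Cfsg.Agent.Nodes.SubComb Cfsg.Agent.Nodes.Coroot
open Cfsg.Agent.KFacts.RgdField Cfsg.Agent.KFacts.RgdChevCoord Cfsg.Agent.BpExc.TorCent Cfsg.Agent.BpExc.TorChev
open Cfsg.Agent.GpExc.Field Cfsg.Agent.BpExc.Tow Cfsg.Agent.BpExc.TowChev Cfsg.Agent.BpExc.Fr
  Cfsg.Agent.BpExc.LangFr Cfsg.Agent.LangThm Cfsg.Agent.BpExc Cfsg.Agent.H129.TorusChar Cfsg.Agent.H129.TorusCent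
  Cfsg.Agent.H129.TorusTw Cfsg.Agent.H129.TorusMain Cfsg.Agent.H129.StabGen

universe u

/-! ### characters on a cyclic lattice -/

section Cyc

variable {l : ℕ} {θ : (Fin l → ℤ) →+ (Fin l → ℤ)} {V B : Fin l → Fin l → ℤ} {c : Fin l → ℤ} (h : Cyc l θ V B c)
  {k : Type u} [Field k]

include h

theorem ext_V {φ ψ : (Fin l → ℤ) → k} (hφ : IsMC φ) (hψ : IsMC ψ) (e : ∀ i, φ (V i) = ψ (V i)) (x : Fin l → ℤ) :
    φ x = ψ x := by
  rw [h.eq_sum x, hφ.sum_smul, hψ.sum_smul]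
  exact Finset.prod_congr rfl fun i _ => by rw [e]

/-- A character with given values on the basis. -/
theorem exists_mc (a : Fin l → k) (ha : ∀ i, a i ≠ 0) : ∃ α : (Fin l → ℤ) → k, IsMC α ∧ ∀ i, α (V i) = a i := by
  let co : (Fin l → ℤ) →+ (Fin l → ℤ) :=
    { toFun := fun x i => ∑ j, x j * B j i
      map_zero' := by funext i; simp
      map_add' := fun x y => by
        funext i
        rw [Pi.add_apply, ← Finset.sum_add_distrib]
        exact Finset.sum_congr rfl fun j _ => by rw [Pi.add_apply, add_mul] }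
  refine ⟨fun x => ∏ i, a i ^ co x i, (IsMC.of_prod a ha).comp co, fun i => ?_⟩
  show ∏ i', a i' ^ (∑ j, V i j * B j i') = a i
  rw [Finset.prod_eq_single i]
  · rw [h.dual, if_pos rfl, zpow_one]
  · intro j _ hj
    rw [h.dual, if_neg (Ne.symm hj), zpow_zero]
  · intro hi
    exact absurd (Finset.mem_univ i) hi

/-- **Lang's theorem for the characters.** -/
theorem exists_lang [IsAlgClosed k] (hl : 0 < l) {q N : ℕ} (hN : fN c q = N) (hN0 : N ≠ 0)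
    {χ : (Fin l → ℤ) → k} (hχ : IsMC χ) :
    ∃ φ : (Fin l → ℤ) → k, IsMC φ ∧ ∀ x, φ (θ x) = χ (θ x) * φ x ^ q := by
  classical
  -- the constants
  let a' : ℕ → k := fun n => Nat.rec 1 (fun i y => (if hi : i + 1 < l then χ (V ⟨i + 1, hi⟩) else 1) * y ^ q) n
  have ha'0 : ∀ n, a' n ≠ 0 := by
    intro n
    induction n with
    | zero => exact one_ne_zero
    | succ n ih =>
      show (if hi : n + 1 < l then χ (V ⟨n + 1, hi⟩) else 1) * a' n ^ q ≠ 0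
      refine mul_ne_zero ?_ (pow_ne_zero _ ih)
      split_ifs
      · exact hχ.ne_zero _
      · exact one_ne_zero
  obtain ⟨α, hα, hαV⟩ := exists_mc h (fun i : Fin l => a' i) (fun i => ha'0 i)
  let i1 : Fin l := ⟨l - 1, by omega⟩
  have hb0 : α (θ (V i1)) * (χ (θ (V i1)) * a' i1 ^ q)⁻¹ ≠ 0 :=
    mul_ne_zero (hα.ne_zero _) (inv_ne_zero (mul_ne_zero (hχ.ne_zero _) (pow_ne_zero _ (ha'0 _))))
  obtain ⟨u, hu⟩ := IsAlgClosed.exists_pow_nat_eq (α (θ (V i1)) * (χ (θ (V i1)) * a' i1 ^ q)⁻¹)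
    (Nat.pos_of_ne_zero hN0)
  have hu0 : u ≠ 0 := by
    rintro rfl
    rw [zero_pow hN0] at hu
    exact hb0 hu.symm
  have hmcu : IsMC (fun x => u ^ Gq B q x) := ⟨by show u ^ Gq B q 0 = 1; rw [Gq_zero, zpow_zero], fun x y => by
    show u ^ Gq B q (x + y) = u ^ Gq B q x * u ^ Gq B q y
    rw [Gq_add, zpow_add₀ hu0]⟩
  have hφ : IsMC (fun x => u ^ Gq B q x * α x) := ⟨by
    show u ^ Gq B q 0 * α 0 = 1
    rw [Gq_zero, zpow_zero, hα.zero, one_mul], fun x y => by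
    show u ^ Gq B q (x + y) * α (x + y) = (u ^ Gq B q x * α x) * (u ^ Gq B q y * α y)
    rw [Gq_add, zpow_add₀ hu0, hα.add]
    ring⟩
  refine ⟨_, hφ, ?_⟩
  have h1 : IsMC (fun x => (u ^ Gq B q (θ x) * α (θ x))) := hφ.comp θ
  have h2 : IsMC (fun x => χ (θ x) * (u ^ Gq B q x * α x) ^ q) := by
    refine ⟨?_, fun x y => ?_⟩
    · show χ (θ 0) * (u ^ Gq B q 0 * α 0) ^ q = 1
      rw [map_zero, hχ.zero, Gq_zero, hα.zero, zpow_zero, one_mul, one_mul, one_pow]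
    · show χ (θ (x + y)) * (u ^ Gq B q (x + y) * α (x + y)) ^ q = _
      rw [map_add, hχ.add, Gq_add, zpow_add₀ hu0, hα.add]
      ring
  refine fun x => ext_V h h1 h2 (fun i => ?_) x
  show u ^ Gq B q (θ (V i)) * α (θ (V i)) = χ (θ (V i)) * (u ^ Gq B q (V i) * α (V i)) ^ q
  rw [h.G_V, hαV]
  rcases Nat.lt_or_ge ((i : ℕ) + 1) l with hi | hi
  · rw [h.succ i ⟨(i : ℕ) + 1, hi⟩ rfl, h.G_V, hαV]
    have e1 : a' ((i : ℕ) + 1) = χ (V ⟨(i : ℕ) + 1, hi⟩) * a' i ^ q := by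
      show (if hi : (i : ℕ) + 1 < l then χ (V ⟨(i : ℕ) + 1, hi⟩) else 1) * a' i ^ q = _
      rw [dif_pos hi]
    show u ^ (q : ℤ) ^ ((i : ℕ) + 1) * a' ((i : ℕ) + 1) = _
    rw [e1, mul_pow]
    have e2 : (u ^ (q : ℤ) ^ (i : ℕ)) ^ q = u ^ (q : ℤ) ^ ((i : ℕ) + 1) := by
      rw [← zpow_natCast, ← zpow_mul, pow_succ]
    rw [e2]
    ring
  · have hi' : (i : ℕ) + 1 = l := by have := i.2; omega
    have hi1 : i = i1 := Fin.ext (by show (i : ℕ) = l - 1; omega)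
    rw [h.G_last q i hi', hN, hi1]
    have e2 : (u ^ (q : ℤ) ^ (i1 : ℕ)) ^ q = u ^ (q : ℤ) ^ l := by
      rw [← zpow_natCast, ← zpow_mul, ← pow_succ]
      congr 2
      show l - 1 + 1 = l
      omega
    rw [mul_pow, e2, zpow_sub₀ hu0, zpow_natCast, hu]
    have h3 := hα.ne_zero (θ (V i1))
    have h4 := hχ.ne_zero (θ (V i1))
    have h5 : a' i1 ^ q ≠ 0 := pow_ne_zero _ (ha'0 _)
    have h6 : u ^ (q : ℤ) ^ l ≠ 0 := zpow_ne_zero _ hu0
    field_simp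

end Cyc

/-! ### the twisted torus -/

section Tau

variable {D : ChevalleyDatum} {l : ℕ} {M : CoxeterMatrix (Fin l)} (hp : IsType D l M) {k : Type u} [Field k]
  {W : Type*} [Group W] (cs : CoxeterSystem M W) {p e : ℕ} [Fact p.Prime] [CharP k p] {σ : MulAut ↥(D.group k)}
  {g : (Fin l → ℤ) ≃+ (Fin l → ℤ)}

theorem cX_tau [IsAlgClosed k] (hk : LocFin k) {hN : NSys M (TT D k) (nc hp k)} (hσ : IsFrob p e σ)
    (F : Fr cs hp.isCartan (TT D k) (XX D l k) σ g) {w : W} {n : ↥(D.group k)} (hn : Rp cs hN w n)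
    {t : ↥(D.group k)} (ht : t ∈ TT D k) (x : Fin l → ℤ) :
    cX hp (n * σ t * n⁻¹) (theta hp cs w g x) = cX hp t x ^ p ^ e := by
  have hσt : σ t ∈ TT D k := (F.tor t).2 ht
  rw [theta_apply, cX_rp hp cs hk p hn hσt, cX_sigma hp cs hσ F ht]

theorem tau_mem {hN : NSys M (TT D k) (nc hp k)} (F : Fr cs hp.isCartan (TT D k) (XX D l k) σ g) {w : W}
    {n : ↥(D.group k)} (hn : Rp cs hN w n) {t : ↥(D.group k)} (ht : t ∈ TT D k) : n * σ t * n⁻¹ ∈ TT D k :=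
  (Subgroup.mem_normalizer_iff.1 hn.mem_normalizer (σ t)).1 ((F.tor t).2 ht)

theorem exists_theta (w : W) (x : Fin l → ℤ) : ∃ y, theta hp cs w g y = x :=
  ⟨g.symm (rep cs hp.isCartan w⁻¹ x), by rw [theta_apply, AddEquiv.apply_symm_apply, rep_apply_inv]⟩

/-- **Lang's theorem for the twisted torus.** -/
theorem torus_lang [IsAlgClosed k] (hl : 0 < l) (hk : LocFin k) {hN : NSys M (TT D k) (nc hp k)} (hσ : IsFrob p e σ)
    (F : Fr cs hp.isCartan (TT D k) (XX D l k) σ g) {d' : ℕ} {B' : Fin l → Fin l → ℤ} (hB : InvC D l d' B')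
    (hd' : d' ≠ 0) {w : W} {n : ↥(D.group k)} (hn : Rp cs hN w n) {V B : Fin l → Fin l → ℤ} {c : Fin l → ℤ}
    (h : Cyc l (theta hp cs w g) V B c) {N : ℕ} (hfN : fN c ((p ^ e : ℕ) : ℤ) = N) (hN0 : N ≠ 0)
    {s : ↥(D.group k)} (hs : s ∈ TT D k) : ∃ t ∈ TT D k, t = s * (n * σ t * n⁻¹) := by
  obtain ⟨φ, hφ, h1⟩ := exists_lang h hl hfN hN0 (isMC_cX hp hs)
  obtain ⟨t, ht, h2⟩ := exists_cX hp hB hd' hφ (fun i => IsAlgClosed.exists_pow_nat_eq _ (Nat.pos_of_ne_zero hd'))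
  have hm := tau_mem hp cs F hn ht
  refine ⟨t, ht, cX_inj hp ht (mul_mem hs hm) fun i => ?_⟩
  obtain ⟨y, hy⟩ := exists_theta (g := g) hp cs w (sr i)
  rw [← hy, cX_mul hp hs hm, cX_tau hp cs hk hσ F hn ht, h2, h2, h1]

/-- A generator of the twisted torus of `w`. -/
structure TD (hN : NSys M (TT D k) (nc hp k)) (w : W) (σ : MulAut ↥(D.group k)) (B : Fin l → Fin l → ℤ) (Q : ℤ)
    (N : ℕ) (n z t : ↥(D.group k)) (u : k) : Prop where
  hn : Rp cs hN w n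
  hz : n = z⁻¹ * σ z
  ht : t ∈ TT D k
  hτ : n * σ t * n⁻¹ = t
  hu : IsPrimitiveRoot u N
  hcX : ∀ x, cX hp t x = u ^ Gq B Q x
  htN : orderOf t = N
  hgen : ∀ s ∈ TT D k, n * σ s * n⁻¹ = s → s ∈ Subgroup.zpowers t

variable {hp cs}

theorem TD.exists_of [IsAlgClosed k] (hl : 0 < l) (hk : LocFin k) {hN : NSys M (TT D k) (nc hp k)}
    (he : 0 < e) (hσ : IsFrob p e σ) (F : Fr cs hp.isCartan (TT D k) (XX D l k) σ g) {d' : ℕ}
    {B' : Fin l → Fin l → ℤ} (hB : InvC D l d' B') (hd' : d' ≠ 0) {w : W} {V B : Fin l → Fin l → ℤ} {c : Fin l → ℤ}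
    (h : Cyc l (theta hp cs w g) V B c) {N : ℕ} (hfN : fN c ((p ^ e : ℕ) : ℤ) = N) (hpN : ¬ p ∣ N) :
    ∃ n z t u, TD hp cs hN w σ B ((p ^ e : ℕ) : ℤ) N n z t u := by
  have hNk : (N : k) ≠ 0 := by
    rw [Ne, CharP.cast_eq_zero_iff k p]
    exact hpN
  obtain ⟨n, hn⟩ := exists_rp cs hN w
  obtain ⟨z, hz⟩ := lang_all hp cs he hσ F 1 n
  rw [map_one, one_mul] at hz
  obtain ⟨t, ht, hθ, htN, ⟨u, hu, hcX⟩, hgen⟩ := exists_gen hp h hl hB hd' (q := p ^ e) hfN hNk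
  exact ⟨n, z, t, u, hn, hz, ht, (tau_iff hp cs hk hσ F hn ht).2 hθ, hu, hcX, htN,
    fun s hs hs' => hgen s hs ((tau_iff hp cs hk hσ F hn hs).1 hs')⟩

namespace TD

variable {hN : NSys M (TT D k) (nc hp k)} {w : W} {V B : Fin l → Fin l → ℤ} {c : Fin l → ℤ} {Q : ℤ} {N : ℕ}
  {n z t : ↥(D.group k)} {u : k} (X : TD hp cs hN w σ B Q N n z t u)

include X

theorem val_pow (j : ℕ) (x : Fin l → ℤ) : cX hp (t ^ j) x = u ^ ((j : ℤ) * Gq B Q x) := by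
  rw [cX_pow hp X.ht, X.hcX, ← zpow_natCast, ← zpow_mul, mul_comm]

/-- **The centraliser of an element of good prime order is the torus.** -/
theorem mem_TT [Finite W] (hk : LocFin k) (p : ℕ) [Fact p.Prime] [CharP k p] (hN0 : N ≠ 0) {r : ℕ} (hr : r.Prime) (hrW : ¬ r ∣ Nat.card W)
    (hG : ∀ a, IsRoot cs hp.isCartan a → ¬ (r : ℤ) ∣ Gq B Q a) {j : ℕ} (hj : orderOf (t ^ j) = r)
    {c : ↥(D.group k)} (hc : c * t ^ j = t ^ j * c) : c ∈ TT D k := by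
  have htj : t ^ j ∈ TT D k := pow_mem X.ht j
  have hone : ∀ y : ℤ, u ^ y = 1 ↔ (N : ℤ) ∣ y := fun y => X.hu.zpow_eq_one_iff_dvd y
  -- the gcd
  have hj0 : j ≠ 0 := by
    rintro rfl
    rw [pow_zero, orderOf_one] at hj
    exact hr.one_lt.ne hj
  have hgcd : N = r * Nat.gcd N j := by
    have h1 : orderOf (t ^ j) = N / Nat.gcd N j := by rw [orderOf_pow' t hj0, X.htN]
    rw [hj] at h1
    have h2 := Nat.div_mul_cancel (Nat.gcd_dvd_left N j)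
    rw [← h1] at h2
    exact h2.symm
  have hval : ∀ x, cX hp (t ^ j) x = 1 ↔ (r : ℤ) ∣ Gq B Q x := by
    intro x
    rw [X.val_pow, hone]
    obtain ⟨m, hm⟩ := Nat.gcd_dvd_right N j
    have hd0 : Nat.gcd N j ≠ 0 := fun h0 => hN0 (by rw [hgcd, h0, mul_zero])
    have hco : Nat.Coprime r m := by
      have h3 : Nat.gcd N j = Nat.gcd (r * Nat.gcd N j) (Nat.gcd N j * m) := by
        rw [← hgcd, ← hm]
      rw [mul_comm r, Nat.gcd_mul_left] at h3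
      exact Nat.eq_of_mul_eq_mul_left (Nat.pos_of_ne_zero hd0) (h3.symm.trans (mul_one _).symm)
    have e1 : (N : ℤ) = (Nat.gcd N j : ℤ) * r := by
      rw [mul_comm]; exact_mod_cast hgcd
    have e2 : (j : ℤ) * Gq B Q x = (Nat.gcd N j : ℤ) * (m * Gq B Q x) := by
      rw [← mul_assoc]; congr 1; exact_mod_cast hm
    rw [e1, e2, mul_dvd_mul_iff_left (Nat.cast_ne_zero.2 hd0)]
    constructor
    · intro h4
      exact (Nat.isCoprime_iff_coprime.2 hco).dvd_of_dvd_mul_left h4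
    · intro h4
      exact h4.mul_left _
  refine mem_TT_of_comm hp cs htj hk p ?_ ?_ hc
  · intro a ha h3
    exact hG a ha ((hval a).1 h3)
  · intro w' hw'
    have hVV : ∀ a, IsRoot cs hp.isCartan a → cX hp (t ^ j) a ^ 1 = 1 → ∃ v i, a = rep cs hp.isCartan v (sr i) ∧
        rfl' cs v i ∈ (⊥ : Subgroup W) := by
      intro a ha h3
      rw [pow_one] at h3
      exact absurd ((hval a).1 h3) (hG a ha)
    refine stab_eq_one' hp cs htj hk p hr hrW (m := 1) (V := ⊥) ?_ hVV ?_ ?_ hw'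
    · intro a _
      rw [one_mul, ← cX_pow hp htj, ← hj, pow_orderOf_eq_one, cX_one]
    · intro v hv x
      rw [Subgroup.mem_bot.1 hv, map_one, Module.End.one_apply, sub_self]
      exact zero_mem _
    · intro v hv hv1
      exact absurd (Subgroup.mem_bot.1 hv) hv1

/-- **The Weyl group elements commuting with `θ` lift.** -/
theorem exists_norm [IsAlgClosed k] [Finite W] (hl : 0 < l) (hk : LocFin k) (hσ : IsFrob p e σ)
    (F : Fr cs hp.isCartan (TT D k) (XX D l k) σ g) {d' : ℕ} {B' : Fin l → Fin l → ℤ} (hB : InvC D l d' B')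
    (hd' : d' ≠ 0) (h : Cyc l (theta hp cs w g) V B c) (hfN : fN c ((p ^ e : ℕ) : ℤ) = N) (hN0 : N ≠ 0)
    {r : ℕ} (hr : r.Prime) (hrN : r ∣ N) (hrW : ¬ r ∣ Nat.card W)
    (hG : ∀ a, IsRoot cs hp.isCartan a → ¬ (r : ℤ) ∣ Gq B Q a) {v : W}
    (hv : ∀ x, rep cs hp.isCartan v (theta hp cs w g x) = theta hp cs w g (rep cs hp.isCartan v x)) {s : ℕ}
    (hs : ∀ x, (N : ℤ) ∣ Gq B Q (rep cs hp.isCartan v x) - s * Gq B Q x) :
    ∃ y, n * σ y * n⁻¹ = y ∧ y * t ^ s * y⁻¹ = t := by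
  obtain ⟨y0, hy0⟩ := exists_rp cs hN v
  have hnorm : ∀ {a : ↥(D.group k)}, a ∈ TT D k → y0 * a * y0⁻¹ ∈ TT D k := fun {a} ha =>
    (Subgroup.mem_normalizer_iff.1 hy0.mem_normalizer a).1 ha
  -- the action
  have hact : ∀ {a : ↥(D.group k)} (ha : a ∈ TT D k), n * σ a * n⁻¹ = a →
      n * σ (y0 * a * y0⁻¹) * n⁻¹ = y0 * a * y0⁻¹ := by
    intro a ha hna
    rw [tau_iff hp cs hk hσ F X.hn (hnorm ha)]
    rw [tau_iff hp cs hk hσ F X.hn ha] at hna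
    intro x
    have e1 : x = rep cs hp.isCartan v (rep cs hp.isCartan v⁻¹ x) := by rw [rep_apply_inv]
    rw [e1, ← hv, cX_rp hp cs hk p hy0 ha, cX_rp hp cs hk p hy0 ha]
    exact hna _
  have ht1 : n * σ (y0 * t * y0⁻¹) * n⁻¹ = y0 * t * y0⁻¹ := hact X.ht X.hτ
  have hy1 : (y0⁻¹ * (n * σ y0 * n⁻¹)) * t = t * (y0⁻¹ * (n * σ y0 * n⁻¹)) := by
    have e1 : (n * σ y0 * n⁻¹) * t * (n * σ y0 * n⁻¹)⁻¹ = y0 * t * y0⁻¹ := by
      rw [← ht1]
      nth_rewrite 1 [← X.hτ]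
      rw [map_mul, map_mul, map_inv]
      group
    have e2 : (n * σ y0 * n⁻¹) * t = y0 * t * y0⁻¹ * (n * σ y0 * n⁻¹) := by rw [← e1]; group
    calc (y0⁻¹ * (n * σ y0 * n⁻¹)) * t = y0⁻¹ * ((n * σ y0 * n⁻¹) * t) := by group
      _ = _ := by rw [e2]; group
  have hmem : y0⁻¹ * (n * σ y0 * n⁻¹) ∈ TT D k := by
    obtain ⟨m, hm⟩ := hrN
    have hm0 : m ≠ 0 := by rintro rfl; exact hN0 (by rw [hm, mul_zero])
    have ho : orderOf (t ^ m) = r := by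
      rw [orderOf_pow' t hm0, X.htN, hm, Nat.gcd_eq_right (Dvd.intro_left r rfl), Nat.mul_div_cancel _
        (Nat.pos_of_ne_zero hm0)]
    refine X.mem_TT hk p hN0 hr hrW hG ho ?_
    have h1 : Commute (y0⁻¹ * (n * σ y0 * n⁻¹)) t := hy1
    exact (h1.pow_right m).eq
  obtain ⟨t0, ht0, e0⟩ := torus_lang hp cs hl hk hσ F hB hd' X.hn h hfN hN0 hmem
  refine ⟨y0 * t0, ?_, ?_⟩
  · rw [map_mul]
    calc n * (σ y0 * σ t0) * n⁻¹ = y0 * ((y0⁻¹ * (n * σ y0 * n⁻¹)) * (n * σ t0 * n⁻¹)) := by group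
      _ = y0 * t0 := by rw [← e0]
  · have hts : t ^ s ∈ TT D k := pow_mem X.ht s
    have e1 : y0 * t0 * t ^ s * (y0 * t0)⁻¹ = y0 * t ^ s * y0⁻¹ := by
      have e2 : t0 * t ^ s = t ^ s * t0 :=
        cX_inj hp (mul_mem ht0 hts) (mul_mem hts ht0) fun i => by
          rw [cX_mul hp ht0 hts, cX_mul hp hts ht0, mul_comm]
      calc y0 * t0 * t ^ s * (y0 * t0)⁻¹ = y0 * (t0 * t ^ s) * t0⁻¹ * y0⁻¹ := by group
        _ = _ := by rw [e2]; group
    rw [e1]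
    refine cX_inj hp (hnorm hts) X.ht fun i => ?_
    have e3 : (sr i : Fin l → ℤ) = rep cs hp.isCartan v (rep cs hp.isCartan v⁻¹ (sr i)) := by rw [rep_apply_inv]
    rw [e3, cX_rp hp cs hk p hy0 hts, X.val_pow, X.hcX]
    obtain ⟨m, hm⟩ := hs (rep cs hp.isCartan v⁻¹ (sr i))
    have hu0 : u ≠ 0 := X.hu.ne_zero hN0
    have e4 : Gq B Q (rep cs hp.isCartan v (rep cs hp.isCartan v⁻¹ (sr i))) =
        (N : ℤ) * m + (s : ℤ) * Gq B Q (rep cs hp.isCartan v⁻¹ (sr i)) := by rw [← hm]; ring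
    have e5 : u ^ ((N : ℤ) * m) = 1 := by rw [zpow_mul, zpow_natCast, X.hu.pow_eq_one, one_zpow]
    rw [e4, zpow_add₀ hu0, e5, one_mul]

end TD

end Tau

end Cfsg.Agent.H129.TorAct
end

-- part: H129/TorFin
section
prune_inst 0x10002000018000060001e4282000402004b0001102001040486de002003862148a009121000884400340040000000000010000000000000011801a0902046028248a104660009803002000000000000000000000000000000041000000000000
set_option linter.all false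
open scoped Cfsg.Agent.FastGrp

/-!
# The torus of a finite group of Lie type and its normalizer (helper129)

`exists_T` : `G0` a finite group embedded in the fixed points of `σ`, containing the `d`-th powers of the fixed points:
a cyclic subgroup `T` of `G0` with `|T| ∣ N ∣ d |T|`, `C(y) ≤ T` for `y ∈ T` of good prime order, and for every
`v ∈ W` commuting with `θ` and acting on `L/(θ - q)` as `s` an element `g` of `G0` with `g y^(s^d) g⁻¹ = y` on `T`.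
-/

set_option autoImplicit false
set_option linter.unusedSectionVars false

namespace Cfsg.Agent.H129.TorAct

open CoxeterSystem Cfsg Cfsg.Lie Cfsg.Lie.ChevalleyDatum
open Cfsg.Agent.ChevalleyStructure Cfsg.Agent.ChevalleyStructure.Elts Cfsg.Agent.ChevalleyStructure.CoxeterGeom
  Cfsg.Agent.ChevalleyStructure.CoxeterGeomTypes Cfsg.Agent.ChevalleyStructure.NPerm
open Cfsg.Agent.Tits.Roots Cfsg.Agent.Tits.Core Cfsg.Agent.Nodes Cfsg.Agent.Nodes.Reps Cfsg.Agent.Nodes.BNOf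
  Cfsg.Agent.Nodes.RGDChev Cfsg.Agent.Nodes.Bruhat Cfsg.Agent.Nodes.SubComb Cfsg.Agent.Nodes.Coroot
open Cfsg.Agent.KFacts.RgdField Cfsg.Agent.KFacts.RgdChevCoord Cfsg.Agent.BpExc.TorCent Cfsg.Agent.BpExc.TorChev
open Cfsg.Agent.GpExc.Field Cfsg.Agent.BpExc.Tow Cfsg.Agent.BpExc.TowChev Cfsg.Agent.BpExc.Fr
  Cfsg.Agent.BpExc.LangFr Cfsg.Agent.LangThm Cfsg.Agent.BpExc Cfsg.Agent.H129.TorusChar Cfsg.Agent.H129.TorusCent
  Cfsg.Agent.H129.TorusTw Cfsg.Agent.H129.TorusMain Cfsg.Agent.H129.StabGen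

universe u

/-! ### abstract descent -/

section Abs

variable {G0 Y : Type*} [Group G0] [Group Y] {e0 : G0 →* Y} (he0 : Function.Injective e0) {a : Y}

/-- the subgroup of `G0` -/
def T0 (e0 : G0 →* Y) (a : Y) : Subgroup G0 := (Subgroup.zpowers a).comap e0

theorem mem_T0 {x : G0} : x ∈ T0 e0 a ↔ e0 x ∈ Subgroup.zpowers a := Iff.rfl

/-- the embedding -/
def T0hom (e0 : G0 →* Y) (a : Y) : ↥(T0 e0 a) →* ↥(Subgroup.zpowers a) :=
  (e0.comp (T0 e0 a).subtype).codRestrict (Subgroup.zpowers a) fun x => x.2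

include he0

theorem T0hom_injective : Function.Injective (T0hom e0 a) := by
  intro x y h
  have h1 : e0 x.1 = e0 y.1 := congrArg Subtype.val h
  exact Subtype.ext (he0 h1)

theorem isCyclic_T0 : IsCyclic ↥(T0 e0 a) := isCyclic_of_injective (T0hom e0 a) (T0hom_injective he0)

theorem card_T0_dvd : Nat.card ↥(T0 e0 a) ∣ orderOf a := by
  rw [← Nat.card_zpowers]
  exact Subgroup.card_dvd_of_injective (T0hom e0 a) (T0hom_injective he0)

theorem dvd_card_T0 {d : ℕ} (hd : a ^ d ∈ e0.range) : orderOf a ∣ d * Nat.card ↥(T0 e0 a) := by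
  obtain ⟨x, hx⟩ := hd
  have hxT : x ∈ T0 e0 a := by
    rw [mem_T0, hx]
    exact Subgroup.npow_mem_zpowers a d
  have h1 : orderOf (⟨x, hxT⟩ : ↥(T0 e0 a)) ∣ Nat.card ↥(T0 e0 a) := orderOf_dvd_natCard _
  rw [Subgroup.orderOf_mk] at h1
  rw [orderOf_dvd_iff_pow_eq_one, pow_mul, ← hx, ← map_pow]
  obtain ⟨m, hm⟩ := h1
  rw [hm, pow_mul, pow_orderOf_eq_one, one_pow, map_one]

theorem card_T0_ne (ha : a ∉ e0.range) (hfin : orderOf a ≠ 0) : Nat.card ↥(T0 e0 a) ≠ orderOf a := by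
  intro h
  apply ha
  have hfz : Finite ↥(Subgroup.zpowers a) := by
    rw [← Nat.card_zpowers] at hfin
    exact Nat.finite_of_card_ne_zero hfin
  have h1 : Function.Bijective (T0hom e0 a) :=
    (T0hom_injective he0).bijective_of_nat_card_le (by rw [h, Nat.card_zpowers])
  obtain ⟨x, hx⟩ := h1.2 ⟨a, Subgroup.mem_zpowers a⟩
  exact ⟨x.1, congrArg Subtype.val hx⟩

omit he0 in
theorem conj_iterate {b y : Y} {s : ℕ} (hb : y * a ^ s * y⁻¹ = a) (hba : b ∈ Subgroup.zpowers a) (n : ℕ) :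
    y ^ n * b ^ (s ^ n) * (y ^ n)⁻¹ = b := by
  have h1 : ∀ b ∈ Subgroup.zpowers a, y * b ^ s * y⁻¹ = b := by
    rintro b ⟨m, rfl⟩
    show y * (a ^ m) ^ s * y⁻¹ = a ^ m
    have e : (a ^ m) ^ s = (a ^ s) ^ m := by
      rw [← zpow_natCast, ← zpow_natCast, ← zpow_mul, ← zpow_mul, mul_comm]
    have e2 : y * (a ^ s) ^ m * y⁻¹ = (y * a ^ s * y⁻¹) ^ m := conj_zpow.symm
    rw [e, e2, hb]
  induction n with
  | zero => simp
  | succ n ih =>
    have h2 := h1 (b ^ s ^ n) (pow_mem hba _)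
    rw [← pow_mul, ← pow_succ] at h2
    calc y ^ (n + 1) * b ^ s ^ (n + 1) * (y ^ (n + 1))⁻¹ =
        y ^ n * (y * b ^ s ^ (n + 1) * y⁻¹) * (y ^ n)⁻¹ := by rw [pow_succ]; group
      _ = _ := by rw [h2, ih]

theorem exists_act {y : Y} {s d : ℕ} (hb : y * a ^ s * y⁻¹ = a) (hy : y ^ d ∈ e0.range) :
    ∃ g : G0, ∀ b ∈ T0 e0 a, g * b ^ (s ^ d) * g⁻¹ = b := by
  obtain ⟨g, hg⟩ := hy
  refine ⟨g, fun b hb' => he0 ?_⟩
  rw [map_mul, map_mul, map_inv, map_pow, hg]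
  exact conj_iterate hb hb' d

end Abs

section Main

variable {D : ChevalleyDatum} {l : ℕ} {M : CoxeterMatrix (Fin l)} {hp : IsType D l M} {k : Type u} [Field k]
  {W : Type*} [Group W] {cs : CoxeterSystem M W} {p e : ℕ} [Fact p.Prime] [CharP k p] {σ : MulAut ↥(D.group k)}
  {g : (Fin l → ℤ) ≃+ (Fin l → ℤ)}

theorem TD.centralizer_le [IsAlgClosed k] [Finite W] {hN : NSys M (TT D k) (nc hp k)} {w : W}
    {B : Fin l → Fin l → ℤ} {Q : ℤ} {N : ℕ} {n z t : ↥(D.group k)} {u : k} (X : TD hp cs hN w σ B Q N n z t u)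
    (hk : LocFin k) (p : ℕ) [Fact p.Prime] [CharP k p] (hN0 : N ≠ 0) {G0 : Type*} [Group G0]
    {e0 : G0 →* ↥(D.group k)} (he0 : Function.Injective e0) (hfix : ∀ x, σ (e0 x) = e0 x) {r : ℕ} (hr : r.Prime)
    (hrW : ¬ r ∣ Nat.card W) (hG : ∀ a, IsRoot cs hp.isCartan a → ¬ (r : ℤ) ∣ Gq B Q a) {y : G0}
    (hy : y ∈ T0 e0 (z * t * z⁻¹)) (hyr : orderOf y = r) :
    Subgroup.centralizer {y} ≤ T0 e0 (z * t * z⁻¹) := by
  intro c hc
  have hcy : c * y = y * c := (Subgroup.mem_centralizer_singleton_iff.1 hc)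
  have hfo : IsOfFinOrder (z * t * z⁻¹) := by
    have h1 : orderOf (z * t * z⁻¹) = N := by
      have h3 : z * t * z⁻¹ = MulAut.conj z t := rfl
      rw [h3, ← X.htN]
      exact orderOf_injective (MulAut.conj z).toMonoidHom (MulAut.conj z).injective t
    rw [← orderOf_pos_iff, h1]
    exact Nat.pos_of_ne_zero hN0
  obtain ⟨j, hj⟩ := (hfo.mem_powers_iff_mem_zpowers.2 hy)
  have hj' : (z * t * z⁻¹) ^ j = e0 y := hj
  have e1 : e0 y = z * t ^ j * z⁻¹ := by rw [← hj', conj_pow]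
  have hoj : orderOf (t ^ j) = r := by
    have h2 : orderOf (z * t ^ j * z⁻¹) = orderOf (t ^ j) := by
      have h3 : z * t ^ j * z⁻¹ = MulAut.conj z (t ^ j) := rfl
      rw [h3]
      exact orderOf_injective (MulAut.conj z).toMonoidHom (MulAut.conj z).injective (t ^ j)
    rw [← h2, ← e1, orderOf_injective e0 he0 y, hyr]
  have h3 : (z⁻¹ * e0 c * z) * t ^ j = t ^ j * (z⁻¹ * e0 c * z) := by
    have e2 : t ^ j = z⁻¹ * e0 y * z := by rw [e1]; group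
    rw [e2]
    calc z⁻¹ * e0 c * z * (z⁻¹ * e0 y * z) = z⁻¹ * (e0 c * e0 y) * z := by group
      _ = z⁻¹ * (e0 y * e0 c) * z := by rw [← map_mul, hcy, map_mul]
      _ = _ := by group
  have h4 := X.mem_TT hk p hN0 hr hrW hG hoj h3
  have h5 : n * σ (z⁻¹ * e0 c * z) * n⁻¹ = z⁻¹ * e0 c * z := by
    rw [map_mul, map_mul, map_inv, hfix, X.hz]
    group
  obtain ⟨m, hm⟩ := X.hgen _ h4 h5
  rw [mem_T0]
  refine ⟨m, ?_⟩
  show (z * t * z⁻¹) ^ m = e0 c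
  have h6 : t ^ m = z⁻¹ * e0 c * z := hm
  rw [conj_zpow, h6]
  group

/-- **The tori of the finite groups.** -/
theorem exists_T [IsAlgClosed k] [Finite W] (hl : 0 < l) (hk : LocFin k) {hN : NSys M (TT D k) (nc hp k)}
    (he : 0 < e) (hσ : IsFrob p e σ) (F : Fr cs hp.isCartan (TT D k) (XX D l k) σ g) {d' : ℕ}
    {B' : Fin l → Fin l → ℤ} (hB : InvC D l d' B') (hd' : d' ≠ 0) {w : W} {V B : Fin l → Fin l → ℤ} {c : Fin l → ℤ}
    (h : Cyc l (theta hp cs w g) V B c) {N : ℕ} (hfN : fN c ((p ^ e : ℕ) : ℤ) = N) (hpN : ¬ p ∣ N)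
    {G0 : Type*} [Group G0] {e0 : G0 →* ↥(D.group k)} (he0 : Function.Injective e0) (hfix : ∀ x, σ (e0 x) = e0 x)
    {d : ℕ} (hd : ∀ y, σ y = y → y ^ d ∈ e0.range) :
    ∃ T : Subgroup G0, IsCyclic ↥T ∧ Nat.card ↥T ∣ N ∧ N ∣ d * Nat.card ↥T ∧
      (∀ r : ℕ, r.Prime → ¬ r ∣ Nat.card W →
        (∀ a, IsRoot cs hp.isCartan a → ¬ (r : ℤ) ∣ Gq B ((p ^ e : ℕ) : ℤ) a) → ∀ y ∈ T, orderOf y = r →
        Subgroup.centralizer {y} ≤ T) ∧
      (∀ r : ℕ, r.Prime → r ∣ N → ¬ r ∣ Nat.card W →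
        (∀ a, IsRoot cs hp.isCartan a → ¬ (r : ℤ) ∣ Gq B ((p ^ e : ℕ) : ℤ) a) → ∀ (v : W) (s : ℕ),
        (∀ x, rep cs hp.isCartan v (theta hp cs w g x) = theta hp cs w g (rep cs hp.isCartan v x)) →
        (∀ x, (N : ℤ) ∣ Gq B ((p ^ e : ℕ) : ℤ) (rep cs hp.isCartan v x) - s * Gq B ((p ^ e : ℕ) : ℤ) x) →
        ∃ y : G0, ∀ b ∈ T, y * b ^ (s ^ d) * y⁻¹ = b) ∧
      ((∀ n z t u, TD hp cs hN w σ B ((p ^ e : ℕ) : ℤ) N n z t u → z * t * z⁻¹ ∉ e0.range) → Nat.card ↥T ≠ N) := by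
  have hN0 : N ≠ 0 := fun h0 => hpN (by rw [h0]; exact dvd_zero p)
  obtain ⟨n, z, t, u, X⟩ := TD.exists_of (hp := hp) (cs := cs) (hN := hN) hl hk he hσ F hB hd' h hfN hpN
  have hord : orderOf (z * t * z⁻¹) = N := by
    have h3 : z * t * z⁻¹ = MulAut.conj z t := rfl
    rw [h3, ← X.htN]
    exact orderOf_injective (MulAut.conj z).toMonoidHom (MulAut.conj z).injective t
  have hσz : σ z = z * n := by rw [X.hz]; group
  have hσa : σ (z * t * z⁻¹) = z * t * z⁻¹ := by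
    rw [map_mul, map_mul, map_inv, hσz]
    calc z * n * σ t * (z * n)⁻¹ = z * (n * σ t * n⁻¹) * z⁻¹ := by group
      _ = z * t * z⁻¹ := by rw [X.hτ]
  refine ⟨T0 e0 (z * t * z⁻¹), isCyclic_T0 he0, ?_, ?_, ?_, ?_, ?_⟩
  · have h1 := card_T0_dvd (a := z * t * z⁻¹) he0
    rwa [hord] at h1
  · have h1 := dvd_card_T0 he0 (hd _ hσa)
    rwa [hord] at h1
  · intro r hr hrW hG y hy hyr
    exact X.centralizer_le hk p hN0 he0 hfix hr hrW hG hy hyr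
  · intro r hr hrN hrW hG v s hv hs
    obtain ⟨y, hy, hyt⟩ := X.exists_norm hl hk hσ F hB hd' h hfN hN0 hr hrN hrW hG hv hs
    have hσy : σ (z * y * z⁻¹) = z * y * z⁻¹ := by
      rw [map_mul, map_mul, map_inv, hσz]
      calc z * n * σ y * (z * n)⁻¹ = z * (n * σ y * n⁻¹) * z⁻¹ := by group
        _ = z * y * z⁻¹ := by rw [hy]
    refine exists_act he0 (y := z * y * z⁻¹) (s := s) (d := d) ?_ (hd _ hσy)
    rw [conj_pow]
    calc z * y * z⁻¹ * (z * t ^ s * z⁻¹) * (z * y * z⁻¹)⁻¹ = z * (y * t ^ s * y⁻¹) * z⁻¹ := by group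
      _ = z * t * z⁻¹ := by rw [hyt]
  · intro h1
    have h2 := card_T0_ne he0 (h1 n z t u X) (by rw [hord]; exact hN0)
    rwa [hord] at h2

end Main

/-! ### consequences -/

section Cons

variable {G : Type*} [Group G] [Finite G] {T : Subgroup G}

/-- If the centralisers of the elements of prime order of `T` lie in `T`, the same holds for all non-trivial elements. -/
theorem cent_le_of_prime (h : ∀ r : ℕ, r.Prime → ∀ y ∈ T, orderOf y = r → Subgroup.centralizer {y} ≤ T) {y : G}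
    (hy : y ∈ T) (hy1 : y ≠ 1) : Subgroup.centralizer {y} ≤ T := by
  have h1 : orderOf y ≠ 1 := fun h2 => hy1 (orderOf_eq_one_iff.1 h2)
  obtain ⟨r, hr, hrd⟩ := Nat.exists_prime_and_dvd h1
  obtain ⟨m, hm⟩ := hrd
  have hpos := orderOf_pos y
  have hm0 : m ≠ 0 := by rintro rfl; rw [mul_zero] at hm; omega
  have ho : orderOf (y ^ m) = r := by
    rw [orderOf_pow' y hm0, hm, Nat.gcd_eq_right (Dvd.intro_left r rfl),
      Nat.mul_div_cancel _ (Nat.pos_of_ne_zero hm0)]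
  refine le_trans ?_ (h r hr _ (pow_mem hy m) ho)
  intro c hc
  rw [Subgroup.mem_centralizer_singleton_iff] at hc ⊢
  have h2 : Commute c y := hc
  exact (h2.pow_right m).eq

end Cons

end Cfsg.Agent.H129.TorAct
end

-- part: H129/UntwT
section
set_option linter.all false
open scoped Cfsg.Agent.FastGrp

/-!
# The cyclic tori of the untwisted groups with their normalizer action (helper129)
-/

set_option autoImplicit false
set_option linter.unusedSectionVars false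

namespace Cfsg.Agent.H129.UntwT

open CoxeterSystem Cfsg Cfsg.Lie Cfsg.Lie.ChevalleyDatum
open Cfsg.Agent.ChevalleyStructure Cfsg.Agent.ChevalleyStructure.Elts Cfsg.Agent.ChevalleyStructure.CoxeterGeom
  Cfsg.Agent.ChevalleyStructure.CoxeterGeomTypes Cfsg.Agent.ChevalleyStructure.NPerm
open Cfsg.Agent.Tits.Roots Cfsg.Agent.Tits.Core Cfsg.Agent.Nodes Cfsg.Agent.Nodes.Reps Cfsg.Agent.Nodes.BNOf
  Cfsg.Agent.Nodes.RGDChev Cfsg.Agent.Nodes.Bruhat Cfsg.Agent.Nodes.SubComb Cfsg.Agent.Nodes.Coroot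
open Cfsg.Agent.KFacts.RgdField Cfsg.Agent.KFacts.RgdChevCoord Cfsg.Agent.BpExc.TorCent Cfsg.Agent.BpExc.TorChev
open Cfsg.Agent.GpExc.Field Cfsg.Agent.BpExc.Tow Cfsg.Agent.BpExc.TowChev Cfsg.Agent.BpExc.Fr
  Cfsg.Agent.BpExc.LangFr Cfsg.Agent.LangThm Cfsg.Agent.BpExc Cfsg.Agent.H129.TorusChar Cfsg.Agent.H129.TorusCent
  Cfsg.Agent.H129.TorusTw Cfsg.Agent.H129.TorusMain Cfsg.Agent.H129.TorusUntw Cfsg.Agent.H129.TorAct
  Cfsg.Agent.H129.WData Cfsg.Agent.H129.UntwTwo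

universe u

variable {D : ChevalleyDatum} {l : ℕ} {M : CoxeterMatrix (Fin l)} (hp : IsType D l M)
  {W : Type*} [Group W] (cs : CoxeterSystem M W)

include hp cs in
/-- **The cyclic tori of the untwisted groups.** -/
theorem untw_T [Finite W] (hl : 0 < l) {F : Type u} [Field F] [Fintype F] {q : ℕ} (hq : Fintype.card F = q)
    {d' : ℕ} {B' : Fin l → Fin l → ℤ} (hB : InvC D l d' B') (hd' : d' ≠ 0)
    {A : Mat l} (hA : ∀ i j, A i j = cartanOf D l i j) {L : List (Fin l × Mat l)} (hL : ChainOK A L)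
    {V B : Mat l} {c : Fin l → ℤ} (hcyc : CycOK l (hd L) V B c) {m : ℕ} {R : Fin m → Fin l → ℤ} {prv dep : ℕ → ℕ}
    (hR : RootOK D l (hd L) R prv dep) {N : ℕ} (hfN : fN c (q : ℤ) = N) (hqN : q.Coprime N) {d : ℕ}
    (hdd : d = d' ∨ d = 1 ∧ ∀ a : F, ∃ b : F, b ^ d' = a) :
    ∃ T : Subgroup ↥(D.group F), IsCyclic ↥T ∧ Nat.card ↥T ∣ N ∧ N ∣ d * Nat.card ↥T ∧
      (∀ r : ℕ, r.Prime → ¬ r ∣ Nat.card W → (∀ s, ¬ (r : ℤ) ∣ Gq B (q : ℤ) (R s)) → ∀ y ∈ T, orderOf y = r →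
        Subgroup.centralizer {y} ≤ T) ∧
      (∀ r : ℕ, r.Prime → r ∣ N → ¬ r ∣ Nat.card W → (∀ s, ¬ (r : ℤ) ∣ Gq B (q : ℤ) (R s)) →
        ∃ y : ↥(D.group F), ∀ b ∈ T, y * b ^ (q ^ d) * y⁻¹ = b) := by
  have hlin := lin_refl hp cs hA hL
  have hc := cyc_of hlin hcyc
  obtain ⟨p, e, hpF, hpc, hpk, he, rfl, hk⟩ := exists_closure hq
  have hpN : ¬ p ∣ N := fun h1 => by
    have h2 : p ∣ Nat.gcd (p ^ e) N := Nat.dvd_gcd (dvd_pow_self p he.ne') h1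
    rw [hqN] at h2
    exact hpF.out.one_lt.ne' (Nat.dvd_one.1 h2)
  have hN0 : N ≠ 0 := fun h0 => hpN (by rw [h0]; exact dvd_zero p)
  have hd : ∀ y : ↥(D.group (AlgebraicClosure F)), phi D (AlgebraicClosure F) p e y = y →
      y ^ d ∈ (emb hp.inList (algebraMap F (AlgebraicClosure F))).range := by
    intro y hy
    rcases hdd with rfl | ⟨rfl, hF⟩
    · exact fix_pow_range hp cs _ hq hB hd' hy
    · rw [pow_one]
      exact fix_range hp cs _ hq hB hd' hF hy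
  obtain ⟨T, h1, h2, h3, h4, h5, -⟩ := exists_T (k := AlgebraicClosure F) (hp := hp) (cs := cs) hl hk
    (hN := nsys_of_locFin hp cs hk p) he isFrob_phi (fr_phi hp cs) hB hd'
    (w := cs.wordProd (L.map Prod.fst)) hc hfN hpN
    (e0 := emb hp.inList (algebraMap F (AlgebraicClosure F))) (emb_injective hp.inList _) (phi_emb hp _ hq) hd
  have hgood : ∀ r : ℕ, r.Prime → r ∣ N → (∀ s, ¬ (r : ℤ) ∣ Gq B ((p ^ e : ℕ) : ℤ) (R s)) →
      ∀ a, IsRoot cs hp.isCartan a → ¬ (r : ℤ) ∣ Gq B ((p ^ e : ℕ) : ℤ) a := fun r hr hrN hG a ha =>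
    not_dvd_G hp cs hlin hc hR hfN hr hrN hqN hG ha
  refine ⟨T, h1, h2, h3, ?_, ?_⟩
  · intro r hr hrW hG y hy hyr
    have hrN : r ∣ N := by
      rw [← hyr]
      refine dvd_trans ?_ h2
      have := orderOf_dvd_natCard (⟨y, hy⟩ : ↥T)
      rwa [Subgroup.orderOf_mk] at this
    exact h4 r hr hrW (hgood r hr hrN hG) y hy hyr
  · intro r hr hrN hrW hG
    have h6 := h5 r hr hrN hrW (hgood r hr hrN hG) (cs.wordProd (L.map Prod.fst)) (p ^ e)
      (fun x => by rw [theta_apply, theta_apply, AddEquiv.refl_apply, AddEquiv.refl_apply])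
      (fun x => by
        have h7 := hc.dvd_G ((p ^ e : ℕ) : ℤ) x
        rw [hfN, theta_apply, AddEquiv.refl_apply] at h7
        exact h7)
    exact h6

end Cfsg.Agent.H129.UntwT
end

-- part: H129/RealT
section
prune_inst 0x450002000000001000000000600005000000000120e009060109c24080028000088000000040000000040000000000000000000000000000000001209020040090080004460009801000000000000000000000000000000000000000000000000
set_option linter.all false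
open scoped Cfsg.Agent.FastGrp

/-!
# Real elements of odd prime order in the exceptional groups (helper129)

* `of_T` : the criterion; `realOdd_G2` (`q ≠ 2`), `realOdd_F4`, `realOdd_E6`, `realOdd_E8`.
-/

set_option autoImplicit false
set_option linter.unusedSectionVars false

namespace Cfsg.Agent.H129.RealT

open Cfsg Cfsg.Agent.H129 Cfsg.Agent.Nodes.RGDChev Cfsg.Agent.H129.TorusTw Cfsg.Agent.H101.RO

section Crit

variable {G : Type*} [Group G] [Finite G] {T : Subgroup G}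

/-- the action of the powers -/
theorem act_pow {Q : ℕ} {y : G} (hy : ∀ b ∈ T, y * b ^ Q * y⁻¹ = b) (j : ℕ) :
    ∀ b ∈ T, y ^ j * b ^ (Q ^ j) * (y ^ j)⁻¹ = b := by
  intro b hb
  induction j with
  | zero => simp
  | succ j ih =>
    have h1 := hy (b ^ Q ^ j) (pow_mem hb _)
    rw [← pow_mul, ← pow_succ] at h1
    calc y ^ (j + 1) * b ^ Q ^ (j + 1) * (y ^ (j + 1))⁻¹ =
        y ^ j * (y * b ^ Q ^ (j + 1) * y⁻¹) * (y ^ j)⁻¹ := by rw [pow_succ]; group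
      _ = _ := by rw [h1, ih]

/-- An element of order `r` of `T` inverted by a power of `y`. -/
theorem inv_of_act {r Q j : ℕ} (hQ : r ∣ Q ^ j + 1) {y : G} (hy : ∀ b ∈ T, y * b ^ Q * y⁻¹ = b) {x : G} (hx : x ∈ T)
    (hxr : orderOf x ∣ r) : y ^ j * x * (y ^ j)⁻¹ = x⁻¹ := by
  have h1 := act_pow hy j x hx
  have h2 : x ^ (Q ^ j) = x⁻¹ := by
    rw [eq_inv_iff_mul_eq_one, ← pow_succ, ← orderOf_dvd_iff_pow_eq_one]
    exact hxr.trans hQ
  rw [h2] at h1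
  calc y ^ j * x * (y ^ j)⁻¹ = (y ^ j * x⁻¹ * (y ^ j)⁻¹)⁻¹ := by group
    _ = x⁻¹ := by rw [h1]

theorem centralizer_eq (hc : IsCyclic ↥T) {r : ℕ} (hcent : ∀ y ∈ T, orderOf y = r → Subgroup.centralizer {y} ≤ T)
    {x : G} (hx : x ∈ T) (hxr : orderOf x = r) : Subgroup.centralizer {x} = T := by
  refine le_antisymm (hcent x hx hxr) fun b hb => ?_
  rw [Subgroup.mem_centralizer_singleton_iff]
  obtain ⟨⟨g, hg⟩, hgen⟩ := hc
  obtain ⟨i, hi⟩ := hgen ⟨x, hx⟩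
  obtain ⟨j, hj⟩ := hgen ⟨b, hb⟩
  have hi' : g ^ i = x := congrArg Subtype.val hi
  have hj' : g ^ j = b := congrArg Subtype.val hj
  rw [← hi', ← hj', ← zpow_add, ← zpow_add, add_comm]

/-- **The criterion.** -/
theorem of_T (hc : IsCyclic ↥T) {r : ℕ} (hr : r.Prime) (hr2 : r ≠ 2) (hrT : r ∣ Nat.card ↥T)
    (hodd : Odd (Nat.card ↥T)) (hcent : ∀ y ∈ T, orderOf y = r → Subgroup.centralizer {y} ≤ T) {Q j : ℕ}
    (hact : ∃ y : G, ∀ b ∈ T, y * b ^ Q * y⁻¹ = b) (hQ : r ∣ Q ^ j + 1) : RealOdd G := by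
  have hrf : Fact r.Prime := ⟨hr⟩
  obtain ⟨⟨x, hx⟩, hxr⟩ := exists_prime_orderOf_dvd_card' (G := ↥T) r hrT
  rw [Subgroup.orderOf_mk] at hxr
  obtain ⟨y, hy⟩ := hact
  refine ⟨x, r, 1, hr, hr2, le_rfl, by rw [pow_one, hxr], ?_, ?_⟩
  · rw [isConj_iff]
    exact ⟨y ^ j, inv_of_act hQ hy hx (by rw [hxr])⟩
  · have h1 := centralizer_eq hc hcent hx hxr
    rw [h1]
    exact hodd

theorem dvd_of_dvd_mul {r N d c : ℕ} (hr : r.Prime) (hrN : r ∣ N) (hrd : ¬ r ∣ d) (h : N ∣ d * c) : r ∣ c :=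
  ((Nat.Prime.dvd_mul hr).1 (hrN.trans h)).resolve_left hrd

theorem odd_of_dvd {a b : ℕ} (h : a ∣ b) (hb : Odd b) : Odd a := by
  obtain ⟨m, rfl⟩ := h
  exact (Nat.odd_mul.1 hb).1

end Crit

/-! ### arithmetic -/

/-- a prime divisor of `q² - q + 1` -/
theorem exists_prime6 {q : ℕ} (hq : 3 ≤ q) : ∃ r : ℕ, r.Prime ∧ r ∣ q ^ 2 - q + 1 ∧ r ≠ 2 ∧ r ≠ 3 := by
  have hle : q ≤ q ^ 2 := by nlinarith
  have hN : ((q ^ 2 - q + 1 : ℕ) : ℤ) = (q : ℤ) ^ 2 - q + 1 := by push_cast [Nat.cast_sub hle]; ring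
  by_contra hno
  push Not at hno
  have hz : ∀ n : ℕ, n ∣ q ^ 2 - q + 1 → ((q : ZMod n) ^ 2 - (q : ZMod n) + 1 = 0) := by
    intro n h
    have h1 : ((n : ℕ) : ℤ) ∣ (q : ℤ) ^ 2 - q + 1 := by rw [← hN]; exact Int.natCast_dvd_natCast.2 h
    have := (ZMod.intCast_zmod_eq_zero_iff_dvd _ n).2 h1
    push_cast at this
    exact this
  have h2 : ¬ 2 ∣ q ^ 2 - q + 1 := by
    intro h
    have h3 := hz 2 h
    generalize (q : ZMod 2) = x at h3; revert h3; revert x; decide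
  have h9 : ¬ 9 ∣ q ^ 2 - q + 1 := by
    intro h
    have h3 := hz 9 h
    generalize (q : ZMod 9) = x at h3; revert h3; revert x; decide
  have h1 : ∀ r : ℕ, r.Prime → r ∣ q ^ 2 - q + 1 → r = 3 := fun r hr hrq => by
    refine hno r hr hrq ?_
    rintro rfl
    exact h2 hrq
  have h4 : q ^ 2 - q + 1 = 3 ^ (q ^ 2 - q + 1).primeFactorsList.length :=
    Nat.eq_prime_pow_of_unique_prime_dvd (by omega) fun {d} hd hd' => h1 d hd hd'
  have h5 : (q ^ 2 - q + 1).primeFactorsList.length < 2 := by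
    by_contra h6
    have h6' : 2 ≤ (q ^ 2 - q + 1).primeFactorsList.length := by omega
    apply h9
    rw [h4]
    exact pow_dvd_pow 3 h6'
  have h7 : 3 ^ (q ^ 2 - q + 1).primeFactorsList.length ≤ 3 := by
    interval_cases (q ^ 2 - q + 1).primeFactorsList.length <;> norm_num
  have h8 : q ^ 2 = q * q := sq q
  have h10 : 3 * q ≤ q * q := Nat.mul_le_mul_right q hq
  omega

theorem not_dvd_of {r a b c d : ℕ} (hr : r.Prime) (h2 : r ≠ 2) (h3 : r ≠ 3) (h5 : r ≠ 5) (h7 : r ≠ 7) :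
    ¬ r ∣ 2 ^ a * 3 ^ b * 5 ^ c * 7 ^ d := by
  intro h
  rcases (Nat.Prime.dvd_mul hr).1 h with h | h
  · rcases (Nat.Prime.dvd_mul hr).1 h with h | h
    · rcases (Nat.Prime.dvd_mul hr).1 h with h | h
      · exact h2 ((Nat.prime_dvd_prime_iff_eq hr Nat.prime_two).1 (hr.dvd_of_dvd_pow h))
      · exact h3 ((Nat.prime_dvd_prime_iff_eq hr Nat.prime_three).1 (hr.dvd_of_dvd_pow h))
    · exact h5 ((Nat.prime_dvd_prime_iff_eq hr Nat.prime_five).1 (hr.dvd_of_dvd_pow h))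
  · exact h7 ((Nat.prime_dvd_prime_iff_eq hr (by norm_num)).1 (hr.dvd_of_dvd_pow h))

/-! ### the rows -/

universe u

variable {F : Type u} [Field F] [Fintype F]

/-- `G₂(q)`, `q ≠ 2` : the torus of order `q² - q + 1`. -/
theorem realOdd_G2 (h2 : Fintype.card F ≠ 2) : RealOdd ↥(Cfsg.Lie.chevG2.group F) := by
  obtain ⟨q, hF⟩ : ∃ q, Fintype.card F = q := ⟨_, rfl⟩
  have hq3 : 3 ≤ q := by
    have : 1 < Fintype.card F := Fintype.one_lt_card
    omega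
  have hp : IsType Cfsg.Lie.chevG2 2 CoxeterMatrix.G₂ := by simp
  have hW : Nat.card CoxeterMatrix.G₂.Group = 12 :=
    Cfsg.Agent.S1092.result (⟨2, CoxeterMatrix.G₂⟩, 12) (by simp)
  have : Finite CoxeterMatrix.G₂.Group := Nat.finite_of_card_ne_zero (by rw [hW]; norm_num)
  obtain ⟨r, hr, hrN, hr2, hr3⟩ := exists_prime6 hq3
  have hle : q ≤ q ^ 2 := by nlinarith only []
  have hN : ((q ^ 2 - q + 1 : ℕ) : ℤ) = 1 - (q : ℤ) + (q : ℤ) ^ 2 := by push_cast [Nat.cast_sub hle]; ring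
  have hrq : (r : ℤ) ∣ 1 - (q : ℤ) + (q : ℤ) ^ 2 := by rw [← hN]; exact Int.natCast_dvd_natCast.2 hrN
  have hrW : ¬ r ∣ Nat.card CoxeterMatrix.G₂.Group := by
    rw [hW]
    intro h
    have h2 : (12 : ℕ) = 2 ^ 2 * 3 := by norm_num
    rw [h2] at h
    rcases (Nat.Prime.dvd_mul hr).1 h with h | h
    · exact hr2 ((Nat.prime_dvd_prime_iff_eq hr Nat.prime_two).1 (hr.dvd_of_dvd_pow h))
    · exact hr3 ((Nat.prime_dvd_prime_iff_eq hr Nat.prime_three).1 h)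
  have hG : ∀ s, ¬ (r : ℤ) ∣ Gq DataG2h.B (q : ℤ) (DataG2h.R s) := by
    intro s hs
    rcases DataG2h.dvd_of_G hrq s hs with h1 | h1
    · exact hr.one_lt.ne' (Nat.dvd_one.1 (by exact_mod_cast h1))
    · exact hr3 ((Nat.prime_dvd_prime_iff_eq hr Nat.prime_three).1 (by exact_mod_cast h1))
  obtain ⟨T, h1, h3, h4, h5, h6⟩ := UntwT.untw_T hp CoxeterMatrix.G₂.toCoxeterSystem (by norm_num) hF
    TorusChar.invC_G2 one_ne_zero DataG2h.hA DataG2h.chainOK DataG2h.cycOK DataG2h.rootOK (N := q ^ 2 - q + 1)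
    (by rw [DataG2h.fN_eq, hN]) (UntwData.coprime_of_eq (a := (q : ℤ) - 1) (by rw [hN]; ring)) (d := 1) (Or.inl rfl)
  refine of_T h1 hr hr2 (dvd_of_dvd_mul hr hrN (fun h => hr.one_lt.ne' (Nat.dvd_one.1 h)) h4) (odd_of_dvd h3 ?_)
    (h5 r hr hrW hG) (h6 r hr hrN hrW hG) (j := 3) ?_
  · rcases Nat.even_or_odd q with ⟨m, hm⟩ | ⟨m, hm⟩
    · refine (Nat.even_sub hle |>.2 ?_).add_one
      rw [hm]; simp only [Nat.even_pow, parity_simps, _root_.Even.add_self, _root_.ne_eq, _root_.OfNat.ofNat_ne_zero, _root_.not_false_eq_true, _root_.and_self]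
    · refine (Nat.even_sub hle |>.2 ?_).add_one
      rw [hm]; simp only [Nat.even_pow, parity_simps, _root_.Nat.not_even_bit1, _root_.ne_eq, _root_.OfNat.ofNat_ne_zero, _root_.not_false_eq_true, _root_.and_true]
  · have h7 : (r : ℤ) ∣ (((q ^ 1) ^ 3 + 1 : ℕ) : ℤ) := by
      push_cast
      have e : ((q : ℤ) ^ 1) ^ 3 + 1 = (1 - (q : ℤ) + (q : ℤ) ^ 2) * (q + 1) := by ring
      rw [e]
      exact hrq.mul_right _
    exact Int.natCast_dvd_natCast.1 h7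

/-- `F₄(q)` : the torus of order `q⁴ - q² + 1`. -/
theorem realOdd_F4 : RealOdd ↥(Cfsg.Lie.chevF4.group F) := by
  obtain ⟨q, hF⟩ : ∃ q, Fintype.card F = q := ⟨_, rfl⟩
  have hq2 : 2 ≤ q := by rw [← hF]; exact Fintype.one_lt_card
  have hp : IsType Cfsg.Lie.chevF4 4 CoxeterMatrix.F₄ := by simp
  have hW : Nat.card CoxeterMatrix.F₄.Group = 1152 :=
    Cfsg.Agent.S1092.result (⟨4, CoxeterMatrix.F₄⟩, 1152) (by simp)
  have : Finite CoxeterMatrix.F₄.Group := Nat.finite_of_card_ne_zero (by rw [hW]; norm_num)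
  have h0 : q ^ 2 ≤ q ^ 4 := Nat.pow_le_pow_right (by omega) (by norm_num)
  have hN : ((q ^ 4 - q ^ 2 + 1 : ℕ) : ℤ) = 1 - (q : ℤ) ^ 2 + (q : ℤ) ^ 4 := by
    push_cast [Nat.cast_sub h0]; ring
  obtain ⟨r, hr, hrq, hr2, hr3, hr5, hr7⟩ := S2373.exists_prime hq2
  have hrN : r ∣ q ^ 4 - q ^ 2 + 1 := by
    have h1 := hrq
    rw [← hN] at h1
    exact Int.natCast_dvd_natCast.1 h1
  have hrW : ¬ r ∣ Nat.card CoxeterMatrix.F₄.Group := by
    rw [hW, show (1152 : ℕ) = 2 ^ 7 * 3 ^ 2 * 5 ^ 0 * 7 ^ 0 by norm_num]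
    exact not_dvd_of hr hr2 hr3 hr5 hr7
  have hG : ∀ s, ¬ (r : ℤ) ∣ Gq DataF4h.B (q : ℤ) (DataF4h.R s) := by
    intro s hs
    rcases DataF4h.dvd_of_G hrq s hs with h1 | h1
    · exact hr.one_lt.ne' (Nat.dvd_one.1 (by exact_mod_cast h1))
    · exact hr2 ((Nat.prime_dvd_prime_iff_eq hr Nat.prime_two).1 (by exact_mod_cast h1))
  obtain ⟨T, h1, h3, h4, h5, h6⟩ := UntwT.untw_T hp CoxeterMatrix.F₄.toCoxeterSystem (by norm_num) hF
    TorusChar.invC_F4 one_ne_zero DataF4h.hA DataF4h.chainOK DataF4h.cycOK DataF4h.rootOK (N := q ^ 4 - q ^ 2 + 1)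
    (by rw [DataF4h.fN_eq, hN]) (UntwData.coprime_of_eq (a := -(q : ℤ) + (q : ℤ) ^ 3) (by rw [hN]; ring)) (d := 1)
    (Or.inl rfl)
  refine of_T h1 hr hr2 (dvd_of_dvd_mul hr hrN (fun h => hr.one_lt.ne' (Nat.dvd_one.1 h)) h4) (odd_of_dvd h3 ?_)
    (h5 r hr hrW hG) (h6 r hr hrN hrW hG) (j := 6) ?_
  · refine (Nat.even_sub h0 |>.2 ?_).add_one
    simp only [Nat.even_pow, _root_.ne_eq, _root_.OfNat.ofNat_ne_zero, _root_.not_false_eq_true, _root_.and_true]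
  · have h7 : (r : ℤ) ∣ (((q ^ 1) ^ 6 + 1 : ℕ) : ℤ) := by
      push_cast
      have e : ((q : ℤ) ^ 1) ^ 6 + 1 = (1 - (q : ℤ) ^ 2 + (q : ℤ) ^ 4) * (q ^ 2 + 1) := by ring
      rw [e]
      exact hrq.mul_right _
    exact Int.natCast_dvd_natCast.1 h7

/-- `E₆(q)` : the torus of order `(q⁴ - q² + 1)(q² + q + 1)/(3, q - 1)`. -/
theorem realOdd_E6 : RealOdd ↥(Cfsg.Lie.chevE6.group F) := by
  obtain ⟨q, hF⟩ : ∃ q, Fintype.card F = q := ⟨_, rfl⟩
  have hq2 : 2 ≤ q := by rw [← hF]; exact Fintype.one_lt_card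
  have hp : IsType Cfsg.Lie.chevE6 6 CoxeterMatrix.E₆ := by simp
  have hW : Nat.card CoxeterMatrix.E₆.Group = 51840 :=
    Cfsg.Agent.S1093.result (⟨6, CoxeterMatrix.E₆⟩, 51840) (by simp)
  have : Finite CoxeterMatrix.E₆.Group := Nat.finite_of_card_ne_zero (by rw [hW]; norm_num)
  have h0 : q ^ 2 ≤ q ^ 4 := Nat.pow_le_pow_right (by omega) (by norm_num)
  have hN : (((q ^ 4 - q ^ 2 + 1) * (q ^ 2 + q + 1) : ℕ) : ℤ) =
      1 + (q : ℤ) - (q : ℤ) ^ 3 + (q : ℤ) ^ 5 + (q : ℤ) ^ 6 := by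
    push_cast [Nat.cast_sub h0]; ring
  obtain ⟨r, hr, hrq, hr2, hr3, hr5, hr7⟩ := S2373.exists_prime hq2
  have hr12 : r ∣ q ^ 4 - q ^ 2 + 1 := by
    have hN : ((q ^ 4 - q ^ 2 + 1 : ℕ) : ℤ) = 1 - (q : ℤ) ^ 2 + (q : ℤ) ^ 4 := by
      push_cast [Nat.cast_sub h0]; ring
    have h1 := hrq
    rw [← hN] at h1
    exact Int.natCast_dvd_natCast.1 h1
  have hrW : ¬ r ∣ Nat.card CoxeterMatrix.E₆.Group := by
    rw [hW, show (51840 : ℕ) = 2 ^ 7 * 3 ^ 4 * 5 ^ 1 * 7 ^ 0 by norm_num]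
    exact not_dvd_of hr hr2 hr3 hr5 hr7
  have hG : ∀ s, ¬ (r : ℤ) ∣ Gq DataE6.B (q : ℤ) (DataE6.R s) := by
    intro s hs
    rcases DataE6.dvd_of_G hrq s hs with h1 | h1
    · exact hr.one_lt.ne' (Nat.dvd_one.1 (by exact_mod_cast h1))
    · exact hr2 ((Nat.prime_dvd_prime_iff_eq hr Nat.prime_two).1 (by exact_mod_cast h1))
  obtain ⟨T, h1, h3, h4, h5, h6⟩ := UntwT.untw_T hp CoxeterMatrix.E₆.toCoxeterSystem (by norm_num) hF
    TorusChar.invC_E6 (by norm_num) DataE6.hA DataE6.chainOK DataE6.cycOK DataE6.rootOK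
    (N := (q ^ 4 - q ^ 2 + 1) * (q ^ 2 + q + 1))
    (by rw [DataE6.fN_eq, hN]) (UntwData.coprime_of_eq (a := 1 - (q : ℤ) ^ 2 + (q : ℤ) ^ 4 + (q : ℤ) ^ 5)
      (by rw [hN]; ring)) (d := 3) (Or.inl rfl)
  refine of_T h1 hr hr2 (dvd_of_dvd_mul hr (hr12.mul_right _)
    (fun h => hr3 ((Nat.prime_dvd_prime_iff_eq hr Nat.prime_three).1 h)) h4) (odd_of_dvd h3 ?_)
    (h5 r hr hrW hG) (h6 r hr (hr12.mul_right _) hrW hG) (j := 2) ?_
  · refine Nat.odd_mul.2 ⟨?_, ?_⟩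
    · refine (Nat.even_sub h0 |>.2 ?_).add_one
      simp only [Nat.even_pow, _root_.ne_eq, _root_.OfNat.ofNat_ne_zero, _root_.not_false_eq_true, _root_.and_true]
    · have e : q ^ 2 + q = q * (q + 1) := by ring
      rw [e]
      exact (Nat.even_mul_succ_self q).add_one
  · have h7 : (r : ℤ) ∣ (((q ^ 3) ^ 2 + 1 : ℕ) : ℤ) := by
      push_cast
      have e : ((q : ℤ) ^ 3) ^ 2 + 1 = (1 - (q : ℤ) ^ 2 + (q : ℤ) ^ 4) * (q ^ 2 + 1) := by ring
      rw [e]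
      exact hrq.mul_right _
    exact Int.natCast_dvd_natCast.1 h7

/-- the value of `Φ₃₀` -/
theorem exists_N30 {q : ℕ} (hq2 : 2 ≤ q) : ∃ N : ℕ,
    (N : ℤ) = 1 + (q : ℤ) - (q : ℤ) ^ 3 - (q : ℤ) ^ 4 - (q : ℤ) ^ 5 + (q : ℤ) ^ 7 + (q : ℤ) ^ 8 ∧ N ≠ 1 := by
  have h0 : (0 : ℤ) < (q : ℤ) := by positivity
  have h1 : (2 : ℤ) ≤ q := by exact_mod_cast hq2
  have h3 : 1 + (q : ℤ) - (q : ℤ) ^ 3 - (q : ℤ) ^ 4 - (q : ℤ) ^ 5 + (q : ℤ) ^ 7 + (q : ℤ) ^ 8 =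
      1 + q + (q : ℤ) ^ 3 * ((q : ℤ) ^ 5 + (q : ℤ) ^ 4 - (q : ℤ) ^ 2 - q - 1) := by ring
  have h4 : (0 : ℤ) ≤ (q : ℤ) ^ 5 + (q : ℤ) ^ 4 - (q : ℤ) ^ 2 - q - 1 := by
    have : (q : ℤ) ^ 5 + (q : ℤ) ^ 4 - (q : ℤ) ^ 2 - q - 1 = (q : ℤ) ^ 2 * ((q : ℤ) ^ 2 - 1) + (q ^ 5 - q - 1) := by ring
    nlinarith only [hq2, pow_pos h0 2, pow_pos h0 3]
  have h5 : (1 : ℤ) < 1 + (q : ℤ) - (q : ℤ) ^ 3 - (q : ℤ) ^ 4 - (q : ℤ) ^ 5 + (q : ℤ) ^ 7 + (q : ℤ) ^ 8 := by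
    linarith only [hq2, pow_pos h0 3, mul_nonneg (pow_pos h0 3).le h4]
  refine ⟨(1 + (q : ℤ) - (q : ℤ) ^ 3 - (q : ℤ) ^ 4 - (q : ℤ) ^ 5 + (q : ℤ) ^ 7 + (q : ℤ) ^ 8).toNat, ?_, ?_⟩
  · exact Int.toNat_of_nonneg (by linarith)
  · omega

/-- `E₈(q)` : the torus of order `Φ₃₀(q)`. -/
theorem realOdd_E8 : RealOdd ↥(Cfsg.Lie.chevE8.group F) := by
  obtain ⟨q, hF⟩ : ∃ q, Fintype.card F = q := ⟨_, rfl⟩
  have hq2 : 2 ≤ q := by rw [← hF]; exact Fintype.one_lt_card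
  have hp : IsType Cfsg.Lie.chevE8 8 CoxeterMatrix.E₈ := by simp
  have hW : Nat.card CoxeterMatrix.E₈.Group = 696729600 :=
    Cfsg.Agent.S1093.result (⟨8, CoxeterMatrix.E₈⟩, 696729600) (by simp)
  have : Finite CoxeterMatrix.E₈.Group := Nat.finite_of_card_ne_zero (by rw [hW]; norm_num)
  obtain ⟨N, hN, hN1⟩ := exists_N30 hq2
  obtain ⟨r, hr, hrN⟩ := Nat.exists_prime_and_dvd hN1
  have hz : ∀ n : ℕ, n ∣ N → (1 + (q : ZMod n) - (q : ZMod n) ^ 3 - (q : ZMod n) ^ 4 - (q : ZMod n) ^ 5 +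
      (q : ZMod n) ^ 7 + (q : ZMod n) ^ 8 = 0) := by
    intro n h
    have h1 := Int.natCast_dvd_natCast.2 h
    rw [hN] at h1
    have := (ZMod.intCast_zmod_eq_zero_iff_dvd _ n).2 h1
    push_cast at this
    exact this
  have hrq : (r : ℤ) ∣ 1 + (q : ℤ) - (q : ℤ) ^ 3 - (q : ℤ) ^ 4 - (q : ℤ) ^ 5 + (q : ℤ) ^ 7 + (q : ℤ) ^ 8 := by
    rw [← hN]; exact Int.natCast_dvd_natCast.2 hrN
  have hr2 : r ≠ 2 := by
    rintro rfl
    have h3 := hz 2 hrN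
    generalize (q : ZMod 2) = x at h3; revert h3; revert x; decide
  have hr3 : r ≠ 3 := by
    rintro rfl
    have h3 := hz 3 hrN
    generalize (q : ZMod 3) = x at h3; revert h3; revert x; decide
  have hr5 : r ≠ 5 := by
    rintro rfl
    have h3 := hz 5 hrN
    generalize (q : ZMod 5) = x at h3; revert h3; revert x; decide
  have hr7 : r ≠ 7 := by
    rintro rfl
    have h3 := hz 7 hrN
    generalize (q : ZMod 7) = x at h3; revert h3; revert x; decide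
  have hrW : ¬ r ∣ Nat.card CoxeterMatrix.E₈.Group := by
    rw [hW, show (696729600 : ℕ) = 2 ^ 14 * 3 ^ 5 * 5 ^ 2 * 7 ^ 1 by norm_num]
    exact not_dvd_of hr hr2 hr3 hr5 hr7
  have hG : ∀ s, ¬ (r : ℤ) ∣ Gq DataE8.B (q : ℤ) (DataE8.R s) := by
    intro s hs
    have h1 := DataE8.dvd_of_G hrq s hs
    exact hr.one_lt.ne' (Nat.dvd_one.1 (by exact_mod_cast h1))
  obtain ⟨T, h1, h3, h4, h5, h6⟩ := UntwT.untw_T hp CoxeterMatrix.E₈.toCoxeterSystem (by norm_num) hF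
    TorusChar.invC_E8 one_ne_zero DataE8.hA DataE8.chainOK DataE8.cycOK DataE8.rootOK (N := N)
    (by rw [DataE8.fN_eq, hN]) (UntwData.coprime_of_eq
      (a := 1 - (q : ℤ) ^ 2 - (q : ℤ) ^ 3 - (q : ℤ) ^ 4 + (q : ℤ) ^ 6 + (q : ℤ) ^ 7) (by rw [hN]; ring)) (d := 1)
    (Or.inl rfl)
  refine of_T h1 hr hr2 (dvd_of_dvd_mul hr hrN (fun h => hr.one_lt.ne' (Nat.dvd_one.1 h)) h4) (odd_of_dvd h3 ?_)
    (h5 r hr hrW hG) (h6 r hr hrN hrW hG) (j := 15) ?_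
  · rw [← Nat.not_even_iff_odd, even_iff_two_dvd]
    intro h
    have h3 := hz 2 h
    generalize (q : ZMod 2) = x at h3; revert h3; revert x; decide
  · have h7 : (r : ℤ) ∣ (((q ^ 1) ^ 15 + 1 : ℕ) : ℤ) := by
      push_cast
      have e : ((q : ℤ) ^ 1) ^ 15 + 1 = (1 + (q : ℤ) - (q : ℤ) ^ 3 - (q : ℤ) ^ 4 - (q : ℤ) ^ 5 + (q : ℤ) ^ 7 +
        (q : ℤ) ^ 8) * ((q ^ 3 + 1) * (q ^ 4 - q ^ 3 + q ^ 2 - q + 1)) := by ring
      rw [e]
      exact hrq.mul_right _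
    exact Int.natCast_dvd_natCast.1 h7

end Cfsg.Agent.H129.RealT
end

-- part: H129/DataE7s
section
set_option linter.all false
open scoped Cfsg.Agent.FastGrp

/-!
# Data of the torus of order `q⁷ - 1` of `E₇(q)` (helper129)
-/

set_option autoImplicit false

namespace Cfsg.Agent.H129.DataE7s

open Cfsg.Agent.H129.TorusTw Cfsg.Agent.H129.WData Cfsg.Agent.ChevalleyStructure.CoxeterGeomTypes
open Cfsg.Lie Cfsg.Lie.ChevalleyDatum

/-- the Cartan matrix -/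
def Am : Mat 7 := ![![2, 0, -1, 0, 0, 0, 0],
    ![0, 2, 0, -1, 0, 0, 0],
    ![-1, 0, 2, -1, 0, 0, 0],
    ![0, -1, -1, 2, -1, 0, 0],
    ![0, 0, 0, -1, 2, -1, 0],
    ![0, 0, 0, 0, -1, 2, -1],
    ![0, 0, 0, 0, 0, -1, 2]]

/-- the partial products -/
def chain : List (Fin 7 × Mat 7) := [
    (0, ![![0, 0, 1, 0, 0, 0, 0],
      ![1, 1, 1, 1, 1, 1, 1],
      ![0, 0, 0, 1, 1, 1, 1],
      ![-1, 0, -1, -1, -1, -1, -1],
      ![1, 0, 1, 1, 0, 0, 0],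
      ![0, 0, 0, 0, 1, 0, 0],
      ![0, 0, 0, 0, 0, 1, 0]]),
    (6, ![![1, 0, 1, 0, 0, 0, 0],
      ![0, 1, 1, 1, 1, 1, 1],
      ![0, 0, 0, 1, 1, 1, 1],
      ![0, 0, -1, -1, -1, -1, -1],
      ![0, 0, 1, 1, 0, 0, 0],
      ![0, 0, 0, 0, 1, 0, 0],
      ![0, 0, 0, 0, 0, 1, 0]]),
    (5, ![![1, 0, 1, 0, 0, 0, 0],
      ![0, 1, 1, 1, 1, 1, 0],
      ![0, 0, 0, 1, 1, 1, 0],
      ![0, 0, -1, -1, -1, -1, 0],
      ![0, 0, 1, 1, 0, 0, 0],
      ![0, 0, 0, 0, 1, 0, 0],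
      ![0, 0, 0, 0, 0, 1, 1]]),
    (2, ![![1, 0, 1, 0, 0, 0, 0],
      ![0, 1, 1, 1, 1, 0, 0],
      ![0, 0, 0, 1, 1, 0, 0],
      ![0, 0, -1, -1, -1, 0, 0],
      ![0, 0, 1, 1, 0, 0, 0],
      ![0, 0, 0, 0, 1, 1, 0],
      ![0, 0, 0, 0, 0, 0, 1]]),
    (4, ![![1, 0, 0, 0, 0, 0, 0],
      ![0, 1, 0, 1, 1, 0, 0],
      ![0, 0, 1, 1, 1, 0, 0],
      ![0, 0, 0, -1, -1, 0, 0],
      ![0, 0, 0, 1, 0, 0, 0],
      ![0, 0, 0, 0, 1, 1, 0],
      ![0, 0, 0, 0, 0, 0, 1]]),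
    (3, ![![1, 0, 0, 0, 0, 0, 0],
      ![0, 1, 0, 1, 0, 0, 0],
      ![0, 0, 1, 1, 0, 0, 0],
      ![0, 0, 0, -1, 0, 0, 0],
      ![0, 0, 0, 1, 1, 0, 0],
      ![0, 0, 0, 0, 0, 1, 0],
      ![0, 0, 0, 0, 0, 0, 1]])]

/-- the matrix of `θ` -/
def Th : Mat 7 := ![![0, 0, 1, 0, 0, 0, 0],
    ![1, 1, 1, 1, 1, 1, 1],
    ![0, 0, 0, 1, 1, 1, 1],
    ![-1, 0, -1, -1, -1, -1, -1],
    ![1, 0, 1, 1, 0, 0, 0],
    ![0, 0, 0, 0, 1, 0, 0],
    ![0, 0, 0, 0, 0, 1, 0]]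

/-- the basis -/
def V : Mat 7 := ![![0, -1, 0, 0, 0, 0, 0],
    ![-1, -1, -1, -1, -1, -1, -1],
    ![-1, -1, -2, -2, -2, -2, -1],
    ![-1, -1, -2, -3, -3, -2, -1],
    ![-1, -1, -2, -3, -2, -1, 0],
    ![0, -1, -1, -2, -1, 0, 0],
    ![0, -1, 0, -1, 0, 0, 0]]

/-- the coordinates -/
def B : Mat 7 := ![![0, -1, 1, 0, -1, 1, 0],
    ![-1, 0, 0, 0, 0, 0, 0],
    ![0, 0, -1, 1, 0, -1, 1],
    ![1, 0, 0, 0, 0, 0, -1],
    ![-1, 0, 1, -1, 0, 0, 1],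
    ![0, 1, -1, 0, 0, 1, -1],
    ![1, -1, 0, 0, 1, -1, 0]]

/-- the polynomial -/
def c : Fin 7 → ℤ := ![-1, 0, 0, 0, 0, 0, 0]

/-- the representatives of the orbits of `θ` on the roots -/
def R : Fin 18 → Fin 7 → ℤ := ![![-2, -2, -3, -4, -3, -2, -1],
    ![-1, -1, -2, -3, -3, -2, -1],
    ![-1, -1, -2, -3, -2, -2, -1],
    ![-1, -1, -2, -3, -2, -1, -1],
    ![-1, -1, -2, -2, -1, -1, -1],
    ![-1, -1, -2, -2, -1, -1, 0],
    ![-1, 0, -1, -1, -1, -1, -1],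
    ![-1, 0, -1, -1, -1, -1, 0],
    ![-1, 0, -1, -1, -1, 0, 0],
    ![-1, 0, -1, -1, 0, 0, 0],
    ![-1, 0, -1, 0, 0, 0, 0],
    ![-1, 0, 0, 0, 0, 0, 0],
    ![0, 1, 0, 0, 0, 0, 0],
    ![0, 1, 0, 1, 1, 0, 0],
    ![0, 1, 0, 1, 1, 1, 0],
    ![0, 1, 0, 1, 1, 1, 1],
    ![0, 1, 1, 1, 1, 0, 0],
    ![1, 2, 2, 3, 2, 1, 0]]

/-- the values of the functional on the representatives -/
def G : Fin 18 → Fin 7 → ℤ := ![![0, 1, 0, 0, 1, 0, 0],
    ![0, 0, 0, 1, 0, 0, 0],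
    ![-1, 0, 1, 0, 0, 0, 1],
    ![-1, 1, 0, 0, 0, 1, 0],
    ![-1, 1, 1, -1, 0, 1, 0],
    ![0, 0, 1, -1, 1, 0, 0],
    ![-1, 1, 0, 0, 0, 0, 0],
    ![0, 0, 0, 0, 1, -1, 0],
    ![0, 1, -1, 0, 1, 0, -1],
    ![-1, 1, 0, -1, 1, 0, 0],
    ![0, 1, 0, -1, 1, 0, -1],
    ![0, 1, -1, 0, 1, -1, 0],
    ![-1, 0, 0, 0, 0, 0, 0],
    ![-1, 0, 1, -1, 0, 0, 0],
    ![-1, 1, 0, -1, 0, 1, -1],
    ![0, 0, 0, -1, 1, 0, -1],
    ![-1, 0, 0, 0, 0, -1, 1],
    ![-1, 0, 0, 0, -1, 0, 0]]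

/-- predecessor -/
def prv (r : ℕ) : ℕ := Nat.mod (Nat.shiftRight 0x7a7d7c797877007271707666656c646b6a56555c545b5a4e52515038444342331e6f6e756d74736369006700000057005e6261605d494d4c4b374140363f35483e473d3c4632313034201d1c1b1f2e2625242a1615141a0a0910080f0e0000000000002d2c2b2f2322292128271300001118170700000002060504010000 (8 * r)) 256

/-- depth -/
def dep (r : ℕ) : ℕ := Nat.mod (Nat.shiftRight 0x40506030201000303050402020402040503030401060501010101030405060201030504060605020200060000000600030405060203040506030405030403040505060606020202020101010101040302050403030504020104010101000000000000030605050202040206050300000606060100000003040506020100 (8 * r)) 256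

theorem hA : ∀ i j, Am i j = cartanOf chevE7 7 i j :=
  H129.RootF.cE7

theorem chainOK : ChainOK Am chain :=
  H129.ChainF.ok H129.ChainF.i7 H129.ChainF.m7 (H129.ChainF.c7 <| H129.ChainF.c7 <| H129.ChainF.c7 <| H129.ChainF.c7 <| H129.ChainF.c7 <| H129.ChainF.c7 <| H129.ChainF.nil) (by decide +kernel)

theorem cycOK : CycOK 7 Th V B c :=
  H129.RootF.cyc H129.ChainF.i7 H129.RootF.t7 H129.ChainF.m7 H129.RootF.t7 H129.ChainF.m7 H129.RootF.t7 H129.RootF.r7 (by decide +kernel)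

theorem rootOK : RootOK chevE7 7 Th R prv dep :=
  H129.RootF.ok H129.RootF.t7 (H129.RootF.mc H129.RootF.r7 <| H129.RootF.mc H129.RootF.r7 <| H129.RootF.mc H129.RootF.r7 <| H129.RootF.mc H129.RootF.r7 <| H129.RootF.mc H129.RootF.r7 <| H129.RootF.mc H129.RootF.r7 <| H129.RootF.mc H129.RootF.r7 <| H129.RootF.mc H129.RootF.r7 <| H129.RootF.mc H129.RootF.r7 <| H129.RootF.mc H129.RootF.r7 <| H129.RootF.mc H129.RootF.r7 <| H129.RootF.mc H129.RootF.r7 <| H129.RootF.mc H129.RootF.r7 <| H129.RootF.mc H129.RootF.r7 <| H129.RootF.mc H129.RootF.r7 <| H129.RootF.mc H129.RootF.r7 <| H129.RootF.mc H129.RootF.r7 <| H129.RootF.mc H129.RootF.r7 <| H129.RootF.m0) (by decide +kernel)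

theorem coefOK : ∀ s i, ∑ j, R s j * B j i = G s i := by decide +kernel

theorem fN_eq (x : ℤ) : fN c x = -1 + x ^ 7 := by
  unfold fN c
  simp [Fin.sum_univ_succ]
  ring

theorem G_0 (x : ℤ) : Gq B x (R 0) = x + x ^ 4 := by
  rw [Gq_coef B x (R 0) (G 0) (coefOK 0)]
  unfold G
  simp [Fin.sum_univ_succ]
  try ring

theorem bez_0 (x : ℤ) : (1) * (1 + x + x ^ 2 + x ^ 3 + x ^ 4 + x ^ 5 + x ^ 6) + (-1 - x - x ^ 2) * (x + x ^ 4) = 1 := by
  ring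

theorem G_1 (x : ℤ) : Gq B x (R 1) = x ^ 3 := by
  rw [Gq_coef B x (R 1) (G 1) (coefOK 1)]
  unfold G
  simp [Fin.sum_univ_succ]
  try ring

theorem bez_1 (x : ℤ) : (1 - x) * (1 + x + x ^ 2 + x ^ 3 + x ^ 4 + x ^ 5 + x ^ 6) + (x ^ 4) * (x ^ 3) = 1 := by
  ring

theorem G_2 (x : ℤ) : Gq B x (R 2) = -1 + x ^ 2 + x ^ 6 := by
  rw [Gq_coef B x (R 2) (G 2) (coefOK 2)]
  unfold G
  simp [Fin.sum_univ_succ]
  try ring

theorem bez_2 (x : ℤ) : (1 - x + x ^ 2 - x ^ 5) * (1 + x + x ^ 2 + x ^ 3 + x ^ 4 + x ^ 5 + x ^ 6) + (-1 + x ^ 3 + x ^ 4 + x ^ 5) * (-1 + x ^ 2 + x ^ 6) = 2 := by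
  ring

theorem G_3 (x : ℤ) : Gq B x (R 3) = -1 + x + x ^ 5 := by
  rw [Gq_coef B x (R 3) (G 3) (coefOK 3)]
  unfold G
  simp [Fin.sum_univ_succ]
  try ring

theorem bez_3 (x : ℤ) : (1 - x ^ 3) * (1 + x + x ^ 2 + x ^ 3 + x ^ 4 + x ^ 5 + x ^ 6) + (-1 + x ^ 2 + x ^ 3 + x ^ 4) * (-1 + x + x ^ 5) = 2 := by
  ring

theorem G_4 (x : ℤ) : Gq B x (R 4) = -1 + x + x ^ 2 - x ^ 3 + x ^ 5 := by
  rw [Gq_coef B x (R 4) (G 4) (coefOK 4)]
  unfold G
  simp [Fin.sum_univ_succ]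
  try ring

theorem bez_4 (x : ℤ) : (x ^ 3) * (1 + x + x ^ 2 + x ^ 3 + x ^ 4 + x ^ 5 + x ^ 6) + (-1 - x - 2 * x ^ 2 - x ^ 3 - x ^ 4) * (-1 + x + x ^ 2 - x ^ 3 + x ^ 5) = 1 := by
  ring

theorem G_5 (x : ℤ) : Gq B x (R 5) = x ^ 2 - x ^ 3 + x ^ 4 := by
  rw [Gq_coef B x (R 5) (G 5) (coefOK 5)]
  unfold G
  simp [Fin.sum_univ_succ]
  try ring

theorem bez_5 (x : ℤ) : (1 - x + x ^ 2 - x ^ 3) * (1 + x + x ^ 2 + x ^ 3 + x ^ 4 + x ^ 5 + x ^ 6) + (-1 - x + x ^ 3 + x ^ 4 + x ^ 5) * (x ^ 2 - x ^ 3 + x ^ 4) = 1 := by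
  ring

theorem G_6 (x : ℤ) : Gq B x (R 6) = -1 + x := by
  rw [Gq_coef B x (R 6) (G 6) (coefOK 6)]
  unfold G
  simp [Fin.sum_univ_succ]
  try ring

theorem bez_6 (x : ℤ) : (1) * (1 + x + x ^ 2 + x ^ 3 + x ^ 4 + x ^ 5 + x ^ 6) + (-6 - 5 * x - 4 * x ^ 2 - 3 * x ^ 3 - 2 * x ^ 4 - x ^ 5) * (-1 + x) = 7 := by
  ring

theorem G_7 (x : ℤ) : Gq B x (R 7) = x ^ 4 - x ^ 5 := by
  rw [Gq_coef B x (R 7) (G 7) (coefOK 7)]
  unfold G
  simp [Fin.sum_univ_succ]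
  try ring

theorem bez_7 (x : ℤ) : (7 - 7 * x + x ^ 4) * (1 + x + x ^ 2 + x ^ 3 + x ^ 4 + x ^ 5 + x ^ 6) + (-1 - 2 * x - 3 * x ^ 2 + 3 * x ^ 3 + 2 * x ^ 4 + x ^ 5) * (x ^ 4 - x ^ 5) = 7 := by
  ring

theorem G_8 (x : ℤ) : Gq B x (R 8) = x - x ^ 2 + x ^ 4 - x ^ 6 := by
  rw [Gq_coef B x (R 8) (G 8) (coefOK 8)]
  unfold G
  simp [Fin.sum_univ_succ]
  try ring

theorem bez_8 (x : ℤ) : (7 - 2 * x - 7 * x ^ 2 + 5 * x ^ 4 - 2 * x ^ 5) * (1 + x + x ^ 2 + x ^ 3 + x ^ 4 + x ^ 5 + x ^ 6) + (-5 - 3 * x - x ^ 2 + x ^ 3 + 3 * x ^ 4 - 2 * x ^ 5) * (x - x ^ 2 + x ^ 4 - x ^ 6) = 7 := by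
  ring

theorem G_9 (x : ℤ) : Gq B x (R 9) = -1 + x - x ^ 3 + x ^ 4 := by
  rw [Gq_coef B x (R 9) (G 9) (coefOK 9)]
  unfold G
  simp [Fin.sum_univ_succ]
  try ring

theorem bez_9 (x : ℤ) : (4 - 3 * x ^ 3) * (1 + x + x ^ 2 + x ^ 3 + x ^ 4 + x ^ 5 + x ^ 6) + (-3 + x + 5 * x ^ 2 + 9 * x ^ 3 + 6 * x ^ 4 + 3 * x ^ 5) * (-1 + x - x ^ 3 + x ^ 4) = 7 := by
  ring

theorem G_10 (x : ℤ) : Gq B x (R 10) = x - x ^ 3 + x ^ 4 - x ^ 6 := by
  rw [Gq_coef B x (R 10) (G 10) (coefOK 10)]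
  unfold G
  simp [Fin.sum_univ_succ]
  try ring

theorem bez_10 (x : ℤ) : (7 - 5 * x + 2 * x ^ 2 - 5 * x ^ 4 + 2 * x ^ 5) * (1 + x + x ^ 2 + x ^ 3 + x ^ 4 + x ^ 5 + x ^ 6) + (-2 - 4 * x - 6 * x ^ 2 - x ^ 3 - 3 * x ^ 4 + 2 * x ^ 5) * (x - x ^ 3 + x ^ 4 - x ^ 6) = 7 := by
  ring

theorem G_11 (x : ℤ) : Gq B x (R 11) = x - x ^ 2 + x ^ 4 - x ^ 5 := by
  rw [Gq_coef B x (R 11) (G 11) (coefOK 11)]
  unfold G
  simp [Fin.sum_univ_succ]
  try ring

theorem bez_11 (x : ℤ) : (7 - 3 * x - 3 * x ^ 4) * (1 + x + x ^ 2 + x ^ 3 + x ^ 4 + x ^ 5 + x ^ 6) + (-4 - 8 * x - 12 * x ^ 2 - 9 * x ^ 3 - 6 * x ^ 4 - 3 * x ^ 5) * (x - x ^ 2 + x ^ 4 - x ^ 5) = 7 := by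
  ring

theorem G_12 (x : ℤ) : Gq B x (R 12) = -1 := by
  rw [Gq_coef B x (R 12) (G 12) (coefOK 12)]
  unfold G
  simp [Fin.sum_univ_succ]
  try ring

theorem bez_12 (x : ℤ) : (0) * (1 + x + x ^ 2 + x ^ 3 + x ^ 4 + x ^ 5 + x ^ 6) + (-1) * (-1) = 1 := by
  ring

theorem G_13 (x : ℤ) : Gq B x (R 13) = -1 + x ^ 2 - x ^ 3 := by
  rw [Gq_coef B x (R 13) (G 13) (coefOK 13)]
  unfold G
  simp [Fin.sum_univ_succ]
  try ring

theorem bez_13 (x : ℤ) : (1 - 2 * x + x ^ 2) * (1 + x + x ^ 2 + x ^ 3 + x ^ 4 + x ^ 5 + x ^ 6) + (-1 - x - x ^ 2 + x ^ 5) * (-1 + x ^ 2 - x ^ 3) = 2 := by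
  ring

theorem G_14 (x : ℤ) : Gq B x (R 14) = -1 + x - x ^ 3 + x ^ 5 - x ^ 6 := by
  rw [Gq_coef B x (R 14) (G 14) (coefOK 14)]
  unfold G
  simp [Fin.sum_univ_succ]
  try ring

theorem bez_14 (x : ℤ) : (x ^ 2 - 2 * x ^ 3 + x ^ 4) * (1 + x + x ^ 2 + x ^ 3 + x ^ 4 + x ^ 5 + x ^ 6) + (-1 - x + x ^ 4) * (-1 + x - x ^ 3 + x ^ 5 - x ^ 6) = 1 := by
  ring

theorem G_15 (x : ℤ) : Gq B x (R 15) = -x ^ 3 + x ^ 4 - x ^ 6 := by
  rw [Gq_coef B x (R 15) (G 15) (coefOK 15)]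
  unfold G
  simp [Fin.sum_univ_succ]
  try ring

theorem bez_15 (x : ℤ) : (2 - 2 * x + x ^ 5) * (1 + x + x ^ 2 + x ^ 3 + x ^ 4 + x ^ 5 + x ^ 6) + (x ^ 2 + 2 * x ^ 3 + x ^ 4 + x ^ 5) * (-x ^ 3 + x ^ 4 - x ^ 6) = 2 := by
  ring

theorem G_16 (x : ℤ) : Gq B x (R 16) = -1 - x ^ 5 + x ^ 6 := by
  rw [Gq_coef B x (R 16) (G 16) (coefOK 16)]
  unfold G
  simp [Fin.sum_univ_succ]
  try ring

theorem bez_16 (x : ℤ) : (-x + x ^ 3 + x ^ 4 - x ^ 5) * (1 + x + x ^ 2 + x ^ 3 + x ^ 4 + x ^ 5 + x ^ 6) + (-1 - x - x ^ 2 + x ^ 4 + x ^ 5) * (-1 - x ^ 5 + x ^ 6) = 1 := by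
  ring

theorem G_17 (x : ℤ) : Gq B x (R 17) = -1 - x ^ 4 := by
  rw [Gq_coef B x (R 17) (G 17) (coefOK 17)]
  unfold G
  simp [Fin.sum_univ_succ]
  try ring

theorem bez_17 (x : ℤ) : (-x) * (1 + x + x ^ 2 + x ^ 3 + x ^ 4 + x ^ 5 + x ^ 6) + (-1 - x - x ^ 2 - x ^ 3) * (-1 - x ^ 4) = 1 := by
  ring

/-- Common divisors of `f(x)` and the value of `Gq` on a representative. -/
theorem dvd_of_G {x r : ℤ} (h : r ∣ 1 + x + x ^ 2 + x ^ 3 + x ^ 4 + x ^ 5 + x ^ 6) (s : Fin 18) (hs : r ∣ Gq B x (R s)) :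
    r ∣ 1 ∨ r ∣ 2 ∨ r ∣ 7 := by
  have key : ∀ {a b g y : ℤ}, a * (1 + x + x ^ 2 + x ^ 3 + x ^ 4 + x ^ 5 + x ^ 6) + b * g = y → r ∣ g → r ∣ y := fun e hg => by
    rw [← e]
    exact dvd_add (h.mul_left _) (hg.mul_left _)
  fin_cases s
  · exact Or.inl (key (bez_0 x) (by rw [← G_0]; exact hs))
  · exact Or.inl (key (bez_1 x) (by rw [← G_1]; exact hs))
  · exact Or.inr (Or.inl (key (bez_2 x) (by rw [← G_2]; exact hs)))
  · exact Or.inr (Or.inl (key (bez_3 x) (by rw [← G_3]; exact hs)))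
  · exact Or.inl (key (bez_4 x) (by rw [← G_4]; exact hs))
  · exact Or.inl (key (bez_5 x) (by rw [← G_5]; exact hs))
  · exact Or.inr (Or.inr (key (bez_6 x) (by rw [← G_6]; exact hs)))
  · exact Or.inr (Or.inr (key (bez_7 x) (by rw [← G_7]; exact hs)))
  · exact Or.inr (Or.inr (key (bez_8 x) (by rw [← G_8]; exact hs)))
  · exact Or.inr (Or.inr (key (bez_9 x) (by rw [← G_9]; exact hs)))
  · exact Or.inr (Or.inr (key (bez_10 x) (by rw [← G_10]; exact hs)))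
  · exact Or.inr (Or.inr (key (bez_11 x) (by rw [← G_11]; exact hs)))
  · exact Or.inl (key (bez_12 x) (by rw [← G_12]; exact hs))
  · exact Or.inr (Or.inl (key (bez_13 x) (by rw [← G_13]; exact hs)))
  · exact Or.inl (key (bez_14 x) (by rw [← G_14]; exact hs))
  · exact Or.inr (Or.inl (key (bez_15 x) (by rw [← G_15]; exact hs)))
  · exact Or.inl (key (bez_16 x) (by rw [← G_16]; exact hs))
  · exact Or.inl (key (bez_17 x) (by rw [← G_17]; exact hs))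

end Cfsg.Agent.H129.DataE7s
end

-- part: H150/TorE7
section
set_option linter.all false
open scoped Cfsg.Agent.FastGrp

/-!
# Cyclic tori of `E₇(q)` of odd order (helper150)

`untw_Td` : the torus of `D.group F` has index `d` in the torus of the algebraic group.
-/

set_option autoImplicit false
set_option linter.unusedSectionVars false

namespace Cfsg.Agent.H150

open CoxeterSystem Cfsg Cfsg.Lie Cfsg.Lie.ChevalleyDatum
open Cfsg.Agent.ChevalleyStructure Cfsg.Agent.ChevalleyStructure.Elts Cfsg.Agent.ChevalleyStructure.CoxeterGeom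
  Cfsg.Agent.ChevalleyStructure.CoxeterGeomTypes Cfsg.Agent.ChevalleyStructure.NPerm
open Cfsg.Agent.Tits.Roots Cfsg.Agent.Tits.Core Cfsg.Agent.Nodes Cfsg.Agent.Nodes.Reps Cfsg.Agent.Nodes.BNOf
  Cfsg.Agent.Nodes.RGDChev Cfsg.Agent.Nodes.Bruhat Cfsg.Agent.Nodes.SubComb Cfsg.Agent.Nodes.Coroot
open Cfsg.Agent.KFacts.RgdField Cfsg.Agent.KFacts.RgdChevCoord Cfsg.Agent.BpExc.TorCent Cfsg.Agent.BpExc.TorChev
open Cfsg.Agent.GpExc.Field Cfsg.Agent.BpExc.Tow Cfsg.Agent.BpExc.TowChev Cfsg.Agent.BpExc.Fr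
  Cfsg.Agent.BpExc.LangFr Cfsg.Agent.LangThm Cfsg.Agent.BpExc Cfsg.Agent.H129 Cfsg.Agent.H129.TorusChar
  Cfsg.Agent.H129.TorusCent Cfsg.Agent.H129.StCover
  Cfsg.Agent.H129.TorusTw Cfsg.Agent.H129.TorusMain Cfsg.Agent.H129.TorusUntw Cfsg.Agent.H129.TorAct
  Cfsg.Agent.H129.WData Cfsg.Agent.H129.UntwTwo
open Cfsg.Agent.ChevalleyStructure.StTorus (eval_eq_one)

universe u

variable {D : ChevalleyDatum} {l : ℕ} {M : CoxeterMatrix (Fin l)} (hp : IsType D l M)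
  {W : Type*} [Group W] (cs : CoxeterSystem M W)

include hp cs in
/-- **The cyclic tori of the untwisted groups, non-trivial centre.** -/
theorem untw_Td [Finite W] (hl : 0 < l) {F : Type u} [Field F] [Fintype F] {q : ℕ} (hq : Fintype.card F = q)
    {d : ℕ} (hd : d.Prime) {B' : Fin l → Fin l → ℤ} (hB : InvC D l d B') (hdq : d ∣ q - 1)
    (hPhi : ∃ Φ : (Fin D.rank → (AlgebraicClosure F)ˣ) →* D.SteinbergGroup (AlgebraicClosure F), IsPhi Φ)
    {kv : Fin D.rank → ℤ} {i0 : Fin D.rank} (hk0 : kv i0 = 1)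
    (hkv : ∀ s < D.nroots, (d : ℤ) ∣ ∑ i : Fin D.rank, kv i * D.cartan i s)
    {Bc : Fin D.rank → Fin D.rank → ℤ}
    (hBc : ∀ i m : Fin D.rank, ∑ j : Fin D.rank, D.cartan i (D.simple j) * Bc j m = if i = m then (d : ℤ) else 0)
    {A : Mat l} (hA : ∀ i j, A i j = cartanOf D l i j) {L : List (Fin l × Mat l)} (hL : ChainOK A L)
    {V B : Mat l} {c : Fin l → ℤ} (hcyc : CycOK l (WData.hd L) V B c) {m : ℕ} {R : Fin m → Fin l → ℤ} {prv dep : ℕ → ℕ}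
    (hR : RootOK D l (WData.hd L) R prv dep) {N : ℕ} (hfN : fN c (q : ℤ) = N) (hqN : q.Coprime N) :
    ∃ T : Subgroup ↥(D.group F), IsCyclic ↥T ∧ Nat.card ↥T ∣ N ∧ N ∣ d * Nat.card ↥T ∧ Nat.card ↥T ≠ N ∧
      (∀ r : ℕ, r.Prime → ¬ r ∣ Nat.card W → (∀ s, ¬ (r : ℤ) ∣ Gq B (q : ℤ) (R s)) → ∀ y ∈ T, orderOf y = r →
        Subgroup.centralizer {y} ≤ T) := by
  have hlin := lin_refl hp cs hA hL
  have hc := cyc_of hlin hcyc
  obtain ⟨p, e, hpF, hpc, hpk, he, rfl, hk⟩ := exists_closure hq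
  obtain ⟨Φ, hΦ⟩ := hPhi
  have hpN : ¬ p ∣ N := fun h1 => by
    have h2 : p ∣ Nat.gcd (p ^ e) N := Nat.dvd_gcd (dvd_pow_self p he.ne') h1
    rw [hqN] at h2
    exact hpF.out.one_lt.ne' (Nat.dvd_one.1 h2)
  have hpd : ¬ p ∣ d := fun h1 => by
    have h2 : p ∣ p ^ e - 1 := h1.trans hdq
    have h3 : p ∣ p ^ e := dvd_pow_self p he.ne'
    have h4 : p ∣ p ^ e - (p ^ e - 1) := Nat.dvd_sub h3 h2
    have h5 : 0 < p ^ e := Nat.pow_pos hpF.out.pos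
    have h6 : p ^ e - (p ^ e - 1) = 1 := by omega
    rw [h6] at h4
    exact hpF.out.one_lt.ne' (Nat.dvd_one.1 h4)
  -- the centre
  have hdk : ((d : ℕ) : AlgebraicClosure F) ≠ 0 := by
    rw [Ne, CharP.cast_eq_zero_iff (AlgebraicClosure F) p]
    exact hpd
  have : NeZero ((d : ℕ) : AlgebraicClosure F) := ⟨hdk⟩
  have : NeZero d := ⟨hd.ne_zero⟩
  obtain ⟨ζ, hζ⟩ := HasEnoughRootsOfUnity.exists_primitiveRoot (AlgebraicClosure F) d
  have hζ0 : ζ ≠ 0 := hζ.ne_zero hd.ne_zero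
  set ω : (AlgebraicClosure F)ˣ := Units.mk0 ζ hζ0 with hω
  have hωd : ω ^ d = 1 := Units.ext (by rw [Units.val_pow_eq_pow_val]; exact hζ.pow_eq_one)
  have hc' : ∀ s < D.nroots, ∏ i : Fin D.rank, (ω ^ kv i) ^ D.cartan i s = 1 := by
    intro s hs
    obtain ⟨a, ha⟩ := hkv s hs
    rw [Finset.prod_congr rfl fun i _ => (zpow_mul ω (kv i) (D.cartan i s)).symm, prod_zpow_sum, ha, zpow_mul,
      zpow_natCast, hωd, one_zpow]
  have hc1 : (fun i => ω ^ kv i : Fin D.rank → (AlgebraicClosure F)ˣ) ≠ 1 := by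
    intro h1
    have h2 := congrFun h1 i0
    simp only [hk0, zpow_one, Pi.one_apply] at h2
    have h3 : ζ = 1 := congrArg Units.val h2
    rw [h3] at hζ
    exact hd.one_lt.ne' (hζ.eq_orderOf.trans orderOf_one)
  have hfix : ∀ b : Fin D.rank → (AlgebraicClosure F)ˣ, (∀ s < D.nroots, ∏ i : Fin D.rank, b i ^ D.cartan i s = 1) →
      ∀ i, b i ^ p ^ e = b i := by
    intro b hb i
    have h1 := eval_eq_one (fun i j : Fin D.rank => D.cartan i (D.simple j)) (fun j => Bc j i)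
      (fun m => if m = i then (d : ℤ) else 0) (fun m => hBc m i) b
      (fun j => hb (D.simple j) (simple_lt hp.inList j.2))
    rw [Finset.prod_eq_single i] at h1
    · rw [if_pos rfl, zpow_natCast] at h1
      obtain ⟨a, ha⟩ := hdq
      have h2 : p ^ e = d * a + 1 := by
        have : 0 < p ^ e := Nat.pow_pos hpF.out.pos
        omega
      rw [h2, pow_succ, pow_mul, h1, one_pow, one_mul]
    · intro j _ hj; rw [if_neg hj, zpow_zero]
    · intro hi; exact absurd (Finset.mem_univ _) hi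
  have hnsys := nsys_of_locFin hp cs hk p
  obtain ⟨T, h1, h2, h3, h4, -, h6⟩ := exists_T (k := AlgebraicClosure F) (hp := hp) (cs := cs) hl hk
    (hN := nsys_of_locFin hp cs hk p) he isFrob_phi (fr_phi hp cs) hB hd.ne_zero
    (w := cs.wordProd (L.map Prod.fst)) hc hfN hpN
    (e0 := emb hp.inList (algebraMap F (AlgebraicClosure F))) (emb_injective hp.inList _) (phi_emb hp _ hq)
    (d := d) (fun y hy => fix_pow_range hp cs _ hq hB hd.ne_zero hy)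
  have hgood : ∀ r : ℕ, r.Prime → r ∣ N → (∀ s, ¬ (r : ℤ) ∣ Gq B ((p ^ e : ℕ) : ℤ) (R s)) →
      ∀ a, IsRoot cs hp.isCartan a → ¬ (r : ℤ) ∣ Gq B ((p ^ e : ℕ) : ℤ) a := fun r hr hrN hG a ha =>
    not_dvd_G hp cs hlin hc hR hfN hr hrN hqN hG ha
  refine ⟨T, h1, h2, h3, h6 ?_, ?_⟩
  · intro n z t u X
    exact not_mem_range hp cs hΦ _ hq hc' hc1 hfix X.hn X.hz fun s hs hs' => X.hgen s hs hs'
  · intro r hr hrW hG y hy hyr
    have hrN : r ∣ N := by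
      rw [← hyr]
      refine dvd_trans ?_ h2
      have := orderOf_dvd_natCard (⟨y, hy⟩ : ↥T)
      rwa [Subgroup.orderOf_mk] at this
    exact h4 r hr hrW (hgood r hr hrN hG) y hy hyr

end Cfsg.Agent.H150
end

-- part: H501/Szep/TorStr
section
prune_inst 0x50002000018000040001c42a2000102004b0001100009040482980120038621a0a00b121110187400348040000000090000000000000a00411801a0100002020040a104440008808000000000000000000000000000000000041000000000000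
set_option linter.all false
open scoped Cfsg.Agent.FastGrp

/-!
# The roots of a torus element, elements of the cyclic tori (helper501, S2273)

* `coe_TT` : the matrix of a torus element;
* `count_conj` : the number of roots with value `1` on a torus element is invariant under conjugation;
* `val_iff` : the roots of an element of prime order of a twisted torus;
* `untw_str` : the cyclic tori of the untwisted groups with this information.
-/

set_option autoImplicit false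
set_option linter.unusedSectionVars false

namespace Cfsg.Agent.H501.TorStr

open CoxeterSystem Cfsg Cfsg.Lie Cfsg.Lie.ChevalleyDatum Polynomial
open Cfsg.Agent.ChevalleyStructure Cfsg.Agent.ChevalleyStructure.Elts Cfsg.Agent.ChevalleyStructure.CoxeterGeom
  Cfsg.Agent.ChevalleyStructure.CoxeterGeomTypes Cfsg.Agent.ChevalleyStructure.NPerm
open Cfsg.Agent.Tits.Roots Cfsg.Agent.Tits.Core Cfsg.Agent.Nodes Cfsg.Agent.Nodes.Reps Cfsg.Agent.Nodes.BNOf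
  Cfsg.Agent.Nodes.RGDChev Cfsg.Agent.Nodes.Bruhat Cfsg.Agent.Nodes.SubComb Cfsg.Agent.Nodes.Coroot
open Cfsg.Agent.KFacts.RgdField Cfsg.Agent.KFacts.RgdChevCoord Cfsg.Agent.BpExc.TorCent Cfsg.Agent.BpExc.TorChev
open Cfsg.Agent.GpExc.Field Cfsg.Agent.BpExc.Tow Cfsg.Agent.BpExc.TowChev Cfsg.Agent.BpExc.Fr
  Cfsg.Agent.BpExc.LangFr Cfsg.Agent.LangThm Cfsg.Agent.BpExc Cfsg.Agent.H129.TorusChar Cfsg.Agent.H129.TorusCent
  Cfsg.Agent.H129.TorusTw Cfsg.Agent.H129.TorusMain Cfsg.Agent.H129.TorusUntw Cfsg.Agent.H129.TorAct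
  Cfsg.Agent.H129.WData Cfsg.Agent.H129.UntwTwo Cfsg.Agent.H129

universe u

section Diag

variable {D : ChevalleyDatum} {l : ℕ} {M : CoxeterMatrix (Fin l)} (hp : IsType D l M) {k : Type u} [Field k]

/-- The matrix of a torus element. -/
theorem coe_TT {t : ↥(D.group k)} (ht : t ∈ TT D k) :
    ((t : GL D.Idx k) : Matrix D.Idx D.Idx k) = Matrix.diagonal (Sum.elim (fun _ => (1 : k))
      (fun s : Fin D.nroots => cX hp t (vec D l s))) := by
  have ht0 := ht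
  rw [Subgroup.mem_subgroupOf] at ht
  obtain ⟨c, hc, hd, hact⟩ := Tor.exists_c hp ht
  rw [hd]
  congr 1
  funext i
  rcases i with i | s
  · rfl
  · show ∏ i ∈ Finset.range D.rank, c i ^ D.cartan i s = cX hp t (vec D l s)
    rw [cX_vec hp ht0 s.2]
    symm
    apply ch_eq hp s.2 ht0
    apply Subtype.ext
    rw [Subgroup.coe_mul, Subgroup.coe_mul, Subgroup.coe_inv, coe_xc hp s.2, coe_xc hp s.2, hact s s.2, mul_one]

open Classical in
/-- the number of roots with value `1` -/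
noncomputable def cnt (hp : IsType D l M) (t : ↥(D.group k)) : ℕ :=
  (Finset.univ.filter fun s : Fin D.nroots => cX hp t (vec D l s) = 1).card

open Classical in
theorem count_roots {ι : Type*} [Fintype ι] (d : ι → k) :
    (∏ i, (X - C (d i))).roots.count 1 = (Finset.univ.filter fun i => d i = 1).card := by
  have h : (∏ i, (X - C (d i))) = ((Finset.univ.val.map d).map fun a => X - C a).prod := by
    rw [Multiset.map_map]
    rfl
  rw [h, Polynomial.roots_multiset_prod_X_sub_C, Multiset.count_map, Finset.card_def, Finset.filter_val]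
  congr 1
  refine Multiset.filter_congr fun x _ => ?_
  exact eq_comm

open Classical in
theorem count_diag {ι : Type*} [Fintype ι] [DecidableEq ι] {d d' : ι → k}
    (h : (Matrix.diagonal d).charpoly = (Matrix.diagonal d').charpoly) :
    (Finset.univ.filter fun i => d i = 1).card = (Finset.univ.filter fun i => d' i = 1).card := by
  rw [Matrix.charpoly_diagonal, Matrix.charpoly_diagonal] at h
  rw [← count_roots, ← count_roots, h]

open Classical in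
theorem count_sum (a b : ℕ) (f : Fin b → k) : (Finset.univ.filter fun i : Fin a ⊕ Fin b =>
    Sum.elim (fun _ => (1 : k)) f i = 1).card = a + (Finset.univ.filter fun s => f s = 1).card := by
  have e : (Finset.univ.filter fun i : Fin a ⊕ Fin b => Sum.elim (fun _ => (1 : k)) f i = 1) =
      (Finset.univ : Finset (Fin a)).disjSum (Finset.univ.filter fun s => f s = 1) := by
    ext i
    rcases i with i | i <;> simp only [_root_.Finset.mem_filter, _root_.Finset.mem_univ, _root_.Sum.elim_inl, _root_.and_self, _root_.Finset.inl_mem_disjSum, _root_.Sum.elim_inr, _root_.true_and, _root_.Finset.inr_mem_disjSum]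
  rw [e, Finset.card_disjSum, Finset.card_univ, Fintype.card_fin]

/-- **Invariance under conjugation.** -/
theorem count_conj {t t' g : ↥(D.group k)} (ht : t ∈ TT D k) (ht' : t' ∈ TT D k) (h : t' = g * t * g⁻¹) :
    cnt hp t' = cnt hp t := by
  have h0 : (t' : GL D.Idx k) = (g : GL D.Idx k) * (t : GL D.Idx k) * (g : GL D.Idx k)⁻¹ := by
    rw [h, Subgroup.coe_mul, Subgroup.coe_mul, Subgroup.coe_inv]
  have h1 : ((t' : GL D.Idx k) : Matrix D.Idx D.Idx k).charpoly = ((t : GL D.Idx k) : Matrix D.Idx D.Idx k).charpoly := by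
    rw [h0, Units.val_mul, Units.val_mul, Matrix.coe_units_inv, Matrix.charpoly_units_conj]
  rw [coe_TT hp ht, coe_TT hp ht'] at h1
  have h2 := count_diag h1
  have h5 := (count_sum D.rank D.nroots fun s => cX hp t' (vec D l s)).symm.trans
    (h2.trans (count_sum D.rank D.nroots fun s => cX hp t (vec D l s)))
  exact Nat.add_left_cancel h5

end Diag

section Tau

variable {D : ChevalleyDatum} {l : ℕ} {M : CoxeterMatrix (Fin l)} {hp : IsType D l M} {k : Type u} [Field k]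
  {W : Type*} [Group W] {cs : CoxeterSystem M W} {σ : MulAut ↥(D.group k)}
  {hN : NSys M (TT D k) (nc hp k)} {w : W} {B : Fin l → Fin l → ℤ} {Q : ℤ} {N : ℕ}
  {n z t : ↥(D.group k)} {u : k}

/-- The roots of an element of prime order. -/
theorem val_iff (X : TD hp cs hN w σ B Q N n z t u) (hN0 : N ≠ 0) {r : ℕ} (hr : r.Prime) {j : ℕ}
    (hj : orderOf (t ^ j) = r) (x : Fin l → ℤ) : cX hp (t ^ j) x = 1 ↔ (r : ℤ) ∣ Gq B Q x := by
  have hone : ∀ y : ℤ, u ^ y = 1 ↔ (N : ℤ) ∣ y := fun y => X.hu.zpow_eq_one_iff_dvd y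
  have hj0 : j ≠ 0 := by
    rintro rfl
    rw [pow_zero, orderOf_one] at hj
    exact hr.one_lt.ne hj
  have hgcd : N = r * Nat.gcd N j := by
    have h1 : orderOf (t ^ j) = N / Nat.gcd N j := by rw [orderOf_pow' t hj0, X.htN]
    rw [hj] at h1
    have h2 := Nat.div_mul_cancel (Nat.gcd_dvd_left N j)
    rw [← h1] at h2
    exact h2.symm
  rw [X.val_pow, hone]
  obtain ⟨m, hm⟩ := Nat.gcd_dvd_right N j
  have hd0 : Nat.gcd N j ≠ 0 := fun h0 => hN0 (by rw [hgcd, h0, mul_zero])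
  have hco : Nat.Coprime r m := by
    have h3 : Nat.gcd N j = Nat.gcd (r * Nat.gcd N j) (Nat.gcd N j * m) := by
      rw [← hgcd, ← hm]
    rw [mul_comm r, Nat.gcd_mul_left] at h3
    exact Nat.eq_of_mul_eq_mul_left (Nat.pos_of_ne_zero hd0) (h3.symm.trans (mul_one _).symm)
  have e1 : (N : ℤ) = (Nat.gcd N j : ℤ) * r := by
    rw [mul_comm]; exact_mod_cast hgcd
  have e2 : (j : ℤ) * Gq B Q x = (Nat.gcd N j : ℤ) * (m * Gq B Q x) := by
    rw [← mul_assoc]; congr 1; exact_mod_cast hm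
  rw [e1, e2, mul_dvd_mul_iff_left (Nat.cast_ne_zero.2 hd0)]
  constructor
  · intro h4
    exact (Nat.isCoprime_iff_coprime.2 hco).dvd_of_dvd_mul_left h4
  · intro h4
    exact h4.mul_left _

end Tau

section Untw

variable {D : ChevalleyDatum} {l : ℕ} {M : CoxeterMatrix (Fin l)} (hp : IsType D l M)
  {W : Type*} [Group W] (cs : CoxeterSystem M W)

/-- `y` is conjugate over the algebraic closure to a torus element having exactly `m` roots. -/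
def HasCnt {F : Type u} [Field F] (y : ↥(D.group F)) (m : ℕ) : Prop :=
  ∃ g t : ↥(D.group (AlgebraicClosure F)), t ∈ TT D (AlgebraicClosure F) ∧
    emb hp.inList (algebraMap F (AlgebraicClosure F)) y = g * t * g⁻¹ ∧ cnt hp t = m

theorem HasCnt.unique {F : Type u} [Field F] {y : ↥(D.group F)} {m m' : ℕ} (h : HasCnt hp y m)
    (h' : HasCnt hp y m') : m = m' := by
  obtain ⟨g, t, ht, e, rfl⟩ := h
  obtain ⟨g', t', ht', e', rfl⟩ := h'
  refine count_conj hp ht' ht (g := g⁻¹ * g') ?_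
  have h1 := e.symm.trans e'
  calc t = g⁻¹ * (g * t * g⁻¹) * g := by group
    _ = g⁻¹ * (g' * t' * g'⁻¹) * g := by rw [h1]
    _ = _ := by group

theorem HasCnt.conj {F : Type u} [Field F] {y : ↥(D.group F)} {m : ℕ} (x : ↥(D.group F))
    (h : HasCnt hp (x * y * x⁻¹) m) : HasCnt hp y m := by
  obtain ⟨g, t, ht, e, rfl⟩ := h
  refine ⟨(emb hp.inList (algebraMap F (AlgebraicClosure F)) x)⁻¹ * g, t, ht, ?_, rfl⟩
  rw [map_mul, map_mul, map_inv] at e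
  have e2 : ∀ a b : ↥(D.group (AlgebraicClosure F)), b = a⁻¹ * (a * b * a⁻¹) * a := by intro a b; group
  rw [e2 (emb hp.inList (algebraMap F (AlgebraicClosure F)) x)
    (emb hp.inList (algebraMap F (AlgebraicClosure F)) y), e]
  group

include hp cs in
/-- **The cyclic tori of the untwisted groups with the roots of their elements.** -/
theorem untw_str [Finite W] (hl : 0 < l) {F : Type u} [Field F] [Fintype F] {q : ℕ} (hq : Fintype.card F = q)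
    {d' : ℕ} {B' : Fin l → Fin l → ℤ} (hB : InvC D l d' B') (hd' : d' ≠ 0)
    {A : Mat l} (hA : ∀ i j, A i j = cartanOf D l i j) {L : List (Fin l × Mat l)} (hL : ChainOK A L)
    {V B : Mat l} {c : Fin l → ℤ} (hcyc : CycOK l (hd L) V B c) {m : ℕ} {R : Fin m → Fin l → ℤ} {prv dep : ℕ → ℕ}
    (hR : RootOK D l (hd L) R prv dep) {N : ℕ} (hfN : fN c (q : ℤ) = N) (hqN : q.Coprime N) :
    ∃ T : Subgroup ↥(D.group F), IsCyclic ↥T ∧ Nat.card ↥T ∣ N ∧ N ∣ d' * Nat.card ↥T ∧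
      (∀ r : ℕ, r.Prime → ¬ r ∣ Nat.card W → (∀ s, ¬ (r : ℤ) ∣ Gq B (q : ℤ) (R s)) → ∀ y ∈ T, orderOf y = r →
        Subgroup.centralizer {y} ≤ T) ∧
      (∀ r : ℕ, r.Prime → ∀ y ∈ T, orderOf y = r →
        HasCnt hp y (Finset.univ.filter fun s : Fin D.nroots => (r : ℤ) ∣ Gq B (q : ℤ) (vec D l s)).card) := by
  classical
  have hlin := lin_refl hp cs hA hL
  have hc := cyc_of hlin hcyc
  obtain ⟨p, e, hpF, hpc, hpk, he, rfl, hk⟩ := _root_.Cfsg.Agent.H129.TorusUntw.exists_closure hq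
  have hpN : ¬ p ∣ N := fun h1 => by
    have h2 : p ∣ Nat.gcd (p ^ e) N := Nat.dvd_gcd (dvd_pow_self p he.ne') h1
    rw [hqN] at h2
    exact hpF.out.one_lt.ne' (Nat.dvd_one.1 h2)
  have hN0 : N ≠ 0 := fun h0 => hpN (by rw [h0]; exact dvd_zero p)
  set f := algebraMap F (AlgebraicClosure F) with hf
  have he0 := emb_injective hp.inList f
  obtain ⟨n, z, t, u, X⟩ := TD.exists_of (hp := hp) (cs := cs) (k := AlgebraicClosure F)
    (hN := nsys_of_locFin hp cs hk p) (w := cs.wordProd (L.map Prod.fst)) hl hk he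
    isFrob_phi (fr_phi hp cs) hB hd' hc hfN hpN
  have hord : orderOf (z * t * z⁻¹) = N := by
    have h3 : z * t * z⁻¹ = MulAut.conj z t := rfl
    rw [h3, ← X.htN]
    exact orderOf_injective (MulAut.conj z).toMonoidHom (MulAut.conj z).injective t
  have hσz : phi D (AlgebraicClosure F) p e z = z * n := by rw [X.hz]; group
  have hσa : phi D (AlgebraicClosure F) p e (z * t * z⁻¹) = z * t * z⁻¹ := by
    rw [map_mul, map_mul, map_inv, hσz]
    calc z * n * phi D (AlgebraicClosure F) p e t * (z * n)⁻¹ =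
        z * (n * phi D (AlgebraicClosure F) p e t * n⁻¹) * z⁻¹ := by group
      _ = z * t * z⁻¹ := by rw [X.hτ]
  have hgood : ∀ r : ℕ, r.Prime → r ∣ N → (∀ s, ¬ (r : ℤ) ∣ Gq B ((p ^ e : ℕ) : ℤ) (R s)) →
      ∀ a, _root_.Cfsg.Agent.Tits.Roots.IsRoot cs hp.isCartan a → ¬ (r : ℤ) ∣ Gq B ((p ^ e : ℕ) : ℤ) a := fun r hr hrN hG a ha =>
    not_dvd_G hp cs hlin hc hR hfN hr hrN hqN hG ha
  have h2 := card_T0_dvd (a := z * t * z⁻¹) he0
  rw [hord] at h2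
  have hdiv : ∀ y ∈ T0 (emb hp.inList f) (z * t * z⁻¹), orderOf y ∣ N := by
    intro y hy
    refine dvd_trans ?_ h2
    have := orderOf_dvd_natCard (⟨y, hy⟩ : ↥(T0 (emb hp.inList f) (z * t * z⁻¹)))
    rwa [Subgroup.orderOf_mk] at this
  refine ⟨T0 (emb hp.inList f) (z * t * z⁻¹), isCyclic_T0 he0, h2, ?_, ?_, ?_⟩
  · have h1 := dvd_card_T0 he0 (fix_pow_range hp cs f hq hB hd' hσa)
    rwa [hord] at h1
  · intro r hr hrW hG y hy hyr
    exact X.centralizer_le hk p hN0 he0 (phi_emb hp f hq) hr hrW (hgood r hr (hyr ▸ hdiv y hy) hG) hy hyr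
  · intro r hr y hy hyr
    have hfo : IsOfFinOrder (z * t * z⁻¹) := by
      rw [← orderOf_pos_iff, hord]
      exact Nat.pos_of_ne_zero hN0
    obtain ⟨j, hj⟩ := (hfo.mem_powers_iff_mem_zpowers.2 hy)
    have hj' : (z * t * z⁻¹) ^ j = emb hp.inList f y := hj
    have e1 : emb hp.inList f y = z * t ^ j * z⁻¹ := by rw [← hj', conj_pow]
    have hoj : orderOf (t ^ j) = r := by
      have h2 : orderOf (z * t ^ j * z⁻¹) = orderOf (t ^ j) := by
        have h3 : z * t ^ j * z⁻¹ = MulAut.conj z (t ^ j) := rfl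
        rw [h3]
        exact orderOf_injective (MulAut.conj z).toMonoidHom (MulAut.conj z).injective (t ^ j)
      rw [← h2, ← e1, orderOf_injective _ he0 y, hyr]
    refine ⟨z, t ^ j, pow_mem X.ht j, e1, ?_⟩
    unfold cnt
    congr 1
    ext s
    rw [Finset.mem_filter, Finset.mem_filter, val_iff X hN0 hr hoj]

end Untw

end Cfsg.Agent.H501.TorStr
end
end
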