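import Cfsg.Agent.H129.StabGen
import Cfsg.Agent.H129.TorusUntw
import Cfsg.Agent.BpExc.EmbInst
import Cfsg.Agent.ChevalleyStructure.E6H1
import Cfsg.Agent.ChevalleyStructure.TwE6Card
import Cfsg.Agent.S1102
import Cfsg.Agent.FastGrp
import Cfsg.Agent.Prune
set_option linter.all false

section
prune_inst 0x7f00000000000000000000000000000000000000000000000000000000000000000000000000000000000000000000000000000000000000000000000000000000000000000000000000000000000000003fffffffffffffffffffffffffffbeffbdffffffff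

-- part: H129/TwE6Fr
section
set_option linter.all false
open scoped Cfsg.Agent.FastGrp

/-!
# The twisted Frobenius automorphism of `E₆` over an algebraically closed field (helper129)

* `gam k : MulAut (chevE6.group k)` : the graph automorphism; `tau k p e = gam k * phi chevE6 k p e`;
* `isFrob_tau`, `fr_tau` : a frame automorphism with lattice automorphism `flip`;
* `tau_split` : a fixed point of `tau` is `embT x * t`, `x ∈ ²E₆(q)`, `t` a fixed torus element;
* `torus_pow`, `tau_pow` : the `gcd(3, q + 1)`-th powers of the fixed points lie in `²E₆(q)`.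
-/

set_option autoImplicit false
set_option linter.unusedSectionVars false

namespace Cfsg.Agent.H129.TwE6Fr

open CoxeterSystem Cfsg Cfsg.Lie Cfsg.Lie.ChevalleyDatum
open Cfsg.Agent.ChevalleyStructure Cfsg.Agent.ChevalleyStructure.Elts Cfsg.Agent.ChevalleyStructure.CoxeterGeom
  Cfsg.Agent.ChevalleyStructure.CoxeterGeomTypes Cfsg.Agent.ChevalleyStructure.NPerm
open Cfsg.Agent.Tits.Roots Cfsg.Agent.Tits.Core Cfsg.Agent.Nodes Cfsg.Agent.Nodes.Reps Cfsg.Agent.Nodes.BNOf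
  Cfsg.Agent.Nodes.RGDChev Cfsg.Agent.Nodes.Bruhat Cfsg.Agent.Nodes.SubComb Cfsg.Agent.Nodes.Coroot
open Cfsg.Agent.KFacts.RgdField Cfsg.Agent.KFacts.RgdChevCoord Cfsg.Agent.BpExc.TorCent Cfsg.Agent.BpExc.TorChev
open Cfsg.Agent.GpExc.Field Cfsg.Agent.BpExc.Tow Cfsg.Agent.BpExc.TowChev Cfsg.Agent.BpExc.Fr
  Cfsg.Agent.BpExc.LangFr Cfsg.Agent.LangThm Cfsg.Agent.BpExc Cfsg.Agent.H129.TorusChar Cfsg.Agent.H129.TorusCent
  Cfsg.Agent.H129.TorusTw Cfsg.Agent.H129.TorusMain Cfsg.Agent.ChevStructure.FieldMap Cfsg.Agent.BpExc.EmbInst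
  Cfsg.Agent.H129.TorusUntw
open Cfsg.Agent.ChevalleyStructure.TwE6Basic (sg rho rho_rho)
open Cfsg.Agent.ChevalleyStructure.GraphSymm (symmE6)

universe u

section Gam

variable {k : Type u} [Field k]

theorem sg_mem {φ : k →+* k} {g : GL chevE6.Idx k} (hg : g ∈ chevE6.group k) : sg φ g ∈ chevE6.group k := by
  have h1 : chevE6.group k ≤ (chevE6.group k).comap (sg φ) := by
    rw [group_le_iff RGDTwE6.hp.inList]
    intro r hr t
    obtain ⟨s, -, -, -, ε, -, h2, -⟩ := std φ r hr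
    rw [Subgroup.mem_comap, h2]
    exact xG_mem_group RGDTwE6.hp.inList _ _
  exact h1 hg

theorem sg_one_sq {g : GL chevE6.Idx k} (hg : g ∈ chevE6.group k) :
    sg (RingHom.id k) (sg (RingHom.id k) g) = g := by
  have h1 : chevE6.group k ≤ MonoidHom.eqLocus
      ((sg (RingHom.id k)).comp (sg (RingHom.id k))) (MonoidHom.id _) := by
    rw [group_le_iff RGDTwE6.hp.inList]
    intro r hr t
    exact sg_sq (RingHom.id k) r hr t
  exact h1 hg

/-- the graph automorphism -/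
noncomputable def gam (k : Type u) [Field k] : MulAut ↥(chevE6.group k) where
  toFun g := ⟨sg (RingHom.id k) g, sg_mem g.2⟩
  invFun g := ⟨sg (RingHom.id k) g, sg_mem g.2⟩
  left_inv g := Subtype.ext (sg_one_sq g.2)
  right_inv g := Subtype.ext (sg_one_sq g.2)
  map_mul' _ _ := Subtype.ext (map_mul (sg (RingHom.id k)) _ _)

theorem coe_gam (g : ↥(chevE6.group k)) : ((gam k g : ↥(chevE6.group k)) : GL chevE6.Idx k) = sg (RingHom.id k) g :=
  rfl

theorem coe_gam_inv (g : ↥(chevE6.group k)) :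
    (((gam k)⁻¹ g : ↥(chevE6.group k)) : GL chevE6.Idx k) = sg (RingHom.id k) g := rfl

/-- the lattice automorphism -/
def flip6 : (Fin 6 → ℤ) ≃+ (Fin 6 → ℤ) where
  toFun x := ![x 5, x 1, x 4, x 3, x 2, x 0]
  invFun x := ![x 5, x 1, x 4, x 3, x 2, x 0]
  left_inv x := by funext i; fin_cases i <;> rfl
  right_inv x := by funext i; fin_cases i <;> rfl
  map_add' x y := by funext i; fin_cases i <;> rfl

theorem flip6_apply (x : Fin 6 → ℤ) : flip6 x = ![x 5, x 1, x 4, x 3, x 2, x 0] := rfl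

theorem vec_rho : ∀ (r : Fin 72) (i : Fin 6), vec chevE6 6 (rho r).val i = flip6 (vec chevE6 6 r.val) i := by
  decide +kernel

theorem flip_vec (r : Fin 72) : flip6 (vec chevE6 6 r.val) = vec chevE6 6 (rho r).val :=
  (funext fun i => vec_rho r i).symm

theorem flip_sr : ∀ (j i : Fin 6), flip6 (sr j) i = (sr ((![5, 1, 4, 3, 2, 0] : Fin 6 → Fin 6) j) : Fin 6 → ℤ) i := by
  decide +kernel

theorem flip_flip (x : Fin 6 → ℤ) : flip6 (flip6 x) = x := by
  funext i; fin_cases i <;> rfl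

variable {W : Type*} [Group W] (cs : CoxeterSystem CoxeterMatrix.E₆ W)

theorem isRoot_flip (x : Fin 6 → ℤ) (hx : IsRoot cs RGDTwE6.hp.isCartan x) :
    IsRoot cs RGDTwE6.hp.isCartan (flip6 x) := by
  obtain ⟨r, hr, rfl⟩ := (isRoot_iff RGDTwE6.hp cs x).1 hx
  have hr' : r < 72 := hr
  rw [flip_vec ⟨r, hr'⟩]
  exact (isRoot_iff RGDTwE6.hp cs _).2 ⟨_, (rho ⟨r, hr'⟩).2, rfl⟩

theorem sg_diag {φ : k →+* k} {g : GL chevE6.Idx k} (hg : g ∈ chevE6.diagonalSubgroup k) :
    sg φ g ∈ chevE6.diagonalSubgroup k := by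
  have hD := RGDTwE6.hp.inList
  have h1 : chevE6.diagonalSubgroup k ≤ (chevE6.diagonalSubgroup k).comap (sg φ) := by
    rw [diagonal_le_iff hD]
    intro r hr t ht
    obtain ⟨s, hs, -, -, ε, hε, h2, h3⟩ := std φ r hr
    have key : ∀ c, sg φ (nG hD r c) = nG hD s (ε * φ c) := fun c => by
      rw [nG_def, nG_def, map_mul, map_mul, h2, h3, map_neg, map_inv₀, mul_inv, mul_neg]
    have e1 : hG hD s (ε * φ t) * (hG hD s (-(ε * φ (-1))))⁻¹ ∈ chevE6.diagonalSubgroup k :=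
      mul_mem (hG_mem_diagonal hD hs (mul_ne_zero hε ((map_ne_zero φ).2 ht)))
        (inv_mem (hG_mem_diagonal hD hs (by rw [map_neg, map_one]; simpa using hε)))
    have e2 : sg φ (hG hD r t) = hG hD s (ε * φ t) * (hG hD s (-(ε * φ (-1))))⁻¹ := by
      rw [hG_def, hG_def, hG_def, map_mul, key, key]
      have e3 : nG hD s (-(ε * φ (-1))) = (nG hD s (ε * φ (-1)))⁻¹ := by
        rw [nG_def, nG_def, mul_inv_rev, mul_inv_rev, xG_inv, xG_inv, ← mul_assoc, inv_neg, neg_neg]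
      rw [e3]
      group
    rw [Subgroup.mem_comap, e2]
    exact e1
  exact h1 hg

theorem sg_XV {x : Fin 6 → ℤ} (hx : IsRoot cs RGDTwE6.hp.isCartan x) {g : GL chevE6.Idx k}
    (hg : g ∈ XV chevE6 6 k x) : sg (RingHom.id k) g ∈ XV chevE6 6 k (flip6 x) := by
  obtain ⟨r, hr, rfl⟩ := (isRoot_iff RGDTwE6.hp cs x).1 hx
  have hr' : r < 72 := hr
  rw [XV_vec RGDTwE6.hp k hr] at hg
  rw [flip_vec ⟨r, hr'⟩, XV_vec RGDTwE6.hp k (rho ⟨r, hr'⟩).2]
  obtain ⟨t, rfl⟩ := (mem_rootSubgroup_iff RGDTwE6.hp.inList _ _).1 hg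
  have h1 : sg (RingHom.id k) (xG RGDTwE6.hp.inList r t) = xG RGDTwE6.hp.inList (rho ⟨r, hr'⟩).val
    (((ep ⟨r, hr'⟩ : ℤ) : k) * (RingHom.id k) t) := sg_ep (RingHom.id k) (⟨r, hr'⟩ : Fin 72) t
  rw [h1]
  exact xG_mem_rootSubgroup _ _ _

/-- The graph automorphism is a frame automorphism. -/
theorem fr_gam : Fr cs RGDTwE6.hp.isCartan (TT chevE6 k) (XX chevE6 6 k) (gam k) flip6 where
  tor t := by
    constructor
    · intro h
      have h1 : (gam k)⁻¹ (gam k t) ∈ TT chevE6 k := by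
        rw [Subgroup.mem_subgroupOf, coe_gam_inv]
        exact sg_diag h
      rwa [MulAut.inv_apply_self] at h1
    · intro h
      rw [Subgroup.mem_subgroupOf, coe_gam]
      exact sg_diag h
  root a := by
    constructor
    · intro h
      have h1 := isRoot_flip cs _ h
      rwa [flip_flip] at h1
    · exact isRoot_flip cs a
  map a ha y := by
    constructor
    · intro h
      have h1 : (gam k)⁻¹ (gam k y) ∈ XX chevE6 6 k a := by
        rw [Subgroup.mem_subgroupOf, coe_gam_inv]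
        have h2 := sg_XV cs (isRoot_flip cs _ ha) h
        rwa [flip_flip] at h2
      rwa [MulAut.inv_apply_self] at h1
    · intro h
      rw [Subgroup.mem_subgroupOf, coe_gam]
      exact sg_XV cs ha h

end Gam

/-! ### the twisted Frobenius -/

section Tau

variable {k : Type u} [Field k] [IsAlgClosed k] {p e : ℕ} [Fact p.Prime] [CharP k p]

/-- the twisted Frobenius automorphism -/
noncomputable def tau (k : Type u) [Field k] [IsAlgClosed k] (p e : ℕ) [Fact p.Prime] [CharP k p] :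
    MulAut ↥(chevE6.group k) :=
  gam k * phi chevE6 k p e

theorem coe_tau (g : ↥(chevE6.group k)) :
    ((tau k p e g : ↥(chevE6.group k)) : GL chevE6.Idx k) = sg (iterateFrobenius k p e) g := by
  have h1 : ((tau k p e g : ↥(chevE6.group k)) : GL chevE6.Idx k) =
      sg (RingHom.id k) (glMap chevE6 (iterateFrobenius k p e) g) := by
    rw [← coe_phi]
    rfl
  rw [h1]
  apply Units.ext
  rfl

theorem isFrob_tau : IsFrob p e (tau k p e) :=
  ⟨symmE6.P k, fun g => by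
    rw [coe_tau]
    apply Units.ext
    have h1 : frob p e (g : GL chevE6.Idx k) = glMap chevE6 (iterateFrobenius k p e) g := by
      apply co_injective
      funext ij
      rw [co_frob]
      rfl
    rw [h1]
    rfl⟩

theorem fr_tau {W : Type*} [Group W] (cs : CoxeterSystem CoxeterMatrix.E₆ W) :
    Fr cs RGDTwE6.hp.isCartan (TT chevE6 k) (XX chevE6 6 k) (tau k p e) flip6 :=
  Fr.mul (fr_gam cs) (fr_phi RGDTwE6.hp cs)

section Fix

variable {F : Type u} [Field F] [Fintype F] (f : F →+* k)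

theorem tau_eq_iff (g : ↥(chevE6.group k)) :
    tau k p e g = g ↔ sg (iterateFrobenius k p e) (g : GL chevE6.Idx k) = g := by
  rw [← coe_tau, Subtype.ext_iff]

/-- the inclusion -/
theorem tw_le {F : Type u} [Field F] [Fintype F] {q : ℕ} (hq : IsPrimePow q) (hF : Fintype.card F = q ^ 2) :
    twistedE6 F q ≤ chevE6.group F := by
  obtain ⟨φ0, hφ0, hqq⟩ := TwE6Basic.exists_frob hq hF
  exact EmbTw.G_le_group RGDTwE6.foldData (RGDTwE6.foldGrp hφ0 hqq)

/-- the embedding of the finite group -/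
noncomputable def embT {q : ℕ} (hq : IsPrimePow q) (hF : Fintype.card F = q ^ 2) :
    ↥(twistedE6 F q) →* ↥(chevE6.group k) :=
  (emb RGDTwE6.hp.inList f).comp (Subgroup.inclusion (tw_le hq hF))

theorem coe_embT {q : ℕ} (hq : IsPrimePow q) (hF : Fintype.card F = q ^ 2) (x : ↥(twistedE6 F q)) :
    ((embT f hq hF x : ↥(chevE6.group k)) : GL chevE6.Idx k) = glMap chevE6 f x := coe_emb RGDTwE6.hp.inList f _

theorem embT_injective {q : ℕ} (hq : IsPrimePow q) (hF : Fintype.card F = q ^ 2) :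
    Function.Injective (embT (k := k) f hq hF) :=
  (emb_injective RGDTwE6.hp.inList f).comp (Subgroup.inclusion_injective _)

theorem frob_apply {q : ℕ} (hqe : q = p ^ e) (t : k) : iterateFrobenius k p e t = t ^ q := by
  rw [iterateFrobenius_def, hqe]

theorem tau_embT {q : ℕ} (hqe : q = p ^ e) (hq : IsPrimePow q) (hF : Fintype.card F = q ^ 2)
    (x : ↥(twistedE6 F q)) : tau k p e (embT f hq hF x) = embT f hq hF x := by
  rw [tau_eq_iff, coe_embT]
  exact (twE6_fix hq hF (frob_apply hqe) x.2).2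

/-- A fixed point is the product of an element of `²E₆(q)` and a fixed torus element. -/
theorem tau_split {q : ℕ} (hqe : q = p ^ e) (hq : IsPrimePow q) (hF : Fintype.card F = q ^ 2)
    {g : ↥(chevE6.group k)} (hg : tau k p e g = g) :
    ∃ (x : ↥(twistedE6 F q)) (t : ↥(chevE6.group k)), t ∈ TT chevE6 k ∧ tau k p e t = t ∧ g = embT f hq hF x * t := by
  obtain ⟨x, hx, t, ht, h1⟩ := twE6_split (f := f) hq hF (frob_apply hqe) g.2 ((tau_eq_iff g).1 hg)
  have e1 : g = embT f hq hF ⟨x, hx⟩ * ⟨t, diagonal_le_group RGDTwE6.hp.inList k ht⟩ := by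
    apply Subtype.ext
    rw [Subgroup.coe_mul, coe_embT]
    exact h1
  refine ⟨⟨x, hx⟩, ⟨t, diagonal_le_group RGDTwE6.hp.inList k ht⟩, ht, ?_, e1⟩
  rw [e1, map_mul, tau_embT f hqe] at hg
  exact mul_left_cancel hg

/-- The image of `²E₆(q)` is normalized by the fixed points. -/
theorem tau_normal {q : ℕ} (hqe : q = p ^ e) (hq : IsPrimePow q) (hF : Fintype.card F = q ^ 2)
    {g : ↥(chevE6.group k)} (hg : tau k p e g = g) {y : ↥(chevE6.group k)} (hy : y ∈ (embT (k := k) f hq hF).range) :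
    g * y * g⁻¹ ∈ (embT (k := k) f hq hF).range := by
  obtain ⟨x, rfl⟩ := hy
  have h1 := twE6_normalizer (f := f) hq hF (frob_apply hqe) g.2 ((tau_eq_iff g).1 hg)
  have h2 := (Subgroup.mem_normalizer_iff.1 h1 (glMap chevE6 f x)).1 (Subgroup.mem_map_of_mem _ x.2)
  obtain ⟨y, hy, hy'⟩ := h2
  refine ⟨⟨y, hy⟩, Subtype.ext ?_⟩
  rw [coe_embT, hy', Subgroup.coe_mul, Subgroup.coe_mul, Subgroup.coe_inv, coe_embT]

end Fix

end Tau

end Cfsg.Agent.H129.TwE6Fr
end

-- part: H129/TwE6Idx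
section
set_option linter.all false
open scoped Cfsg.Agent.FastGrp

/-!
# The index of `²E₆(q)` in the fixed points (helper129)

* `torus_pow` : `t ^ gcd(3, q + 1) ∈ ²E₆(q)` for a fixed torus element `t`;
* `tau_pow` : the same for all fixed points of `tau`;
* `exists_twisted` : a cyclic subgroup from a cyclic lattice; `exists_cyclic_sub`.
-/

set_option autoImplicit false
set_option linter.unusedSectionVars false

namespace Cfsg.Agent.H129.TwE6Fr

open CoxeterSystem Cfsg Cfsg.Lie Cfsg.Lie.ChevalleyDatum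
open Cfsg.Agent.ChevalleyStructure Cfsg.Agent.ChevalleyStructure.Elts Cfsg.Agent.ChevalleyStructure.CoxeterGeom
  Cfsg.Agent.ChevalleyStructure.CoxeterGeomTypes Cfsg.Agent.ChevalleyStructure.NPerm
open Cfsg.Agent.Tits.Roots Cfsg.Agent.Tits.Core Cfsg.Agent.Nodes Cfsg.Agent.Nodes.Reps Cfsg.Agent.Nodes.BNOf
  Cfsg.Agent.Nodes.RGDChev Cfsg.Agent.Nodes.Bruhat Cfsg.Agent.Nodes.SubComb Cfsg.Agent.Nodes.Coroot
open Cfsg.Agent.KFacts.RgdField Cfsg.Agent.KFacts.RgdChevCoord Cfsg.Agent.BpExc.TorCent Cfsg.Agent.BpExc.TorChev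
open Cfsg.Agent.GpExc.Field Cfsg.Agent.BpExc.Tow Cfsg.Agent.BpExc.TowChev Cfsg.Agent.BpExc.Fr
  Cfsg.Agent.BpExc.LangFr Cfsg.Agent.LangThm Cfsg.Agent.BpExc Cfsg.Agent.H129.TorusChar Cfsg.Agent.H129.TorusCent
  Cfsg.Agent.H129.TorusTw Cfsg.Agent.H129.TorusMain Cfsg.Agent.ChevStructure.FieldMap Cfsg.Agent.BpExc.EmbInst
  Cfsg.Agent.H129.TorusUntw

universe u

variable {k : Type u} [Field k] [IsAlgClosed k] {p e : ℕ} [Fact p.Prime] [CharP k p]
  {F : Type u} [Field F] [Fintype F] (f : F →+* k)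

/-- the fixed torus elements -/
def Tfix (k : Type u) [Field k] [IsAlgClosed k] (p e : ℕ) [Fact p.Prime] [CharP k p] :
    Subgroup ↥(chevE6.group k) where
  carrier := {s | s ∈ TT chevE6 k ∧ tau k p e s = s}
  one_mem' := ⟨one_mem _, map_one _⟩
  mul_mem' := fun h h' => ⟨mul_mem h.1 h'.1, by rw [map_mul, h.2, h'.2]⟩
  inv_mem' := fun h => ⟨inv_mem h.1, by rw [map_inv, h.2]⟩

theorem cX_flip {q : ℕ} (hqe : q = p ^ e) {s : ↥(chevE6.group k)} (hs : s ∈ TT chevE6 k) (x : Fin 6 → ℤ) :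
    cX RGDTwE6.hp (tau k p e s) (flip6 x) = cX RGDTwE6.hp s x ^ q := by
  rw [hqe]
  exact cX_sigma RGDTwE6.hp CoxeterMatrix.E₆.toCoxeterSystem isFrob_tau
    (fr_tau (k := k) (p := p) (e := e) CoxeterMatrix.E₆.toCoxeterSystem) hs x

/-- the permutation of the simple roots -/
def pj : Fin 6 → Fin 6 := ![5, 1, 4, 3, 2, 0]

theorem pj_pj : ∀ i, pj (pj i) = i := by decide

theorem flip_sr' (j : Fin 6) : flip6 (sr j) = sr (pj j) := funext (flip_sr j)

theorem fix_iff {q : ℕ} (hqe : q = p ^ e) {s : ↥(chevE6.group k)} (hs : s ∈ TT chevE6 k) :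
    tau k p e s = s ↔ ∀ i, cX RGDTwE6.hp s (sr (pj i)) = cX RGDTwE6.hp s (sr i) ^ q := by
  constructor
  · intro h i
    have h1 := cX_flip hqe hs (sr i)
    rwa [h, flip_sr'] at h1
  · intro h
    refine cX_inj RGDTwE6.hp (((fr_tau (k := k) (p := p) (e := e) CoxeterMatrix.E₆.toCoxeterSystem).tor s).2 hs) hs
      fun i => ?_
    have h1 := cX_flip hqe hs (sr (pj i))
    rw [flip_sr', pj_pj] at h1
    rw [h1, ← h, pj_pj]

theorem Tfix_comm {s t : ↥(chevE6.group k)} (hs : s ∈ TT chevE6 k) (ht : t ∈ TT chevE6 k) : s * t = t * s :=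
  cX_inj RGDTwE6.hp (mul_mem hs ht) (mul_mem ht hs) fun i => by
    rw [cX_mul RGDTwE6.hp hs ht, cX_mul RGDTwE6.hp ht hs, mul_comm]

theorem card_Tfix {q : ℕ} (hqe : q = p ^ e) (hq : IsPrimePow q) (hF : Fintype.card F = q ^ 2) (f : F →+* k) :
    Nat.card ↥(Tfix k p e) = (q - 1) ^ 4 * (q + 1) ^ 2 := by
  classical
  obtain ⟨φ0, hφ0, hqq⟩ := TwE6Basic.exists_frob hq hF
  have hv : ∀ {s : ↥(chevE6.group k)}, s ∈ Tfix k p e → ∀ i,
      cX RGDTwE6.hp s (sr (pj i)) = cX RGDTwE6.hp s (sr i) ^ q := fun hs => (fix_iff hqe hs.1).1 hs.2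
  have hr : ∀ {s : ↥(chevE6.group k)}, s ∈ Tfix k p e → ∀ i, ∃ b : F, f b = cX RGDTwE6.hp s (sr i) := fun hs i =>
    Emb.mem_range_of_pow f (by
      have h1 := hv hs (pj i)
      rw [pj_pj, hv hs i, ← pow_mul, ← sq] at h1
      rw [hF]
      exact h1.symm)
  have hex : ∀ s : ↥(Tfix k p e), ∃ c : (Fˣ × {b : Fˣ // φ0 b = b}) × (Fˣ × {b : Fˣ // φ0 b = b}),
      f (c.1.1 : F) = cX RGDTwE6.hp s.1 (sr 0) ∧ f ((c.1.2.1 : Fˣ) : F) = cX RGDTwE6.hp s.1 (sr 1) ∧
      f (c.2.1 : F) = cX RGDTwE6.hp s.1 (sr 2) ∧ f ((c.2.2.1 : Fˣ) : F) = cX RGDTwE6.hp s.1 (sr 3) := by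
    intro s
    have hmc := isMC_cX RGDTwE6.hp s.2.1
    choose b hb using hr s.2
    have hb0 : ∀ i, b i ≠ 0 := by
      intro i h0
      have h1 := hb i
      rw [h0, map_zero] at h1
      exact hmc.ne_zero _ h1.symm
    have hfx : ∀ i, pj i = i → φ0 (b i) = b i := by
      intro i hi
      apply f.injective
      rw [hφ0, map_pow, hb]
      have h1 := hv s.2 i
      rw [hi] at h1
      exact h1.symm
    exact ⟨((Units.mk0 (b 0) (hb0 0), ⟨Units.mk0 (b 1) (hb0 1), hfx 1 rfl⟩),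
      (Units.mk0 (b 2) (hb0 2), ⟨Units.mk0 (b 3) (hb0 3), hfx 3 rfl⟩)), hb 0, hb 1, hb 2, hb 3⟩
  choose κ hκ0 hκ1 hκ2 hκ3 using hex
  have hinj : Function.Injective κ := by
    intro s s' h
    apply Subtype.ext
    have e0 : cX RGDTwE6.hp s.1 (sr 0) = cX RGDTwE6.hp s'.1 (sr 0) := by rw [← hκ0, ← hκ0, h]
    have e1 : cX RGDTwE6.hp s.1 (sr 1) = cX RGDTwE6.hp s'.1 (sr 1) := by rw [← hκ1, ← hκ1, h]
    have e2 : cX RGDTwE6.hp s.1 (sr 2) = cX RGDTwE6.hp s'.1 (sr 2) := by rw [← hκ2, ← hκ2, h]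
    have e3 : cX RGDTwE6.hp s.1 (sr 3) = cX RGDTwE6.hp s'.1 (sr 3) := by rw [← hκ3, ← hκ3, h]
    have e4 : cX RGDTwE6.hp s.1 (sr 4) = cX RGDTwE6.hp s'.1 (sr 4) := by
      have h1 := hv s.2 2
      have h2 := hv s'.2 2
      rw [e2, ← h2] at h1
      exact h1
    have e5 : cX RGDTwE6.hp s.1 (sr 5) = cX RGDTwE6.hp s'.1 (sr 5) := by
      have h1 := hv s.2 0
      have h2 := hv s'.2 0
      rw [e0, ← h2] at h1
      exact h1
    refine cX_inj RGDTwE6.hp s.2.1 s'.2.1 fun i => ?_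
    fin_cases i
    · exact e0
    · exact e1
    · exact e2
    · exact e3
    · exact e4
    · exact e5
  have hsurj : Function.Surjective κ := by
    rintro ⟨⟨b0, b1⟩, b2, b3⟩
    let val : Fin 6 → k := ![f b0, f (b1.1 : Fˣ), f b2, f (b3.1 : Fˣ), f b2 ^ q, f b0 ^ q]
    have hfu : ∀ b : Fˣ, f b ≠ 0 := fun b => (map_ne_zero f).2 b.ne_zero
    have hval0 : ∀ i, val i ≠ 0 := by
      intro i
      fin_cases i
      · exact hfu _
      · exact hfu _
      · exact hfu _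
      · exact hfu _
      · exact pow_ne_zero _ (hfu _)
      · exact pow_ne_zero _ (hfu _)
    have hφ : IsMC (fun x : Fin 6 → ℤ => ∏ i, val i ^ x i) := IsMC.of_prod _ hval0
    have hval : ∀ i, (fun x : Fin 6 → ℤ => ∏ i, val i ^ x i) (sr i) = val i := by
      intro i
      show ∏ j, val j ^ (sr i : Fin 6 → ℤ) j = _
      rw [Finset.prod_eq_single i]
      · rw [sr_self, zpow_one]
      · intro j _ hj
        rw [sr_ne hj, zpow_zero]
      · intro hi
        exact absurd (Finset.mem_univ i) hi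
    obtain ⟨t, ht, hc⟩ := exists_cX RGDTwE6.hp TorusChar.invC_E6 (by norm_num) hφ
      (fun i => IsAlgClosed.exists_pow_nat_eq _ (by norm_num))
    have hci : ∀ i, cX RGDTwE6.hp t (sr i) = val i := fun i => by rw [hc]; exact hval i
    have hb : ∀ b : Fˣ, (f b ^ q) ^ q = f b := fun b => by
      rw [← map_pow, ← map_pow, hqq]
    have hb' : ∀ b : {b : Fˣ // φ0 b = b}, f (b.1 : Fˣ) ^ q = f (b.1 : Fˣ) := fun b => by
      rw [← map_pow, ← hφ0, b.2]
    have hfix : tau k p e t = t := by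
      rw [fix_iff hqe ht]
      intro i
      rw [hci, hci]
      fin_cases i
      · rfl
      · exact (hb' _).symm
      · rfl
      · exact (hb' _).symm
      · exact (hb _).symm
      · exact (hb _).symm
    refine ⟨⟨t, ht, hfix⟩, ?_⟩
    refine Prod.ext (Prod.ext (Units.ext (f.injective ?_)) (Subtype.ext (Units.ext (f.injective ?_))))
      (Prod.ext (Units.ext (f.injective ?_)) (Subtype.ext (Units.ext (f.injective ?_))))
    · rw [hκ0, hci]; rfl
    · rw [hκ1, hci]; rfl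
    · rw [hκ2, hci]; rfl
    · rw [hκ3, hci]; rfl
  rw [Nat.card_congr (Equiv.ofBijective κ ⟨hinj, hsurj⟩), Nat.card_prod, Nat.card_prod,
    D4H1.card_fixed hq.one_lt hF hφ0, D4H1.natCard_units hF]
  have e1 : q ^ 2 - 1 = (q - 1) * (q + 1) := by
    obtain ⟨m, rfl⟩ : ∃ m, q = m + 1 := ⟨q - 1, (Nat.sub_add_cancel hq.one_lt.le).symm⟩
    rw [Nat.add_sub_cancel]
    apply Nat.sub_eq_of_eq_add
    ring
  rw [e1]
  ring

/-- The `gcd(3, q + 1)`-th power of a fixed torus element lies in `²E₆(q)`. -/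
theorem torus_pow {q : ℕ} (hqe : q = p ^ e) (hq : IsPrimePow q) (hF : Fintype.card F = q ^ 2)
    {t : ↥(chevE6.group k)} (ht : t ∈ TT chevE6 k) (hσ : tau k p e t = t) :
    t ^ Nat.gcd 3 (q + 1) ∈ (embT (k := k) f hq hF).range := by
  classical
  let ι : ↥(chevE6.diagonalSubgroup F ⊓ twistedE6 F q) →* ↥(Tfix k p e) :=
    MonoidHom.codRestrict ((embT f hq hF).comp
      (Subgroup.inclusion (inf_le_right : chevE6.diagonalSubgroup F ⊓ twistedE6 F q ≤ twistedE6 F q)))
      (Tfix k p e) (fun x => ⟨emb_T RGDTwE6.hp f ⟨Subgroup.inclusion (tw_le hq hF) ⟨x.1, x.2.2⟩, x.2.1, rfl⟩,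
        tau_embT f hqe hq hF _⟩)
  have hι : Function.Injective ι := by
    intro x y h
    have h1 : embT f hq hF ⟨x.1, x.2.2⟩ = embT (k := k) f hq hF ⟨y.1, y.2.2⟩ := congrArg Subtype.val h
    have h2 := congrArg Subtype.val (embT_injective f hq hF h1)
    exact Subtype.ext h2
  have hA := card_Tfix (p := p) (e := e) hqe hq hF f
  have hB := Cfsg.Agent.S1102.result hq hF
  have hcr : Nat.card ↥ι.range = Nat.card ↥(chevE6.diagonalSubgroup F ⊓ twistedE6 F q) :=
    (Nat.card_congr (MonoidHom.ofInjective hι).toEquiv).symm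
  have h1 := ι.range.card_mul_index
  rw [hcr, hA, ← hB, mul_comm (Nat.gcd 3 (q + 1))] at h1
  have hpos : 0 < Nat.card ↥(chevE6.diagonalSubgroup F ⊓ twistedE6 F q) := Nat.card_pos
  have h2 : ι.range.index = Nat.gcd 3 (q + 1) := Nat.eq_of_mul_eq_mul_left hpos h1
  have hn : ι.range.Normal := ⟨fun x hx y => by
    have e : y * x * y⁻¹ = x := by
      apply Subtype.ext
      show y.1 * x.1 * y.1⁻¹ = x.1
      rw [Tfix_comm y.2.1 x.2.1, mul_inv_cancel_right]
    rw [e]; exact hx⟩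
  have h3 := ι.range.pow_index_mem ⟨t, ht, hσ⟩
  rw [h2] at h3
  obtain ⟨x, hx⟩ := h3
  refine ⟨⟨x.1, x.2.2⟩, ?_⟩
  exact congrArg Subtype.val hx

/-- **The `gcd(3, q + 1)`-th powers of the fixed points lie in `²E₆(q)`.** -/
theorem tau_pow {q : ℕ} (hqe : q = p ^ e) (hq : IsPrimePow q) (hF : Fintype.card F = q ^ 2)
    {g : ↥(chevE6.group k)} (hg : tau k p e g = g) :
    g ^ Nat.gcd 3 (q + 1) ∈ (embT (k := k) f hq hF).range := by
  obtain ⟨x, t, ht, hσ, rfl⟩ := tau_split f hqe hq hF hg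
  have key : ∀ n : ℕ, (embT f hq hF x * t) ^ n * (t ^ n)⁻¹ ∈ (embT (k := k) f hq hF).range := by
    intro n
    induction n with
    | zero => rw [pow_zero, pow_zero, inv_one, mul_one]; exact one_mem _
    | succ n ih =>
      have hn : tau k p e (embT f hq hF x * t) = embT f hq hF x * t := by
        rw [map_mul, tau_embT f hqe, hσ]
      have e1 : (embT f hq hF x * t) ^ (n + 1) * (t ^ (n + 1))⁻¹ =
          (embT f hq hF x * t) * ((embT f hq hF x * t) ^ n * (t ^ n)⁻¹) * (embT f hq hF x * t)⁻¹ *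
            embT f hq hF x := by
        rw [pow_succ', pow_succ]
        group
      rw [e1]
      exact mul_mem (tau_normal f hqe hq hF hn ih) ⟨x, rfl⟩
  have h1 := mul_mem (key (Nat.gcd 3 (q + 1))) (torus_pow f hqe hq hF ht hσ)
  rwa [inv_mul_cancel_right] at h1

end Cfsg.Agent.H129.TwE6Fr

private theorem dce_26d5f6c89efd : _root_.True := by
  try have : _root_.True := by simp only [_root_.Cfsg.Agent.H129.TwE6Fr.embT.congr_simp]
  exact _root_.True.intro
end
end
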