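import Cfsg.Agent.H129.WData
import Cfsg.Agent.H129.TriD4
import Cfsg.Agent.H129.UntwData
import Cfsg.Agent.S2373
import Cfsg.Agent.ChevalleyStructure.WeylData
import Cfsg.Agent.H129.RealT_m3
import Cfsg.Agent.H129.TwE6Idx
import Cfsg.Agent.S1093
import Cfsg.Agent.H129.PhiE
import Cfsg.Agent.H129.DataE7h
import Cfsg.Agent.S1035
import Cfsg.Agent.ChevFast.E7
import Cfsg.Agent.H129.DataE7n
import Cfsg.Agent.H129.RootFast
import Cfsg.Agent.FastGrp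
import Cfsg.Agent.Prune
set_option linter.all false

section
prune_inst 0x7ffcffffeff8afffffff7e7ffedddffe19d0dfffefdffb4bffe8f3ff2f9f23001be5fb859de0d0ff1ef6e2be30b87813fb7eefffef6fdc7ffffdfff45ffbee5fe5febf8d71d7ac340f384fffe3f07fce7f3fffffffffffffffffffffffffffbeffffffffffff

-- part: H129/TwD4Cyc
section
set_option linter.all false
open scoped Cfsg.Agent.FastGrp

-- part: H129/DataD4C
section
/-!
# Data of the torus of order `q⁴ - q² + 1` of `³D₄(q)` (helper129)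
-/

set_option autoImplicit false

namespace Cfsg.Agent.H129.DataD4C

open Cfsg.Agent.H129.TorusTw Cfsg.Agent.H129.WData Cfsg.Agent.ChevalleyStructure.CoxeterGeomTypes
open Cfsg.Lie Cfsg.Lie.ChevalleyDatum

/-- the Cartan matrix -/
def Am : Mat 4 := ![![2, -1, 0, 0],
    ![-1, 2, -1, -1],
    ![0, -1, 2, 0],
    ![0, -1, 0, 2]]

/-- the partial products -/
def chain : List (Fin 4 × Mat 4) := [
    (0, ![![0, 1, 0, 0],
      ![-1, -1, 0, 0],
      ![1, 1, 1, 0],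
      ![1, 1, 0, 1]]),
    (1, ![![1, 1, 0, 0],
      ![0, -1, 0, 0],
      ![0, 1, 1, 0],
      ![0, 1, 0, 1]])]

/-- the permutation of the simple roots -/
def pi : Fin 4 → Fin 4 := ![2, 1, 3, 0]

/-- the matrix of `θ` -/
def Th : Mat 4 := ![![1, 1, 1, 0],
    ![-1, -1, 0, 0],
    ![1, 1, 0, 1],
    ![0, 1, 0, 0]]

/-- the basis -/
def V : Mat 4 := ![![-1, -1, -1, 0],
    ![-1, -1, -1, -1],
    ![-1, -2, -1, -1],
    ![0, -1, -1, -1]]

/-- the coordinates -/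
def B : Mat 4 := ![![0, -1, 0, 1],
    ![0, 1, -1, 0],
    ![-1, 0, 1, -1],
    ![1, -1, 0, 0]]

/-- the polynomial -/
def c : Fin 4 → ℤ := ![1, 0, -1, 0]

/-- the representatives of the orbits of `θ` on the roots -/
def R : Fin 2 → Fin 4 → ℤ := ![![-1, -2, -1, -1],
    ![0, 0, 0, -1]]

/-- the values of the functional on the representatives -/
def G : Fin 2 → Fin 4 → ℤ := ![![0, 0, 1, 0],
    ![-1, 1, 0, 0]]

/-- predecessor -/
def prv (r : ℕ) : ℕ := Nat.mod (Nat.shiftRight 0x1615120d09081714110c131000040b0603000f0e0a050200 (8 * r)) 256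

/-- depth -/
def dep (r : ℕ) : ℕ := Nat.mod (Nat.shiftRight 0x60504040203070508070306000901020b0109080a0a0b00 (8 * r)) 256

theorem hA : ∀ i j, Am i j = cartanOf chevD4 4 i j := by decide +kernel

theorem chainOK : ChainOK Am chain := by decide +kernel

theorem hd_pi : ∀ j, hd chain (pi j) = Th j := by decide +kernel

theorem cycOK : CycOK 4 Th V B c := by decide +kernel

theorem rootOK : RootOK chevD4 4 Th R prv dep := by decide +kernel

theorem coefOK : ∀ s i, ∑ j, R s j * B j i = G s i := by decide +kernel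

theorem fN_eq (x : ℤ) : fN c x = 1 - x ^ 2 + x ^ 4 := by
  unfold fN c
  simp [Fin.sum_univ_succ]
  ring

theorem G_0 (x : ℤ) : Gq B x (R 0) = x ^ 2 := by
  rw [Gq_coef B x (R 0) (G 0) (coefOK 0)]
  unfold G
  simp [Fin.sum_univ_succ]
  try ring

theorem bez_0 (x : ℤ) : (1) * (1 - x ^ 2 + x ^ 4) + (1 - x ^ 2) * (x ^ 2) = 1 := by
  ring

theorem G_1 (x : ℤ) : Gq B x (R 1) = -1 + x := by
  rw [Gq_coef B x (R 1) (G 1) (coefOK 1)]
  unfold G
  simp [Fin.sum_univ_succ]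
  try ring

theorem bez_1 (x : ℤ) : (1) * (1 - x ^ 2 + x ^ 4) + (-x ^ 2 - x ^ 3) * (-1 + x) = 1 := by
  ring

/-- Common divisors of `f(x)` and the value of `Gq` on a representative. -/
theorem dvd_of_G {x r : ℤ} (h : r ∣ 1 - x ^ 2 + x ^ 4) (s : Fin 2) (hs : r ∣ Gq B x (R s)) :
    r ∣ 1 := by
  have key : ∀ {a b g y : ℤ}, a * (1 - x ^ 2 + x ^ 4) + b * g = y → r ∣ g → r ∣ y := fun e hg => by
    rw [← e]
    exact dvd_add (h.mul_left _) (hg.mul_left _)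
  fin_cases s
  · exact key (bez_0 x) (by rw [← G_0]; exact hs)
  · exact key (bez_1 x) (by rw [← G_1]; exact hs)

end Cfsg.Agent.H129.DataD4C
end

-- part: H129/TwD4Cyc
section
/-!
# The cyclic self-centralizing subgroup of order `q⁴ - q² + 1` of `³D₄(q)` (helper129)
-/

set_option autoImplicit false
open Cfsg

namespace Cfsg.Agent.H129.TwD4Cyc

open Cfsg.Lie Cfsg.Agent.H129 Cfsg.Agent.Nodes Cfsg.Agent.Nodes.RGDChev Cfsg.Agent.H129.TorusTw
  Cfsg.Agent.H129.TorusMain Cfsg.Agent.Tits.Roots Cfsg.Agent.H129.TorusUntw Cfsg.Agent.H129.TriD4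
  Cfsg.Agent.ChevalleyStructure.CoxeterGeom

theorem card_W : Nat.card coxeterD4.Group = 192 :=
  ChevalleyStructure.WeylData.certD4.card_group.trans ChevalleyStructure.WeylData.size_D4

instance finite_W : Finite coxeterD4.Group := Nat.finite_of_card_ne_zero (by rw [card_W]; norm_num)

theorem not_dvd_W {r : ℕ} (hr : r.Prime) (hr2 : r ≠ 2) (hr3 : r ≠ 3) : ¬ r ∣ Nat.card coxeterD4.Group := by
  rw [card_W]
  intro h
  have h2 : (192 : ℕ) = 2 ^ 6 * 3 := by norm_num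
  rw [h2] at h
  rcases (Nat.Prime.dvd_mul hr).1 h with h | h
  · exact hr2 ((Nat.prime_dvd_prime_iff_eq hr Nat.prime_two).1 (hr.dvd_of_dvd_pow h))
  · exact hr3 ((Nat.prime_dvd_prime_iff_eq hr Nat.prime_three).1 h)

theorem lin_tri {W : Type*} [Group W] (cs : CoxeterSystem coxeterD4 W) {A : WData.Mat 4}
    (hA : ∀ i j, A i j = ChevalleyStructure.CoxeterGeomTypes.cartanOf chevD4 4 i j)
    {L : List (Fin 4 × WData.Mat 4)} (hL : WData.ChainOK A L) {Th : WData.Mat 4}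
    (hT : ∀ j, WData.hd L ((![2, 1, 3, 0] : Fin 4 → Fin 4) j) = Th j) :
    WData.Lin (theta RGDTwD4.hp cs (cs.wordProd (L.map Prod.fst)) tri) Th := by
  intro j
  rw [theta_apply]
  have h1 : tri (sr j) = sr ((![2, 1, 3, 0] : Fin 4 → Fin 4) j) := funext (tri_sr j)
  rw [h1, WData.chain_rep RGDTwD4.hp cs hA hL, hT]

/-- **Cyclic self-centralizing tori of `³D₄(q)`**, the regular case. -/
theorem tri_data {K : Type*} [Field K] [Fintype K] {q : ℕ} (hq : IsPrimePow q) (hK : Fintype.card K = q ^ 3)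
    {A : WData.Mat 4} (hA : ∀ i j, A i j = ChevalleyStructure.CoxeterGeomTypes.cartanOf chevD4 4 i j)
    {L : List (Fin 4 × WData.Mat 4)} (hL : WData.ChainOK A L) {Th : WData.Mat 4}
    (hT : ∀ j, WData.hd L ((![2, 1, 3, 0] : Fin 4 → Fin 4) j) = Th j)
    {V B : WData.Mat 4} {c : Fin 4 → ℤ} (hcyc : WData.CycOK 4 Th V B c) {m : ℕ} {R : Fin m → Fin 4 → ℤ}
    {prv dep : ℕ → ℕ} (hR : WData.RootOK chevD4 4 Th R prv dep) {N r : ℕ} (hfN : fN c (q : ℤ) = N)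
    (hqN : q.Coprime N) (hr : r.Prime) (hr2 : r ≠ 2) (hr3 : r ≠ 3) (hrN : r ∣ N)
    (hG : ∀ s, ¬ (r : ℤ) ∣ Gq B (q : ℤ) (R s)) :
    ∃ H : Subgroup ↥(twistedD4 K q), IsCyclic ↥H ∧ Nat.card ↥H = N ∧
      Subgroup.centralizer (H : Set ↥(twistedD4 K q)) = H := by
  obtain ⟨p, e', hpF, hpc, hpk, -, hpe, hk⟩ := exists_closure hK
  obtain ⟨p', e, hp', he, hqe'⟩ := id hq
  have hpp : p' = p := by
    have h1 : p' ∣ p ^ e' := by
      rw [← hpe, ← hqe']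
      exact dvd_pow (dvd_pow_self p' he.ne') (by norm_num)
    exact (Nat.prime_dvd_prime_iff_eq hp'.nat_prime hpF.out).1 (hp'.nat_prime.dvd_of_dvd_pow h1)
  subst hpp
  have hqe : q = p' ^ e := hqe'.symm
  have hpN : ¬ p' ∣ N := fun h1 => by
    have h2 : p' ∣ Nat.gcd q N := Nat.dvd_gcd (by rw [hqe]; exact dvd_pow_self p' he.ne') h1
    rw [hqN] at h2
    exact hpF.out.one_lt.ne' (Nat.dvd_one.1 h2)
  have hlin := lin_tri coxeterD4.toCoxeterSystem hA hL hT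
  have hc := WData.cyc_of hlin hcyc
  have hnot := fun {a : Fin 4 → ℤ} (ha : IsRoot coxeterD4.toCoxeterSystem RGDTwD4.hp.isCartan a) =>
    WData.not_dvd_G RGDTwD4.hp coxeterD4.toCoxeterSystem hlin hc hR hfN hr hrN hqN hG ha
  have h1 := exists_cyclic (k := AlgebraicClosure K) RGDTwD4.hp coxeterD4.toCoxeterSystem (by norm_num) hk
    (hN := nsys_of_locFin RGDTwD4.hp coxeterD4.toCoxeterSystem hk p') he isFrob_tau
    (fr_tau coxeterD4.toCoxeterSystem) TorusChar.invC_D4 (by norm_num)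
    (coxeterD4.toCoxeterSystem.wordProd (L.map Prod.fst)) hc (N := N) (d := 1) (r := r)
    (by rw [← hqe]; exact hfN) hpN
    (e0 := embT (algebraMap K (AlgebraicClosure K)) hq hK) (embT_injective _ hq hK)
    (tau_embT _ hqe hq hK) hr (not_dvd_W hr hr2 hr3) (by rwa [one_mul]) ?_ ?_ ?_
  · simpa using h1
  · rw [← hqe]
    exact fun a ha h2 => absurd h2 (hnot ha)
  · rw [← hqe]
    exact fun a ha => absurd ha.2 (hnot ha.1)
  · intro n z t u hn hz ht hτ _ _ s hs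
    rw [pow_one]
    refine ⟨fun _ => hs, fun _ => ?_⟩
    exact tau_range _ hqe hq hK (conj_fixed hz hτ hs)

/-- The group ³D₄(q) contains a cyclic subgroup of order `q⁴ − q² + 1` which is its own centralizer. -/
theorem coxeter_torus {K : Type*} [Field K] [Fintype K] {q : ℕ} (hq : IsPrimePow q) (hK : Fintype.card K = q ^ 3) :
    ∃ H : Subgroup ↥(twistedD4 K q), IsCyclic ↥H ∧ Nat.card ↥H = q ^ 4 - q ^ 2 + 1 ∧
      Subgroup.centralizer (H : Set ↥(twistedD4 K q)) = H := by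
  have h0 : q ^ 2 ≤ q ^ 4 := Nat.pow_le_pow_right hq.pos (by norm_num)
  have hN : ((q ^ 4 - q ^ 2 + 1 : ℕ) : ℤ) = 1 - (q : ℤ) ^ 2 + (q : ℤ) ^ 4 := by
    push_cast [Nat.cast_sub h0]; ring
  obtain ⟨r, hr, hrq, hr2, hr3, -, -⟩ := S2373.exists_prime hq.two_le
  have hrN : r ∣ q ^ 4 - q ^ 2 + 1 := by
    have h1 := hrq
    rw [← hN] at h1
    exact Int.natCast_dvd_natCast.1 h1
  refine tri_data hq hK DataD4C.hA DataD4C.chainOK DataD4C.hd_pi DataD4C.cycOK DataD4C.rootOK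
    (by rw [DataD4C.fN_eq, hN]) ?_ hr hr2 hr3 hrN ?_
  · exact UntwData.coprime_of_eq (a := -(q : ℤ) + (q : ℤ) ^ 3) (by rw [hN]; ring)
  · intro s hs
    have h2 := DataD4C.dvd_of_G hrq s hs
    exact hr.one_lt.ne' (Nat.dvd_one.1 (by exact_mod_cast h2))

end Cfsg.Agent.H129.TwD4Cyc
end
end

-- part: H129/TwT
section
set_option linter.all false
open scoped Cfsg.Agent.FastGrp

-- part: H129/DataD4C2
section
/-!
# The cube of `θ` for the torus of order `q⁴ - q² + 1` of `³D₄(q)` (helper129)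
-/

set_option autoImplicit false

namespace Cfsg.Agent.H129.DataD4C

open Cfsg.Agent.H129.TorusTw Cfsg.Agent.H129.WData Cfsg.Agent.ChevalleyStructure.CoxeterGeomTypes
open Cfsg.Lie Cfsg.Lie.ChevalleyDatum

/-- a word for the power `θ ^ 3` -/
def chain2 : List (Fin 4 × Mat 4) := [
    (0, ![![1, 2, 1, 1],
      ![-1, -1, 0, -1],
      ![0, 0, 0, 1],
      ![0, 0, -1, 0]]),
    (1, ![![1, 2, 1, 1],
      ![0, -1, 0, -1],
      ![0, 0, 0, 1],
      ![0, 0, -1, 0]]),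
    (2, ![![1, 1, 1, 1],
      ![0, 0, 0, -1],
      ![0, 1, 0, 1],
      ![0, -1, -1, 0]]),
    (1, ![![1, 1, 0, 1],
      ![0, 0, 0, -1],
      ![0, 1, 1, 1],
      ![0, -1, 0, 0]]),
    (3, ![![1, 1, 0, 1],
      ![0, -1, 0, -1],
      ![0, 1, 1, 1],
      ![0, 1, 0, 0]]),
    (1, ![![1, 1, 0, 0],
      ![0, -1, 0, 0],
      ![0, 1, 1, 0],
      ![0, 1, 0, 1]])]

theorem chain2OK : ChainOK Am chain2 := by decide +kernel

theorem hd2_eq : ∀ j m, hd chain2 j m = ∑ b, (∑ a, Th j a * Th a b) * Th b m := by decide +kernel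

end Cfsg.Agent.H129.DataD4C
end

-- part: H129/TwT
section
/-!
# The cyclic tori of `³D₄(q)` and `²E₆(q)` with their normalizer action (helper129)
-/

set_option autoImplicit false
set_option linter.unusedSectionVars false

namespace Cfsg.Agent.H129.TwT

open CoxeterSystem Cfsg Cfsg.Lie Cfsg.Lie.ChevalleyDatum
open Cfsg.Agent.ChevalleyStructure Cfsg.Agent.ChevalleyStructure.Elts Cfsg.Agent.ChevalleyStructure.CoxeterGeom
  Cfsg.Agent.ChevalleyStructure.CoxeterGeomTypes Cfsg.Agent.ChevalleyStructure.NPerm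
open Cfsg.Agent.Tits.Roots Cfsg.Agent.Tits.Core Cfsg.Agent.Nodes Cfsg.Agent.Nodes.Reps Cfsg.Agent.Nodes.BNOf
  Cfsg.Agent.Nodes.RGDChev Cfsg.Agent.Nodes.Bruhat Cfsg.Agent.Nodes.SubComb Cfsg.Agent.Nodes.Coroot
open Cfsg.Agent.KFacts.RgdField Cfsg.Agent.KFacts.RgdChevCoord Cfsg.Agent.BpExc.TorCent Cfsg.Agent.BpExc.TorChev
open Cfsg.Agent.GpExc.Field Cfsg.Agent.BpExc.Tow Cfsg.Agent.BpExc.TowChev Cfsg.Agent.BpExc.Fr
  Cfsg.Agent.BpExc.LangFr Cfsg.Agent.LangThm Cfsg.Agent.BpExc Cfsg.Agent.H129.TorusChar Cfsg.Agent.H129.TorusCent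
  Cfsg.Agent.H129.TorusTw Cfsg.Agent.H129.TorusMain Cfsg.Agent.H129.TorusUntw Cfsg.Agent.H129.TorAct
  Cfsg.Agent.H129.WData

universe u

section Lin

variable {l : ℕ} {θ : (Fin l → ℤ) →+ (Fin l → ℤ)} {Th : Mat l}

/-- a linear map with the matrix of the square -/
theorem sq_apply (h : Lin θ Th) {φ : (Fin l → ℤ) →+ (Fin l → ℤ)}
    (h2 : ∀ j m, φ (sr j) m = ∑ a, Th j a * Th a m) (x : Fin l → ℤ) : φ x = θ (θ x) := by
  have h3 : ∀ j, φ (sr j) = θ (θ (sr j)) := by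
    intro j
    funext m
    rw [h2, h j, h.apply]
  conv_lhs => rw [IsMC.eq_sum_sr x]
  conv_rhs => rw [IsMC.eq_sum_sr x]
  rw [map_sum, map_sum, map_sum]
  exact Finset.sum_congr rfl fun j _ => by rw [map_zsmul, map_zsmul, map_zsmul, h3]

/-- a linear map with the matrix of the cube -/
theorem cube_apply (h : Lin θ Th) {φ : (Fin l → ℤ) →+ (Fin l → ℤ)}
    (h2 : ∀ j m, φ (sr j) m = ∑ b, (∑ a, Th j a * Th a b) * Th b m) (x : Fin l → ℤ) : φ x = θ (θ (θ x)) := by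
  have h3 : ∀ j, φ (sr j) = θ (θ (θ (sr j))) := by
    intro j
    funext m
    rw [h2, h j, h.apply]
    refine Finset.sum_congr rfl fun b _ => ?_
    rw [h.apply]
  conv_lhs => rw [IsMC.eq_sum_sr x]
  conv_rhs => rw [IsMC.eq_sum_sr x]
  rw [map_sum, map_sum, map_sum, map_sum]
  exact Finset.sum_congr rfl fun j _ => by rw [map_zsmul, map_zsmul, map_zsmul, map_zsmul, h3]

variable {V B : Mat l} {c : Fin l → ℤ} (h : Cyc l θ V B c)

include h

theorem dvd_sq (q : ℤ) (x : Fin l → ℤ) : fN c q ∣ Gq B q (θ (θ x)) - q ^ 2 * Gq B q x := by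
  have h1 := h.dvd_G q (θ x)
  have h2 := (h.dvd_G q x).mul_left q
  have e : Gq B q (θ (θ x)) - q ^ 2 * Gq B q x =
      (Gq B q (θ (θ x)) - q * Gq B q (θ x)) + q * (Gq B q (θ x) - q * Gq B q x) := by ring
  rw [e]
  exact dvd_add h1 h2

theorem dvd_cube (q : ℤ) (x : Fin l → ℤ) : fN c q ∣ Gq B q (θ (θ (θ x))) - q ^ 3 * Gq B q x := by
  have h1 := h.dvd_G q (θ (θ x))
  have h2 := (dvd_sq h q x).mul_left q
  have e : Gq B q (θ (θ (θ x))) - q ^ 3 * Gq B q x =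
      (Gq B q (θ (θ (θ x))) - q * Gq B q (θ (θ x))) + q * (Gq B q (θ (θ x)) - q ^ 2 * Gq B q x) := by ring
  rw [e]
  exact dvd_add h1 h2

end Lin

/-- **The cyclic tori of `³D₄(q)`.** -/
theorem tri_T {K : Type u} [Field K] [Fintype K] {q : ℕ} (hq : IsPrimePow q) (hK : Fintype.card K = q ^ 3)
    {A : Mat 4} (hA : ∀ i j, A i j = cartanOf chevD4 4 i j)
    {L : List (Fin 4 × Mat 4)} (hL : ChainOK A L) {Th : Mat 4}
    (hT : ∀ j, hd L ((![2, 1, 3, 0] : Fin 4 → Fin 4) j) = Th j)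
    {V B : Mat 4} {c : Fin 4 → ℤ} (hcyc : CycOK 4 Th V B c) {m : ℕ} {R : Fin m → Fin 4 → ℤ}
    {prv dep : ℕ → ℕ} (hR : RootOK chevD4 4 Th R prv dep) {L2 : List (Fin 4 × Mat 4)} (hL2 : ChainOK A L2)
    (hT2 : ∀ j m, hd L2 j m = ∑ b, (∑ a, Th j a * Th a b) * Th b m) {N : ℕ} (hfN : fN c (q : ℤ) = N)
    (hqN : q.Coprime N) :
    ∃ T : Subgroup ↥(twistedD4 K q), IsCyclic ↥T ∧ Nat.card ↥T = N ∧
      (∀ r : ℕ, r.Prime → ¬ r ∣ Nat.card coxeterD4.Group → (∀ s, ¬ (r : ℤ) ∣ Gq B (q : ℤ) (R s)) →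
        ∀ y ∈ T, orderOf y = r → Subgroup.centralizer {y} ≤ T) ∧
      (∀ r : ℕ, r.Prime → r ∣ N → ¬ r ∣ Nat.card coxeterD4.Group → (∀ s, ¬ (r : ℤ) ∣ Gq B (q : ℤ) (R s)) →
        ∃ y : ↥(twistedD4 K q), ∀ b ∈ T, y * b ^ (q ^ 3) * y⁻¹ = b) := by
  obtain ⟨p, e', hpF, hpc, hpk, -, hpe, hk⟩ := exists_closure hK
  obtain ⟨p', e, hp', he, hqe'⟩ := id hq
  have hpp : p' = p := by
    have h1 : p' ∣ p ^ e' := by
      rw [← hpe, ← hqe']
      exact dvd_pow (dvd_pow_self p' he.ne') (by norm_num)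
    exact (Nat.prime_dvd_prime_iff_eq hp'.nat_prime hpF.out).1 (hp'.nat_prime.dvd_of_dvd_pow h1)
  subst hpp
  obtain rfl : q = p' ^ e := hqe'.symm
  have hpN : ¬ p' ∣ N := fun h1 => by
    have h2 : p' ∣ Nat.gcd (p' ^ e) N := Nat.dvd_gcd (dvd_pow_self p' he.ne') h1
    rw [hqN] at h2
    exact hpF.out.one_lt.ne' (Nat.dvd_one.1 h2)
  have hlin := TwD4Cyc.lin_tri coxeterD4.toCoxeterSystem hA hL hT
  have hc := cyc_of hlin hcyc
  obtain ⟨T, h1, h2, h3, h4, h5, -⟩ := exists_T (k := AlgebraicClosure K) (hp := RGDTwD4.hp)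
    (cs := coxeterD4.toCoxeterSystem) (by norm_num) hk
    (hN := nsys_of_locFin RGDTwD4.hp coxeterD4.toCoxeterSystem hk p') he TriD4.isFrob_tau
    (TriD4.fr_tau coxeterD4.toCoxeterSystem) TorusChar.invC_D4 (by norm_num)
    (w := coxeterD4.toCoxeterSystem.wordProd (L.map Prod.fst)) hc hfN hpN
    (e0 := TriD4.embT (algebraMap K (AlgebraicClosure K)) hq hK) (TriD4.embT_injective _ hq hK)
    (TriD4.tau_embT _ rfl hq hK) (d := 1) (fun y hy => by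
      rw [pow_one]
      exact TriD4.tau_range _ rfl hq hK hy)
  rw [one_mul] at h3
  have hcard : Nat.card ↥T = N := Nat.dvd_antisymm h2 h3
  have hgood : ∀ r : ℕ, r.Prime → r ∣ N → (∀ s, ¬ (r : ℤ) ∣ Gq B ((p' ^ e : ℕ) : ℤ) (R s)) →
      ∀ a, IsRoot coxeterD4.toCoxeterSystem RGDTwD4.hp.isCartan a → ¬ (r : ℤ) ∣ Gq B ((p' ^ e : ℕ) : ℤ) a :=
    fun r hr hrN hG a ha => not_dvd_G RGDTwD4.hp coxeterD4.toCoxeterSystem hlin hc hR hfN hr hrN hqN hG ha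
  refine ⟨T, h1, hcard, ?_, ?_⟩
  · intro r hr hrW hG y hy hyr
    have hrN : r ∣ N := by
      rw [← hyr, ← hcard]
      have := orderOf_dvd_natCard (⟨y, hy⟩ : ↥T)
      rwa [Subgroup.orderOf_mk] at this
    exact h4 r hr hrW (hgood r hr hrN hG) y hy hyr
  · intro r hr hrN hrW hG
    have hcube : ∀ x, rep coxeterD4.toCoxeterSystem RGDTwD4.hp.isCartan
        (coxeterD4.toCoxeterSystem.wordProd (L2.map Prod.fst)) x =
        theta RGDTwD4.hp coxeterD4.toCoxeterSystem (coxeterD4.toCoxeterSystem.wordProd (L.map Prod.fst)) TriD4.tri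
          (theta RGDTwD4.hp coxeterD4.toCoxeterSystem (coxeterD4.toCoxeterSystem.wordProd (L.map Prod.fst)) TriD4.tri
          (theta RGDTwD4.hp coxeterD4.toCoxeterSystem (coxeterD4.toCoxeterSystem.wordProd (L.map Prod.fst)) TriD4.tri
          x)) := fun x =>
      cube_apply hlin (φ := (rep coxeterD4.toCoxeterSystem RGDTwD4.hp.isCartan
        (coxeterD4.toCoxeterSystem.wordProd (L2.map Prod.fst))).toAddMonoidHom)
        (fun j m => by
          rw [← hT2]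
          exact congrFun (chain_rep RGDTwD4.hp coxeterD4.toCoxeterSystem hA hL2 j) m) x
    obtain ⟨y, hy⟩ := h5 r hr hrN hrW (hgood r hr hrN hG) (coxeterD4.toCoxeterSystem.wordProd (L2.map Prod.fst))
      ((p' ^ e) ^ 3) (fun x => by rw [hcube, hcube]) (fun x => by
        rw [hcube, ← hfN]
        have h6 := dvd_cube hc ((p' ^ e : ℕ) : ℤ) x
        push_cast at h6 ⊢
        exact h6)
    exact ⟨y, fun b hb => by
      have h6 := hy b hb
      rwa [pow_one] at h6⟩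

theorem card_W6 : Nat.card CoxeterMatrix.E₆.Group = 51840 :=
  Cfsg.Agent.S1093.result (⟨6, CoxeterMatrix.E₆⟩, 51840) (by simp)

theorem finite_W6 : Finite CoxeterMatrix.E₆.Group := Nat.finite_of_card_ne_zero (by rw [card_W6]; norm_num)

theorem lin_flip {W : Type*} [Group W] (cs : CoxeterSystem CoxeterMatrix.E₆ W) {A : Mat 6}
    (hA : ∀ i j, A i j = cartanOf chevE6 6 i j)
    {L : List (Fin 6 × Mat 6)} (hL : ChainOK A L) {Th : Mat 6}
    (hT : ∀ j, hd L ((![5, 1, 4, 3, 2, 0] : Fin 6 → Fin 6) j) = Th j) :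
    Lin (theta RGDTwE6.hp cs (cs.wordProd (L.map Prod.fst)) TwE6Fr.flip6) Th := by
  intro j
  rw [theta_apply]
  have h1 : TwE6Fr.flip6 (sr j) = sr ((![5, 1, 4, 3, 2, 0] : Fin 6 → Fin 6) j) := funext (TwE6Fr.flip_sr j)
  rw [h1, chain_rep RGDTwE6.hp cs hA hL, hT]

/-- **The cyclic tori of `²E₆(q)`.** -/
theorem flip_T {K : Type u} [Field K] [Fintype K] {q : ℕ} (hq : IsPrimePow q) (hK : Fintype.card K = q ^ 2)
    {A : Mat 6} (hA : ∀ i j, A i j = cartanOf chevE6 6 i j)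
    {L : List (Fin 6 × Mat 6)} (hL : ChainOK A L) {Th : Mat 6}
    (hT : ∀ j, hd L ((![5, 1, 4, 3, 2, 0] : Fin 6 → Fin 6) j) = Th j)
    {V B : Mat 6} {c : Fin 6 → ℤ} (hcyc : CycOK 6 Th V B c) {m : ℕ} {R : Fin m → Fin 6 → ℤ}
    {prv dep : ℕ → ℕ} (hR : RootOK chevE6 6 Th R prv dep) {L2 : List (Fin 6 × Mat 6)} (hL2 : ChainOK A L2)
    (hT2 : ∀ j m, hd L2 j m = ∑ a, Th j a * Th a m) {N : ℕ} (hfN : fN c (q : ℤ) = N)
    (hqN : q.Coprime N) :
    ∃ T : Subgroup ↥(twistedE6 K q), IsCyclic ↥T ∧ Nat.card ↥T ∣ N ∧ N ∣ Nat.gcd 3 (q + 1) * Nat.card ↥T ∧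
      (∀ r : ℕ, r.Prime → ¬ r ∣ Nat.card CoxeterMatrix.E₆.Group → (∀ s, ¬ (r : ℤ) ∣ Gq B (q : ℤ) (R s)) →
        ∀ y ∈ T, orderOf y = r → Subgroup.centralizer {y} ≤ T) ∧
      (∀ r : ℕ, r.Prime → r ∣ N → ¬ r ∣ Nat.card CoxeterMatrix.E₆.Group → (∀ s, ¬ (r : ℤ) ∣ Gq B (q : ℤ) (R s)) →
        ∃ y : ↥(twistedE6 K q), ∀ b ∈ T, y * b ^ ((q ^ 2) ^ Nat.gcd 3 (q + 1)) * y⁻¹ = b) := by
  have := finite_W6
  obtain ⟨p, e', hpF, hpc, hpk, -, hpe, hk⟩ := exists_closure hK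
  obtain ⟨p', e, hp', he, hqe'⟩ := id hq
  have hpp : p' = p := by
    have h1 : p' ∣ p ^ e' := by
      rw [← hpe, ← hqe']
      exact dvd_pow (dvd_pow_self p' he.ne') (by norm_num)
    exact (Nat.prime_dvd_prime_iff_eq hp'.nat_prime hpF.out).1 (hp'.nat_prime.dvd_of_dvd_pow h1)
  subst hpp
  obtain rfl : q = p' ^ e := hqe'.symm
  have hpN : ¬ p' ∣ N := fun h1 => by
    have h2 : p' ∣ Nat.gcd (p' ^ e) N := Nat.dvd_gcd (dvd_pow_self p' he.ne') h1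
    rw [hqN] at h2
    exact hpF.out.one_lt.ne' (Nat.dvd_one.1 h2)
  have hlin := lin_flip CoxeterMatrix.E₆.toCoxeterSystem hA hL hT
  have hc := cyc_of hlin hcyc
  obtain ⟨T, h1, h2, h3, h4, h5, -⟩ := exists_T (k := AlgebraicClosure K) (hp := RGDTwE6.hp)
    (cs := CoxeterMatrix.E₆.toCoxeterSystem) (by norm_num) hk
    (hN := nsys_of_locFin RGDTwE6.hp CoxeterMatrix.E₆.toCoxeterSystem hk p') he TwE6Fr.isFrob_tau
    (TwE6Fr.fr_tau CoxeterMatrix.E₆.toCoxeterSystem) TorusChar.invC_E6 (by norm_num)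
    (w := CoxeterMatrix.E₆.toCoxeterSystem.wordProd (L.map Prod.fst)) hc hfN hpN
    (e0 := TwE6Fr.embT (algebraMap K (AlgebraicClosure K)) hq hK) (TwE6Fr.embT_injective _ hq hK)
    (TwE6Fr.tau_embT _ rfl hq hK) (d := Nat.gcd 3 (p' ^ e + 1)) (fun y hy => TwE6Fr.tau_pow _ rfl hq hK hy)
  have hgood : ∀ r : ℕ, r.Prime → r ∣ N → (∀ s, ¬ (r : ℤ) ∣ Gq B ((p' ^ e : ℕ) : ℤ) (R s)) →
      ∀ a, IsRoot CoxeterMatrix.E₆.toCoxeterSystem RGDTwE6.hp.isCartan a →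
        ¬ (r : ℤ) ∣ Gq B ((p' ^ e : ℕ) : ℤ) a :=
    fun r hr hrN hG a ha => not_dvd_G RGDTwE6.hp CoxeterMatrix.E₆.toCoxeterSystem hlin hc hR hfN hr hrN hqN hG ha
  refine ⟨T, h1, h2, h3, ?_, ?_⟩
  · intro r hr hrW hG y hy hyr
    have hrN : r ∣ N := by
      rw [← hyr]
      refine dvd_trans ?_ h2
      have := orderOf_dvd_natCard (⟨y, hy⟩ : ↥T)
      rwa [Subgroup.orderOf_mk] at this
    exact h4 r hr hrW (hgood r hr hrN hG) y hy hyr
  · intro r hr hrN hrW hG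
    have hsq : ∀ x, rep CoxeterMatrix.E₆.toCoxeterSystem RGDTwE6.hp.isCartan
        (CoxeterMatrix.E₆.toCoxeterSystem.wordProd (L2.map Prod.fst)) x =
        theta RGDTwE6.hp CoxeterMatrix.E₆.toCoxeterSystem (CoxeterMatrix.E₆.toCoxeterSystem.wordProd
          (L.map Prod.fst)) TwE6Fr.flip6
        (theta RGDTwE6.hp CoxeterMatrix.E₆.toCoxeterSystem (CoxeterMatrix.E₆.toCoxeterSystem.wordProd
          (L.map Prod.fst)) TwE6Fr.flip6 x) := fun x =>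
      sq_apply hlin (φ := (rep CoxeterMatrix.E₆.toCoxeterSystem RGDTwE6.hp.isCartan
        (CoxeterMatrix.E₆.toCoxeterSystem.wordProd (L2.map Prod.fst))).toAddMonoidHom)
        (fun j m => by
          rw [← hT2]
          exact congrFun (chain_rep RGDTwE6.hp CoxeterMatrix.E₆.toCoxeterSystem hA hL2 j) m) x
    exact h5 r hr hrN hrW (hgood r hr hrN hG) (CoxeterMatrix.E₆.toCoxeterSystem.wordProd (L2.map Prod.fst))
      ((p' ^ e) ^ 2) (fun x => by rw [hsq, hsq]) (fun x => by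
        rw [hsq, ← hfN]
        have h6 := dvd_sq hc ((p' ^ e : ℕ) : ℤ) x
        push_cast at h6 ⊢
        exact h6)

end Cfsg.Agent.H129.TwT
end

private theorem dce_57efa0bcf27a : _root_.True := by
  try have : _root_.True := by simp only [_root_.Cfsg.Agent.H129.TorusMain.theta.congr_simp]
  exact _root_.True.intro
end

-- part: H129/HalfT
section
prune_inst 0x1e0280000000000b00010000000400008c400000062000200000100000000000004000000000000000000000000000000000000000020000a008220000000000000000000000000000000000000000000000000000000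
set_option linter.all false
open scoped Cfsg.Agent.FastGrp

/-!
# The tori of `E₇(q)`, `q` odd (helper129)

* `mul_mem_range` : the image of the finite group has index two in the fixed points of `σ`;
* `half_T` : the cyclic subgroup of order `N / 2`, its centralisers, and an element inverting it.
-/

set_option autoImplicit false
set_option linter.unusedSectionVars false

namespace Cfsg.Agent.H129.HalfT

open CoxeterSystem Cfsg Cfsg.Lie Cfsg.Lie.ChevalleyDatum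
open Cfsg.Agent.ChevalleyStructure Cfsg.Agent.ChevalleyStructure.Elts Cfsg.Agent.ChevalleyStructure.CoxeterGeom
  Cfsg.Agent.ChevalleyStructure.CoxeterGeomTypes Cfsg.Agent.ChevalleyStructure.NPerm
open Cfsg.Agent.Tits.Roots Cfsg.Agent.Tits.Core Cfsg.Agent.Nodes Cfsg.Agent.Nodes.Reps Cfsg.Agent.Nodes.BNOf
  Cfsg.Agent.Nodes.RGDChev Cfsg.Agent.Nodes.Bruhat Cfsg.Agent.Nodes.SubComb Cfsg.Agent.Nodes.Coroot
open Cfsg.Agent.KFacts.RgdField Cfsg.Agent.KFacts.RgdChevCoord Cfsg.Agent.BpExc.TorCent Cfsg.Agent.BpExc.TorChev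
open Cfsg.Agent.GpExc.Field Cfsg.Agent.BpExc.Tow Cfsg.Agent.BpExc.TowChev Cfsg.Agent.BpExc.Fr
  Cfsg.Agent.BpExc.LangFr Cfsg.Agent.LangThm Cfsg.Agent.BpExc Cfsg.Agent.H129.TorusChar Cfsg.Agent.H129.TorusCent
  Cfsg.Agent.H129.TorusTw Cfsg.Agent.H129.TorusMain Cfsg.Agent.H129.TorusUntw Cfsg.Agent.H129.TorAct
  Cfsg.Agent.H129.WData Cfsg.Agent.H129.UntwTwo Cfsg.Agent.H129.StCover
open Cfsg.Agent.ChevalleyStructure.StTorus (eval_eq_one)

universe u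

/-- a subgroup of index at most two -/
theorem mul_mem_of_card {Y : Type*} [Group Y] {R S : Subgroup Y} (hRS : R ≤ S) (hS : Finite ↥S)
    (hc : Nat.card ↥S ≤ 2 * Nat.card ↥R) {a b : Y} (ha : a ∈ S) (hb : b ∈ S) (ha' : a ∉ R) (hb' : b ∉ R) :
    a * b ∈ R := by
  have h1 : Nat.card ↥(R.subgroupOf S) * (R.subgroupOf S).index = Nat.card ↥S := Subgroup.card_mul_index _
  have h2 : Nat.card ↥(R.subgroupOf S) = Nat.card ↥R := Nat.card_congr (Subgroup.subgroupOfEquivOfLe hRS).toEquiv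
  rw [h2] at h1
  have hR0 : 0 < Nat.card ↥R := by
    rw [← h2]; exact Nat.card_pos
  have h3 : (R.subgroupOf S).index ≤ 2 := by
    rw [← h1, mul_comm 2] at hc
    exact Nat.le_of_mul_le_mul_left hc hR0
  have h4 : (R.subgroupOf S).index ≠ 0 := Subgroup.index_ne_zero_of_finite
  have h5 : (R.subgroupOf S).index ≠ 1 := by
    intro h
    apply ha'
    have h6 := Subgroup.index_eq_one.1 h
    have h7 : (⟨a, ha⟩ : ↥S) ∈ R.subgroupOf S := by rw [h6]; trivial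
    exact Subgroup.mem_subgroupOf.1 h7
  have h6 : (R.subgroupOf S).index = 2 := by omega
  have h7 := Subgroup.mul_mem_iff_of_index_two h6 (a := ⟨a, ha⟩) (b := ⟨b, hb⟩)
  have h8 : (⟨a, ha⟩ : ↥S) ∉ R.subgroupOf S := fun h => ha' (Subgroup.mem_subgroupOf.1 h)
  have h9 : (⟨b, hb⟩ : ↥S) ∉ R.subgroupOf S := fun h => hb' (Subgroup.mem_subgroupOf.1 h)
  exact Subgroup.mem_subgroupOf.1 (h7.2 (iff_of_false h8 h9))

section

variable {D : ChevalleyDatum} {l : ℕ} {M : CoxeterMatrix (Fin l)} (hp : IsType D l M)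
  {W : Type*} [Group W] (cs : CoxeterSystem M W) {k : Type u} [Field k] [IsAlgClosed k] {p e : ℕ} [Fact p.Prime]
  [CharP k p] {F : Type u} [Field F] [Fintype F] (f : F →+* k)

/-- the fixed points of the torus -/
def Sfix (D : ChevalleyDatum) (k : Type u) [Field k] (σ : MulAut ↥(D.group k)) : Subgroup ↥(D.group k) where
  carrier := {t | t ∈ TT D k ∧ σ t = t}
  one_mem' := ⟨one_mem _, map_one _⟩
  mul_mem' := fun ha hb => ⟨mul_mem ha.1 hb.1, by rw [map_mul, ha.2, hb.2]⟩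
  inv_mem' := fun ha => ⟨inv_mem ha.1, by rw [map_inv, ha.2]⟩

include hp cs f in
theorem card_Sfix (hq : Fintype.card F = p ^ e) : Finite ↥(Sfix D k (phi D k p e)) ∧
    Nat.card ↥(Sfix D k (phi D k p e)) ≤ (Fintype.card F - 1) ^ l := by
  have h1 : ∀ t : ↥(Sfix D k (phi D k p e)), ∃ b : Fin l → Fˣ, ∀ i, f (b i) = cX hp (t : ↥(D.group k)) (sr i) := by
    intro t
    have h2 : ∀ i : Fin l, ∃ b : Fˣ, f b = cX hp (t : ↥(D.group k)) (sr i) := by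
      intro i
      obtain ⟨b, hb⟩ := fix_cX hp cs f hq t.2.1 t.2.2 (sr i)
      have hb0 : b ≠ 0 := by
        rintro rfl
        rw [map_zero] at hb
        exact (isMC_cX hp t.2.1).ne_zero _ hb.symm
      exact ⟨Units.mk0 b hb0, hb⟩
    choose b hb using h2
    exact ⟨b, hb⟩
  choose b hb using h1
  have hinj : Function.Injective b := by
    intro s t hst
    refine Subtype.ext (cX_inj hp s.2.1 t.2.1 fun i => ?_)
    rw [← hb, ← hb, hst]
  have hfin : Finite (Fin l → Fˣ) := inferInstance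
  refine ⟨Finite.of_injective b hinj, (Nat.card_le_card_of_injective b hinj).trans_eq ?_⟩
  classical
  rw [Nat.card_fun, Nat.card_fin, Nat.card_eq_fintype_card, Fintype.card_units]

include cs in
/-- **The image of the finite group has index two in the fixed points.** -/
theorem mul_mem_range (hq : Fintype.card F = p ^ e)
    (hcard : 2 * Nat.card (D.diagonalSubgroup F) = (Fintype.card F - 1) ^ l) {a b : ↥(D.group k)}
    (ha : phi D k p e a = a) (hb : phi D k p e b = b) (ha' : a ∉ (emb hp.inList f).range)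
    (hb' : b ∉ (emb hp.inList f).range) : a * b ∈ (emb hp.inList f).range := by
  obtain ⟨x, t, ht, rfl⟩ := fix_split hp f hq ha
  obtain ⟨y, s, hs, rfl⟩ := fix_split hp f hq hb
  have hft : phi D k p e t = t := by
    rw [map_mul, phi_emb hp f hq] at ha
    exact mul_left_cancel ha
  have hfs : phi D k p e s = s := by
    rw [map_mul, phi_emb hp f hq] at hb
    exact mul_left_cancel hb
  have ht' : t ∉ (emb hp.inList f).range := fun h => ha' (mul_mem ⟨x, rfl⟩ h)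
  have hs' : s ∉ (emb hp.inList f).range := fun h => hb' (mul_mem ⟨y, rfl⟩ h)
  obtain ⟨hfin, hle⟩ := card_Sfix hp cs f (k := k) hq
  have hRS : (TT D F).map (emb hp.inList f) ≤ Sfix D k (phi D k p e) := by
    rintro _ ⟨y, hy, rfl⟩
    exact ⟨emb_T hp f ⟨y, hy, rfl⟩, phi_emb hp f hq y⟩
  have hR : Nat.card ↥((TT D F).map (emb hp.inList f)) = Nat.card (D.diagonalSubgroup F) := by
    rw [Subgroup.card_map_of_injective (emb_injective hp.inList f)]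
    exact Nat.card_congr (Subgroup.subgroupOfEquivOfLe (diagonal_le_group hp.inList F)).toEquiv
  have h1 : t * s ∈ (TT D F).map (emb hp.inList f) := by
    refine mul_mem_of_card hRS hfin (by rw [hR, hcard]; exact hle) ⟨ht, hft⟩ ⟨hs, hfs⟩ (fun h => ht' ?_)
      (fun h => hs' ?_)
    · obtain ⟨z, -, hz⟩ := h; exact ⟨z, hz⟩
    · obtain ⟨z, -, hz⟩ := h; exact ⟨z, hz⟩
  have h2 : t * s ∈ (emb hp.inList f).range := by
    obtain ⟨z, -, hz⟩ := h1; exact ⟨z, hz⟩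
  have h3 : t * emb hp.inList f y * t⁻¹ ∈ (emb hp.inList f).range :=
    Emb.conj_mem_range (F := F) (hD := hp.inList) (f := f) (φ := iterateFrobenius k p e)
      (fun t => by rw [iterateFrobenius_def, hq]) (σ := phi D k p e) coe_phi hft ⟨y, rfl⟩
  have e1 : emb hp.inList f x * t * (emb hp.inList f y * s) =
      emb hp.inList f x * (t * emb hp.inList f y * t⁻¹) * (t * s) := by group
  rw [e1]
  exact mul_mem (mul_mem ⟨x, rfl⟩ h3) h2

end

section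

variable {D : ChevalleyDatum} {l : ℕ} {M : CoxeterMatrix (Fin l)} (hp : IsType D l M)
  {W : Type*} [Group W] (cs : CoxeterSystem M W)

include hp cs in
/-- **The cyclic tori, `q` odd, centre of order two.** -/
theorem half_T [Finite W] (hl : 0 < l) {F : Type u} [Field F] [Fintype F] {q : ℕ} (hq : Fintype.card F = q)
    {B' : Fin l → Fin l → ℤ} (hB : InvC D l 2 B') (hdq : 2 ∣ q - 1)
    (hPhi : ∃ Φ : (Fin D.rank → (AlgebraicClosure F)ˣ) →* D.SteinbergGroup (AlgebraicClosure F), IsPhi Φ)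
    {kv : Fin D.rank → ℤ} {i0 : Fin D.rank} (hk0 : kv i0 = 1)
    (hkv : ∀ s < D.nroots, (2 : ℤ) ∣ ∑ i : Fin D.rank, kv i * D.cartan i s)
    {Bc : Fin D.rank → Fin D.rank → ℤ}
    (hBc : ∀ i m : Fin D.rank, ∑ j : Fin D.rank, D.cartan i (D.simple j) * Bc j m = if i = m then (2 : ℤ) else 0)
    (hcard : 2 * Nat.card (D.diagonalSubgroup F) = (q - 1) ^ l)
    {v : W} (hv : ∀ x, rep cs hp.isCartan v x = -x)
    {A : Mat l} (hA : ∀ i j, A i j = cartanOf D l i j) {L : List (Fin l × Mat l)} (hL : ChainOK A L)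
    {V B : Mat l} {c : Fin l → ℤ} (hcyc : CycOK l (hd L) V B c) {m : ℕ} {R : Fin m → Fin l → ℤ} {prv dep : ℕ → ℕ}
    (hR : RootOK D l (hd L) R prv dep) {N : ℕ} (hfN : fN c (q : ℤ) = N) (hqN : q.Coprime N) :
    ∃ T : Subgroup ↥(D.group F), IsCyclic ↥T ∧ 2 * Nat.card ↥T = N ∧
      (∀ r : ℕ, r.Prime → ¬ r ∣ Nat.card W → (∀ s, ¬ (r : ℤ) ∣ Gq B (q : ℤ) (R s)) → ∀ y ∈ T, orderOf y = r →
        Subgroup.centralizer {y} ≤ T) ∧
      ((∃ r : ℕ, r.Prime ∧ r ∣ N ∧ ¬ r ∣ Nat.card W ∧ ∀ s, ¬ (r : ℤ) ∣ Gq B (q : ℤ) (R s)) →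
        ∃ y : ↥(D.group F), ∀ b ∈ T, y * b * y⁻¹ = b⁻¹) := by
  have hlin := lin_refl hp cs hA hL
  have hc := cyc_of hlin hcyc
  obtain ⟨p, e, hpF, hpc, hpk, he, rfl, hk⟩ := _root_.Cfsg.Agent.H129.TorusUntw.exists_closure hq
  obtain ⟨Φ, hΦ⟩ := hPhi
  have hpN : ¬ p ∣ N := fun h1 => by
    have h2 : p ∣ Nat.gcd (p ^ e) N := Nat.dvd_gcd (dvd_pow_self p he.ne') h1
    rw [hqN] at h2
    exact hpF.out.one_lt.ne' (Nat.dvd_one.1 h2)
  have hN0 : N ≠ 0 := fun h0 => hpN (by rw [h0]; exact dvd_zero p)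
  have hpd : ¬ p ∣ 2 := fun h1 => by
    have h2 : p = 2 := (Nat.prime_dvd_prime_iff_eq hpF.out Nat.prime_two).1 h1
    subst h2
    have h3 : 2 ∣ 2 ^ e := dvd_pow_self 2 he.ne'
    have h4 : 0 < 2 ^ e := Nat.pow_pos (by norm_num)
    omega
  -- the centre
  have hdk : ((2 : ℕ) : AlgebraicClosure F) ≠ 0 := by
    rw [Ne, CharP.cast_eq_zero_iff (AlgebraicClosure F) p]
    exact hpd
  have : NeZero ((2 : ℕ) : AlgebraicClosure F) := ⟨hdk⟩
  obtain ⟨ζ, hζ⟩ := HasEnoughRootsOfUnity.exists_primitiveRoot (AlgebraicClosure F) 2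
  have hζ0 : ζ ≠ 0 := hζ.ne_zero (by norm_num)
  set ω : (AlgebraicClosure F)ˣ := Units.mk0 ζ hζ0 with hω
  have hωd : ω ^ 2 = 1 := Units.ext (by rw [Units.val_pow_eq_pow_val]; exact hζ.pow_eq_one)
  have hcc : ∀ s < D.nroots, ∏ i : Fin D.rank, (ω ^ kv i) ^ D.cartan i s = 1 := by
    intro s hs
    obtain ⟨a, ha⟩ := hkv s hs
    rw [Finset.prod_congr rfl fun i _ => (zpow_mul ω (kv i) (D.cartan i s)).symm, prod_zpow_sum, ha, zpow_mul]
    have e2 : ω ^ (2 : ℤ) = 1 := by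
      rw [show (2 : ℤ) = ((2 : ℕ) : ℤ) by norm_num, zpow_natCast, hωd]
    rw [e2, one_zpow]
  have hc1 : (fun i => ω ^ kv i : Fin D.rank → (AlgebraicClosure F)ˣ) ≠ 1 := by
    intro h1
    have h2 := congrFun h1 i0
    simp only [hk0, zpow_one, Pi.one_apply] at h2
    have h3 : ζ = 1 := congrArg Units.val h2
    rw [h3] at hζ
    exact absurd (hζ.eq_orderOf.trans orderOf_one) (by norm_num)
  have hfix : ∀ b : Fin D.rank → (AlgebraicClosure F)ˣ, (∀ s < D.nroots, ∏ i : Fin D.rank, b i ^ D.cartan i s = 1) →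
      ∀ i, b i ^ p ^ e = b i := by
    intro b hb i
    have h1 := eval_eq_one (fun i j : Fin D.rank => D.cartan i (D.simple j)) (fun j => Bc j i)
      (fun m => if m = i then (2 : ℤ) else 0) (fun m => hBc m i) b
      (fun j => hb (D.simple j) (simple_lt hp.inList j.2))
    rw [Finset.prod_eq_single i] at h1
    · rw [if_pos rfl, show (2 : ℤ) = ((2 : ℕ) : ℤ) by norm_num, zpow_natCast] at h1
      obtain ⟨a, ha⟩ := hdq
      have h2 : p ^ e = 2 * a + 1 := by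
        have : 0 < p ^ e := Nat.pow_pos hpF.out.pos
        omega
      rw [h2, pow_succ, pow_mul, h1, one_pow, one_mul]
    · intro j _ hj; rw [if_neg hj, zpow_zero]
    · intro hi; exact absurd (Finset.mem_univ _) hi
  have hnsys := nsys_of_locFin hp cs hk p
  set f := algebraMap F (AlgebraicClosure F) with hf
  set w := cs.wordProd (L.map Prod.fst) with hw
  obtain ⟨n, z, t, u, X⟩ := TD.exists_of (hp := hp) (cs := cs) (k := AlgebraicClosure F) (hN := hnsys) (w := w) hl hk he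
    isFrob_phi (fr_phi hp cs) hB two_ne_zero hc hfN hpN
  have hord : orderOf (z * t * z⁻¹) = N := by
    have h3 : z * t * z⁻¹ = MulAut.conj z t := rfl
    rw [h3, ← X.htN]
    exact orderOf_injective (MulAut.conj z).toMonoidHom (MulAut.conj z).injective t
  have hσz : phi D (AlgebraicClosure F) p e z = z * n := by rw [X.hz]; group
  have hσa : phi D (AlgebraicClosure F) p e (z * t * z⁻¹) = z * t * z⁻¹ := by
    rw [map_mul, map_mul, map_inv, hσz]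
    calc z * n * phi D (AlgebraicClosure F) p e t * (z * n)⁻¹ =
        z * (n * phi D (AlgebraicClosure F) p e t * n⁻¹) * z⁻¹ := by group
      _ = z * t * z⁻¹ := by rw [X.hτ]
  have hae : z * t * z⁻¹ ∉ (emb hp.inList f).range :=
    not_mem_range hp cs hΦ f hq hcc hc1 hfix X.hn X.hz X.hgen
  have he0 := emb_injective hp.inList f
  have hgood : ∀ r : ℕ, r.Prime → r ∣ N → (∀ s, ¬ (r : ℤ) ∣ Gq B ((p ^ e : ℕ) : ℤ) (R s)) →
      ∀ a, IsRoot cs hp.isCartan a → ¬ (r : ℤ) ∣ Gq B ((p ^ e : ℕ) : ℤ) a := fun r hr hrN hG a ha =>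
    not_dvd_G hp cs hlin hc hR hfN hr hrN hqN hG ha
  have h2 := card_T0_dvd (a := z * t * z⁻¹) he0
  rw [hord] at h2
  refine ⟨T0 (emb hp.inList f) (z * t * z⁻¹), isCyclic_T0 he0, ?_, ?_, ?_⟩
  · have h1 := dvd_card_T0 he0 (fix_pow_range hp cs f hq hB two_ne_zero hσa)
    have h3 := card_T0_ne he0 hae (by rw [hord]; exact hN0)
    rw [hord] at h1 h3
    obtain ⟨m1, hm1⟩ := h2
    obtain ⟨m2, hm2⟩ := h1
    have h4 : Nat.card ↥(T0 (emb hp.inList f) (z * t * z⁻¹)) ≠ 0 := fun h0 => hN0 (by rw [hm1, h0, zero_mul])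
    have h5 : m1 * m2 = 2 := by
      have h6 : Nat.card ↥(T0 (emb hp.inList f) (z * t * z⁻¹)) * (m1 * m2) =
          Nat.card ↥(T0 (emb hp.inList f) (z * t * z⁻¹)) * 2 := by
        rw [← mul_assoc, ← hm1, ← hm2, mul_comm]
      exact Nat.eq_of_mul_eq_mul_left (Nat.pos_of_ne_zero h4) h6
    have h6 : m1 ∣ 2 := ⟨m2, h5.symm⟩
    rcases (Nat.dvd_prime Nat.prime_two).1 h6 with h7 | h7
    · exfalso
      rw [h7, mul_one] at hm1
      exact h3 hm1.symm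
    · rw [h7] at hm1
      rw [hm1, mul_comm]
  · intro r hr hrW hG y hy hyr
    have hrN : r ∣ N := by
      rw [← hyr]
      refine dvd_trans ?_ h2
      have := orderOf_dvd_natCard (⟨y, hy⟩ : ↥(T0 (emb hp.inList f) (z * t * z⁻¹)))
      rwa [Subgroup.orderOf_mk] at this
    exact X.centralizer_le hk p hN0 he0 (phi_emb hp f hq) hr hrW (hgood r hr hrN hG) hy hyr
  · rintro ⟨r, hr, hrN, hrW, hG⟩
    have hN1 : 1 ≤ N := Nat.pos_of_ne_zero hN0
    obtain ⟨y, hy, hyt⟩ := X.exists_norm hl hk isFrob_phi (fr_phi hp cs) hB two_ne_zero hc hfN hN0 hr hrN hrW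
      (hgood r hr hrN hG) (v := v) (s := N - 1)
      (fun x => by
        rw [hv, hv, map_neg])
      (fun x => by
        have h5 : Gq B ((p ^ e : ℕ) : ℤ) (-x) = - Gq B ((p ^ e : ℕ) : ℤ) x := by
          have h6 := Gq_add B ((p ^ e : ℕ) : ℤ) x (-x)
          rw [add_neg_cancel, Gq_zero] at h6
          linarith only [h6]
        rw [hv, h5, Nat.cast_sub hN1]
        exact ⟨-Gq B ((p ^ e : ℕ) : ℤ) x, by push_cast; ring⟩)
    set a := z * t * z⁻¹ with ha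
    set Y := z * y * z⁻¹ with hY
    have hσY : phi D (AlgebraicClosure F) p e Y = Y := by
      rw [hY, map_mul, map_mul, map_inv, hσz]
      calc z * n * phi D (AlgebraicClosure F) p e y * (z * n)⁻¹ =
          z * (n * phi D (AlgebraicClosure F) p e y * n⁻¹) * z⁻¹ := by group
        _ = z * y * z⁻¹ := by rw [hy]
    have hYa : Y * a * Y⁻¹ = a⁻¹ := by
      have h5 : a ^ (N - 1) = a⁻¹ := by
        rw [eq_inv_iff_mul_eq_one, ← pow_succ, Nat.sub_add_cancel hN1, ← hord, pow_orderOf_eq_one]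
      have h6 : Y * a ^ (N - 1) * Y⁻¹ = a := by
        rw [ha, conj_pow, hY]
        calc z * y * z⁻¹ * (z * t ^ (N - 1) * z⁻¹) * (z * y * z⁻¹)⁻¹ = z * (y * t ^ (N - 1) * y⁻¹) * z⁻¹ := by group
          _ = z * t * z⁻¹ := by rw [hyt]
      rw [h5] at h6
      calc Y * a * Y⁻¹ = (Y * a⁻¹ * Y⁻¹)⁻¹ := by group
        _ = a⁻¹ := by rw [h6]
    -- an inverting element in the image
    have key : ∃ g : ↥(D.group F), emb hp.inList f g * a * (emb hp.inList f g)⁻¹ = a⁻¹ := by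
      by_cases hr1 : Y ∈ (emb hp.inList f).range
      · obtain ⟨g, hg⟩ := hr1
        exact ⟨g, by rw [hg]; exact hYa⟩
      · obtain ⟨g, hg⟩ := mul_mem_range hp cs f hq (by rw [hcard, hq]) hσY hσa hr1 hae
        refine ⟨g, ?_⟩
        rw [hg, ← hYa]
        group
    obtain ⟨g, hg⟩ := key
    refine ⟨g, fun b hb => he0 ?_⟩
    rw [map_mul, map_mul, map_inv, map_inv]
    obtain ⟨j, hj⟩ := hb
    have hj' : a ^ j = emb hp.inList f b := hj
    rw [← hj', ← inv_zpow, ← hg]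
    exact conj_zpow.symm

end

/-! ### the element `-1` of the Weyl group of type `E₇` -/

/-- the cube of the matrix of `θ` -/
def Th3 : Mat 7 := ![![1, 1, 1, 1, 1, 1, 1],
    ![0, 1, 1, 2, 2, 1, 1],
    ![-1, -1, -1, -2, -2, -2, -1],
    ![0, -1, -1, -1, -1, 0, 0],
    ![1, 2, 2, 3, 2, 1, 0],
    ![0, -1, 0, -1, 0, 0, 0],
    ![-1, 0, -1, -1, -1, 0, 0]]

theorem Th3_eq : ∀ j m, Th3 j m = ∑ b, (∑ a, DataE7h.Th j a * DataE7h.Th a b) * DataE7h.Th b m := by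
  decide +kernel

theorem Th9_eq : ∀ j m : Fin 7, (if j = m then (-1 : ℤ) else 0) = ∑ b, (∑ a, Th3 j a * Th3 a b) * Th3 b m := by
  decide +kernel

/-- **`-1` lies in the Weyl group of type `E₇`.** -/
theorem exists_neg {W : Type*} [Group W] (cs : CoxeterSystem CoxeterMatrix.E₇ W)
    (hp : IsType Cfsg.Lie.chevE7 7 CoxeterMatrix.E₇) : ∃ v : W, ∀ x, rep cs hp.isCartan v x = -x := by
  have hlin := lin_refl hp cs DataE7h.hA DataE7h.chainOK
  rw [DataE7h.hd_eq] at hlin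
  set w := cs.wordProd (DataE7h.chain.map Prod.fst) with hw
  set θ := theta hp cs w (AddEquiv.refl (Fin 7 → ℤ)) with hθ
  have hθw : ∀ x, θ x = rep cs hp.isCartan w x := fun x => by
    rw [hθ, theta_apply, AddEquiv.refl_apply]
  let θ3 : (Fin 7 → ℤ) →+ (Fin 7 → ℤ) := (θ.comp θ).comp θ
  have h3 : Lin θ3 Th3 := by
    intro j
    funext m
    show θ (θ (θ (sr j))) m = _
    rw [Th3_eq, hlin j, hlin.apply]
    refine Finset.sum_congr rfl fun b _ => ?_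
    rw [hlin.apply]
  have h9 : ∀ x, -x = θ3 (θ3 (θ3 x)) := by
    intro x
    exact TwT.cube_apply h3 (φ := -(AddMonoidHom.id (Fin 7 → ℤ))) (fun j m => by
      rw [← Th9_eq]
      show -(sr j : Fin 7 → ℤ) m = _
      by_cases hm : j = m
      · subst hm; rw [if_pos rfl, sr_self]
      · rw [if_neg hm, sr_ne (Ne.symm hm), neg_zero]) x
  refine ⟨w * w * w * (w * w * w) * (w * w * w), fun x => ?_⟩
  rw [h9 x]
  simp only [rep_mul_apply]
  show _ = θ (θ (θ (θ (θ (θ (θ (θ (θ x))))))))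
  simp only [hθw]

/-- **The cyclic tori of `E₇(q)`, `q` odd.** -/
theorem half_E7 {F : Type u} [Field F] [Fintype F] {q : ℕ} (hq : Fintype.card F = q) (hodd : Odd q)
    (hp : IsType Cfsg.Lie.chevE7 7 CoxeterMatrix.E₇) [Finite CoxeterMatrix.E₇.Group]
    {A : Mat 7} (hA : ∀ i j, A i j = cartanOf chevE7 7 i j) {L : List (Fin 7 × Mat 7)} (hL : ChainOK A L)
    {V B : Mat 7} {c : Fin 7 → ℤ} (hcyc : CycOK 7 (hd L) V B c) {m : ℕ} {R : Fin m → Fin 7 → ℤ} {prv dep : ℕ → ℕ}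
    (hR : RootOK chevE7 7 (hd L) R prv dep) {N : ℕ} (hfN : fN c (q : ℤ) = N) (hqN : q.Coprime N) :
    ∃ T : Subgroup ↥(chevE7.group F), IsCyclic ↥T ∧ 2 * Nat.card ↥T = N ∧
      (∀ r : ℕ, r.Prime → ¬ r ∣ Nat.card CoxeterMatrix.E₇.Group → (∀ s, ¬ (r : ℤ) ∣ Gq B (q : ℤ) (R s)) →
        ∀ y ∈ T, orderOf y = r → Subgroup.centralizer {y} ≤ T) ∧
      ((∃ r : ℕ, r.Prime ∧ r ∣ N ∧ ¬ r ∣ Nat.card CoxeterMatrix.E₇.Group ∧ ∀ s, ¬ (r : ℤ) ∣ Gq B (q : ℤ) (R s)) →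
        ∃ y : ↥(chevE7.group F), ∀ b ∈ T, y * b * y⁻¹ = b⁻¹) := by
  obtain ⟨v, hv⟩ := exists_neg CoxeterMatrix.E₇.toCoxeterSystem hp
  have hdq : 2 ∣ q - 1 := by
    obtain ⟨m, hm⟩ := hodd
    omega
  have hcard : 2 * Nat.card (chevE7.diagonalSubgroup F) = (q - 1) ^ 7 := by
    have h1 := Cfsg.Agent.S1035.result (F := F) hq (chevE7, Nat.gcd 2 (q - 1)) (by simp only [_root_.List.mem_cons, _root_.Prod.mk.injEq, _root_.Nat.coprime_two_left, _root_.and_true, _root_.List.not_mem_nil, _root_.or_false, _root_.true_or, _root_.or_true])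
    rw [Nat.gcd_eq_left hdq] at h1
    exact h1
  exact half_T hp CoxeterMatrix.E₇.toCoxeterSystem (by norm_num) hq TorusChar.invC_E7 hdq (PhiE.isPhi_E7 _)
    (kv := ![0, 1, 0, 0, 1, 0, 1]) (i0 := ⟨6, by decide⟩) rfl (by (rewrite [Cfsg.Agent.ChevFast.E7.cartan]; decide +kernel))
    (Bc := ![![4, 4, 6, 8, 6, 4, 2], ![4, 7, 8, 12, 9, 6, 3], ![6, 8, 12, 16, 12, 8, 4],
      ![8, 12, 16, 24, 18, 12, 6], ![6, 9, 12, 18, 15, 10, 5], ![4, 6, 8, 12, 10, 8, 4],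
      ![2, 3, 4, 6, 5, 4, 3]]) (by (rewrite [Cfsg.Agent.ChevFast.E7.cartan]; decide +kernel)) hcard hv hA hL hcyc hR hfN hqN

end Cfsg.Agent.H129.HalfT
end

-- part: H129/RealE7
section
set_option linter.all false
open scoped Cfsg.Agent.FastGrp

/-!
# Real elements of odd prime order with centraliser of odd order in `E₇(q)` (helper129)
-/

set_option autoImplicit false
set_option linter.unusedSectionVars false

namespace Cfsg.Agent.H129.RealT

open Cfsg Cfsg.Agent.H129 Cfsg.Agent.Nodes.RGDChev Cfsg.Agent.H129.TorusTw Cfsg.Agent.H101.RO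

/-- a prime divisor different from `2` and `3` -/
theorem exists_prime_of {P : ℕ} (h2 : ¬ 2 ∣ P) (h9 : ¬ 9 ∣ P) (h3 : 3 < P) :
    ∃ r : ℕ, r.Prime ∧ r ∣ P ∧ r ≠ 2 ∧ r ≠ 3 := by
  by_contra hno
  push Not at hno
  have h1 : ∀ r : ℕ, r.Prime → r ∣ P → r = 3 := fun r hr hrq => by
    refine hno r hr hrq ?_
    rintro rfl
    exact h2 hrq
  have h4 : P = 3 ^ P.primeFactorsList.length :=
    Nat.eq_prime_pow_of_unique_prime_dvd (by omega) fun {d} hd hd' => h1 d hd hd'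
  have h5 : P.primeFactorsList.length < 2 := by
    by_contra h6
    have h6' : 2 ≤ P.primeFactorsList.length := by omega
    apply h9
    rw [h4]
    exact pow_dvd_pow 3 h6'
  have h7 : 3 ^ P.primeFactorsList.length ≤ 3 := by
    interval_cases P.primeFactorsList.length <;> norm_num
  omega

theorem coprime_of_neg {q N : ℕ} {a : ℤ} (h : (N : ℤ) = q * a - 1) : q.Coprime N := by
  rw [← Nat.isCoprime_iff_coprime]
  exact ⟨a, -1, by rw [h]; ring⟩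

/-- the reduction of a divisibility modulo `n` -/
theorem zmod_of_dvd {n N : ℕ} {z : ℤ} (hN : (N : ℤ) = z) (h : n ∣ N) : ((z : ℤ) : ZMod n) = 0 := by
  have h1 := Int.natCast_dvd_natCast.2 h
  rw [hN] at h1
  exact (ZMod.intCast_zmod_eq_zero_iff_dvd _ n).2 h1

/-- a good prime divisor of `Φ₁₈(q)` -/
theorem exists_prime18 {q : ℕ} (hq : 2 ≤ q) : ∃ r : ℕ, r.Prime ∧ r ∣ q ^ 6 - q ^ 3 + 1 ∧
    (r : ℤ) ∣ 1 - (q : ℤ) ^ 3 + (q : ℤ) ^ 6 ∧ r ≠ 2 ∧ r ≠ 3 ∧ r ≠ 5 ∧ r ≠ 7 := by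
  have h0 : q ^ 3 ≤ q ^ 6 := Nat.pow_le_pow_right (by omega) (by norm_num)
  have hN : ((q ^ 6 - q ^ 3 + 1 : ℕ) : ℤ) = 1 - (q : ℤ) ^ 3 + (q : ℤ) ^ 6 := by
    push_cast [Nat.cast_sub h0]; ring
  have hz : ∀ n : ℕ, n ∣ q ^ 6 - q ^ 3 + 1 → (1 - (q : ZMod n) ^ 3 + (q : ZMod n) ^ 6 = 0) := by
    intro n h
    have := zmod_of_dvd hN h
    push_cast at this
    exact this
  have h2 : ¬ 2 ∣ q ^ 6 - q ^ 3 + 1 := by
    intro h
    have h3 := hz 2 h
    generalize (q : ZMod 2) = x at h3; revert h3; revert x; decide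
  have h9 : ¬ 9 ∣ q ^ 6 - q ^ 3 + 1 := by
    intro h
    have h3 := hz 9 h
    generalize (q : ZMod 9) = x at h3; revert h3; revert x; decide
  have h3 : 3 < q ^ 6 - q ^ 3 + 1 := by
    have h4 : 8 ≤ q ^ 3 := by
      calc 8 = 2 ^ 3 := by norm_num
        _ ≤ q ^ 3 := Nat.pow_le_pow_left hq 3
    have h5 : q ^ 6 = q ^ 3 * q ^ 3 := by ring
    have h6 : 8 * q ^ 3 ≤ q ^ 3 * q ^ 3 := Nat.mul_le_mul_right _ h4
    omega
  obtain ⟨r, hr, hrN, hr2, hr3⟩ := exists_prime_of h2 h9 h3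
  refine ⟨r, hr, hrN, by rw [← hN]; exact Int.natCast_dvd_natCast.2 hrN, hr2, hr3, ?_, ?_⟩
  · rintro rfl
    have h3 := hz 5 hrN
    generalize (q : ZMod 5) = x at h3; revert h3; revert x; decide
  · rintro rfl
    have h3 := hz 7 hrN
    generalize (q : ZMod 7) = x at h3; revert h3; revert x; decide

/-- a good prime divisor of `Φ₉(q)` -/
theorem exists_prime9 {q : ℕ} (hq : 2 ≤ q) : ∃ r : ℕ, r.Prime ∧ r ∣ q ^ 6 + q ^ 3 + 1 ∧
    (r : ℤ) ∣ 1 + (q : ℤ) ^ 3 + (q : ℤ) ^ 6 ∧ r ≠ 2 ∧ r ≠ 3 ∧ r ≠ 5 ∧ r ≠ 7 := by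
  have hN : ((q ^ 6 + q ^ 3 + 1 : ℕ) : ℤ) = 1 + (q : ℤ) ^ 3 + (q : ℤ) ^ 6 := by
    push_cast; ring
  have hz : ∀ n : ℕ, n ∣ q ^ 6 + q ^ 3 + 1 → (1 + (q : ZMod n) ^ 3 + (q : ZMod n) ^ 6 = 0) := by
    intro n h
    have := zmod_of_dvd hN h
    push_cast at this
    exact this
  have h2 : ¬ 2 ∣ q ^ 6 + q ^ 3 + 1 := by
    intro h
    have h3 := hz 2 h
    generalize (q : ZMod 2) = x at h3; revert h3; revert x; decide
  have h9 : ¬ 9 ∣ q ^ 6 + q ^ 3 + 1 := by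
    intro h
    have h3 := hz 9 h
    generalize (q : ZMod 9) = x at h3; revert h3; revert x; decide
  have h3 : 3 < q ^ 6 + q ^ 3 + 1 := by
    have h4 : 8 ≤ q ^ 3 := by
      calc 8 = 2 ^ 3 := by norm_num
        _ ≤ q ^ 3 := Nat.pow_le_pow_left hq 3
    omega
  obtain ⟨r, hr, hrN, hr2, hr3⟩ := exists_prime_of h2 h9 h3
  refine ⟨r, hr, hrN, by rw [← hN]; exact Int.natCast_dvd_natCast.2 hrN, hr2, hr3, ?_, ?_⟩
  · rintro rfl
    have h3 := hz 5 hrN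
    generalize (q : ZMod 5) = x at h3; revert h3; revert x; decide
  · rintro rfl
    have h3 := hz 7 hrN
    generalize (q : ZMod 7) = x at h3; revert h3; revert x; decide

/-- The criterion with an inverting element. -/
theorem of_inv {G : Type*} [Group G] [Finite G] {T : Subgroup G} (hc : IsCyclic ↥T) {r : ℕ} (hr : r.Prime)
    (hr2 : r ≠ 2) (hrT : r ∣ Nat.card ↥T) (hodd : Odd (Nat.card ↥T))
    (hcent : ∀ y ∈ T, orderOf y = r → Subgroup.centralizer {y} ≤ T)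
    (hact : ∃ y : G, ∀ b ∈ T, y * b * y⁻¹ = b⁻¹) : RealOdd G := by
  have hrf : Fact r.Prime := ⟨hr⟩
  obtain ⟨⟨x, hx⟩, hxr⟩ := exists_prime_orderOf_dvd_card' (G := ↥T) r hrT
  rw [Subgroup.orderOf_mk] at hxr
  obtain ⟨y, hy⟩ := hact
  refine ⟨x, r, 1, hr, hr2, le_rfl, by rw [pow_one, hxr], ?_, ?_⟩
  · rw [isConj_iff]
    exact ⟨y, hy x hx⟩
  · have h1 := centralizer_eq hc hcent hx hxr
    rw [h1]
    exact hodd

universe u

variable {F : Type u} [Field F] [Fintype F]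

theorem sq_surj {F : Type*} [Field F] [Fintype F] {q : ℕ} (hF : Fintype.card F = q) (h : Even q) :
    ∀ a : F, ∃ b : F, b ^ 2 = a := by
  intro a
  by_cases ha : a = 0
  · exact ⟨0, by rw [ha]; exact zero_pow (by norm_num)⟩
  · have h1 : (Nat.card Fˣ).Coprime 2 := by
      rw [Nat.card_units, Nat.card_eq_fintype_card, hF]
      refine ((Nat.Prime.coprime_iff_not_dvd Nat.prime_two).2 ?_).symm
      have : 1 < Fintype.card F := Fintype.one_lt_card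
      obtain ⟨m, hm⟩ := h
      omega
    obtain ⟨b, hb⟩ := (powCoprime h1).surjective (Units.mk0 a ha)
    refine ⟨b, ?_⟩
    have h2 := congrArg Units.val hb
    rw [powCoprime_apply, Units.val_pow_eq_pow_val] at h2
    exact h2

theorem cardW_E7 : Nat.card CoxeterMatrix.E₇.Group = 2903040 :=
  Cfsg.Agent.S1093.result (⟨7, CoxeterMatrix.E₇⟩, 2903040) (by simp)

theorem not_dvd_W7 {r : ℕ} (hr : r.Prime) (h2 : r ≠ 2) (h3 : r ≠ 3) (h5 : r ≠ 5) (h7 : r ≠ 7) :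
    ¬ r ∣ Nat.card CoxeterMatrix.E₇.Group := by
  rw [cardW_E7, show (2903040 : ℕ) = 2 ^ 10 * 3 ^ 4 * 5 ^ 1 * 7 ^ 1 by norm_num]
  exact not_dvd_of hr h2 h3 h5 h7

/-- `E₇(q)`. -/
theorem realOdd_E7 : RealOdd ↥(Cfsg.Lie.chevE7.group F) := by
  obtain ⟨q, hF⟩ : ∃ q, Fintype.card F = q := ⟨_, rfl⟩
  have hq2 : 2 ≤ q := by rw [← hF]; exact Fintype.one_lt_card
  have hp : IsType Cfsg.Lie.chevE7 7 CoxeterMatrix.E₇ := by simp
  have : Finite CoxeterMatrix.E₇.Group := Nat.finite_of_card_ne_zero (by rw [cardW_E7]; norm_num)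
  have h0 : q ^ 3 ≤ q ^ 6 := Nat.pow_le_pow_right (by omega) (by norm_num)
  have hN18 : (((q ^ 6 - q ^ 3 + 1) * (q + 1) : ℕ) : ℤ) =
      1 + (q : ℤ) - (q : ℤ) ^ 3 - (q : ℤ) ^ 4 + (q : ℤ) ^ 6 + (q : ℤ) ^ 7 := by
    push_cast [Nat.cast_sub h0]; ring
  have hN9 : (((q ^ 6 + q ^ 3 + 1) * (q - 1) : ℕ) : ℤ) =
      -1 + (q : ℤ) - (q : ℤ) ^ 3 + (q : ℤ) ^ 4 - (q : ℤ) ^ 6 + (q : ℤ) ^ 7 := by
    push_cast [Nat.cast_sub (show 1 ≤ q by omega)]; ring
  have hodd18 : Odd (q ^ 6 - q ^ 3 + 1) := by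
    refine (Nat.even_sub h0 |>.2 ?_).add_one
    simp [Nat.even_pow]
  have hodd9 : Odd (q ^ 6 + q ^ 3 + 1) := by
    refine (Nat.even_add.2 ?_).add_one
    simp [Nat.even_pow]
  have hq18 : q.Coprime ((q ^ 6 - q ^ 3 + 1) * (q + 1)) :=
    UntwData.coprime_of_eq (a := 1 - (q : ℤ) ^ 2 - (q : ℤ) ^ 3 + (q : ℤ) ^ 5 + (q : ℤ) ^ 6) (by rw [hN18]; ring)
  rcases Nat.even_or_odd q with he | ho
  · -- `q` even
    obtain ⟨r, hr, hr18, hrq, hr2, hr3, hr5, hr7⟩ := exists_prime18 hq2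
    have hrW := not_dvd_W7 hr hr2 hr3 hr5 hr7
    have hG : ∀ s, ¬ (r : ℤ) ∣ Gq DataE7h.B (q : ℤ) (DataE7h.R s) := by
      intro s hs
      rcases DataE7h.dvd_of_G hrq s hs with h1 | h1
      · exact hr.one_lt.ne' (Nat.dvd_one.1 (by exact_mod_cast h1))
      · exact hr3 ((Nat.prime_dvd_prime_iff_eq hr Nat.prime_three).1 (by exact_mod_cast h1))
    obtain ⟨T, h1, h3, h4, h5, h6⟩ := UntwT.untw_T hp CoxeterMatrix.E₇.toCoxeterSystem (by norm_num) hF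
      TorusChar.invC_E7 (by norm_num) DataE7h.hA DataE7h.chainOK DataE7h.cycOK DataE7h.rootOK
      (N := (q ^ 6 - q ^ 3 + 1) * (q + 1))
      (by rw [DataE7h.fN_eq, hN18]) hq18 (d := 1) (Or.inr ⟨rfl, sq_surj hF he⟩)
    refine of_T h1 hr hr2 (dvd_of_dvd_mul hr (hr18.mul_right _) (fun h => hr.one_lt.ne' (Nat.dvd_one.1 h)) h4)
      (odd_of_dvd h3 ?_) (h5 r hr hrW hG) (h6 r hr (hr18.mul_right _) hrW hG) (j := 9) ?_
    · exact Nat.odd_mul.2 ⟨hodd18, he.add_one⟩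
    · have h7 : (r : ℤ) ∣ (((q ^ 1) ^ 9 + 1 : ℕ) : ℤ) := by
        push_cast
        have e : ((q : ℤ) ^ 1) ^ 9 + 1 = (1 - (q : ℤ) ^ 3 + (q : ℤ) ^ 6) * (q ^ 3 + 1) := by ring
        rw [e]
        exact hrq.mul_right _
      exact Int.natCast_dvd_natCast.1 h7
  · have hmod : q % 4 = 1 ∨ q % 4 = 3 := by
      obtain ⟨m, hm⟩ := ho
      omega
    rcases hmod with hm | hm
    · obtain ⟨r, hr, hr18, hrq, hr2, hr3, hr5, hr7⟩ := exists_prime18 hq2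
      have hrW := not_dvd_W7 hr hr2 hr3 hr5 hr7
      have hG : ∀ s, ¬ (r : ℤ) ∣ Gq DataE7h.B (q : ℤ) (DataE7h.R s) := by
        intro s hs
        rcases DataE7h.dvd_of_G hrq s hs with h1 | h1
        · exact hr.one_lt.ne' (Nat.dvd_one.1 (by exact_mod_cast h1))
        · exact hr3 ((Nat.prime_dvd_prime_iff_eq hr Nat.prime_three).1 (by exact_mod_cast h1))
      obtain ⟨T, h1, h3, h5, h6⟩ := HalfT.half_E7 hF ho hp DataE7h.hA DataE7h.chainOK DataE7h.cycOK DataE7h.rootOK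
        (N := (q ^ 6 - q ^ 3 + 1) * (q + 1)) (by rw [DataE7h.fN_eq, hN18]) hq18
      refine of_inv h1 hr hr2 ?_ ?_ (h5 r hr hrW hG) (h6 ⟨r, hr, hr18.mul_right _, hrW, hG⟩)
      · refine dvd_of_dvd_mul hr (hr18.mul_right (q + 1)) (d := 2) (fun h =>
          hr2 ((Nat.prime_dvd_prime_iff_eq hr Nat.prime_two).1 h)) ?_
        rw [h3]
      · obtain ⟨m, hm2⟩ : ∃ m, q + 1 = 2 * (2 * m + 1) := ⟨q / 4, by omega⟩
        have h7 : Nat.card ↥T = (q ^ 6 - q ^ 3 + 1) * (2 * m + 1) := by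
          have h8 : 2 * Nat.card ↥T = 2 * ((q ^ 6 - q ^ 3 + 1) * (2 * m + 1)) := by rw [h3, hm2]; ring
          omega
        rw [h7]
        exact Nat.odd_mul.2 ⟨hodd18, ⟨m, rfl⟩⟩
    · obtain ⟨r, hr, hr9, hrq, hr2, hr3, hr5, hr7⟩ := exists_prime9 hq2
      have hrW := not_dvd_W7 hr hr2 hr3 hr5 hr7
      have hG : ∀ s, ¬ (r : ℤ) ∣ Gq DataE7n.B (q : ℤ) (DataE7n.R s) := by
        intro s hs
        rcases DataE7n.dvd_of_G hrq s hs with h1 | h1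
        · exact hr.one_lt.ne' (Nat.dvd_one.1 (by exact_mod_cast h1))
        · exact hr3 ((Nat.prime_dvd_prime_iff_eq hr Nat.prime_three).1 (by exact_mod_cast h1))
      obtain ⟨T, h1, h3, h5, h6⟩ := HalfT.half_E7 hF ho hp DataE7n.hA DataE7n.chainOK DataE7n.cycOK DataE7n.rootOK
        (N := (q ^ 6 + q ^ 3 + 1) * (q - 1)) (by rw [DataE7n.fN_eq, hN9])
        (coprime_of_neg (a := 1 - (q : ℤ) ^ 2 + (q : ℤ) ^ 3 - (q : ℤ) ^ 5 + (q : ℤ) ^ 6) (by rw [hN9]; ring))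
      refine of_inv h1 hr hr2 ?_ ?_ (h5 r hr hrW hG) (h6 ⟨r, hr, hr9.mul_right _, hrW, hG⟩)
      · refine dvd_of_dvd_mul hr (hr9.mul_right (q - 1)) (d := 2) (fun h =>
          hr2 ((Nat.prime_dvd_prime_iff_eq hr Nat.prime_two).1 h)) ?_
        rw [h3]
      · obtain ⟨m, hm2⟩ : ∃ m, q - 1 = 2 * (2 * m + 1) := ⟨q / 4, by omega⟩
        have h7 : Nat.card ↥T = (q ^ 6 + q ^ 3 + 1) * (2 * m + 1) := by
          have h8 : 2 * Nat.card ↥T = 2 * ((q ^ 6 + q ^ 3 + 1) * (2 * m + 1)) := by rw [h3, hm2]; ring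
          omega
        rw [h7]
        exact Nat.odd_mul.2 ⟨hodd9, ⟨m, rfl⟩⟩

end Cfsg.Agent.H129.RealT
end

-- part: H129/DataTE6c
section
set_option linter.all false
open scoped Cfsg.Agent.FastGrp

/-!
# Data of the torus of order `(q⁴ - q² + 1)(q² - q + 1)` of `²E₆(q)` (helper129)
-/

set_option autoImplicit false

namespace Cfsg.Agent.H129.DataTE6c

open Cfsg.Agent.H129.TorusTw Cfsg.Agent.H129.WData Cfsg.Agent.ChevalleyStructure.CoxeterGeomTypes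
open Cfsg.Lie Cfsg.Lie.ChevalleyDatum

/-- the Cartan matrix -/
def Am : Mat 6 := ![![2, 0, -1, 0, 0, 0],
    ![0, 2, 0, -1, 0, 0],
    ![-1, 0, 2, -1, 0, 0],
    ![0, -1, -1, 2, -1, 0],
    ![0, 0, 0, -1, 2, -1],
    ![0, 0, 0, 0, -1, 2]]

/-- the partial products -/
def chain : List (Fin 6 × Mat 6) := [
    (4, ![![-1, 0, -1, 0, 0, 0],
      ![0, -1, -1, -1, -1, 0],
      ![1, 0, 1, 1, 1, 0],
      ![0, 1, 0, 0, 0, 0],
      ![0, 0, 1, 1, 1, 1],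
      ![0, 0, 0, 0, -1, -1]]),
    (2, ![![-1, 0, -1, 0, 0, 0],
      ![0, -1, -1, -1, 0, 0],
      ![1, 0, 1, 1, 0, 0],
      ![0, 1, 0, 0, 0, 0],
      ![0, 0, 1, 1, 1, 1],
      ![0, 0, 0, 0, 0, -1]]),
    (0, ![![-1, 0, 0, 0, 0, 0],
      ![0, -1, 0, -1, 0, 0],
      ![1, 0, 1, 1, 0, 0],
      ![0, 1, 0, 0, 0, 0],
      ![0, 0, 0, 1, 1, 1],
      ![0, 0, 0, 0, 0, -1]]),
    (3, ![![1, 0, 0, 0, 0, 0],
      ![0, -1, 0, -1, 0, 0],
      ![0, 0, 1, 1, 0, 0],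
      ![0, 1, 0, 0, 0, 0],
      ![0, 0, 0, 1, 1, 1],
      ![0, 0, 0, 0, 0, -1]]),
    (1, ![![1, 0, 0, 0, 0, 0],
      ![0, -1, 0, 0, 0, 0],
      ![0, 0, 1, 0, 0, 0],
      ![0, 1, 0, 1, 0, 0],
      ![0, 0, 0, 0, 1, 1],
      ![0, 0, 0, 0, 0, -1]]),
    (5, ![![1, 0, 0, 0, 0, 0],
      ![0, 1, 0, 0, 0, 0],
      ![0, 0, 1, 0, 0, 0],
      ![0, 0, 0, 1, 0, 0],
      ![0, 0, 0, 0, 1, 1],
      ![0, 0, 0, 0, 0, -1]])]

/-- the permutation of the simple roots -/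
def pi : Fin 6 → Fin 6 := ![5, 1, 4, 3, 2, 0]

/-- the matrix of `θ` -/
def Th : Mat 6 := ![![0, 0, 0, 0, -1, -1],
    ![0, -1, -1, -1, -1, 0],
    ![0, 0, 1, 1, 1, 1],
    ![0, 1, 0, 0, 0, 0],
    ![1, 0, 1, 1, 1, 0],
    ![-1, 0, -1, 0, 0, 0]]

/-- the basis -/
def V : Mat 6 := ![![1, 1, 1, 2, 2, 1],
    ![1, 1, 1, 2, 1, 0],
    ![1, 1, 1, 1, 0, 0],
    ![0, 0, 0, 0, -1, 0],
    ![-1, 0, -1, -1, -1, 0],
    ![-1, -1, -2, -2, -1, 0]]

/-- the coordinates -/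
def B : Mat 6 := ![![0, 0, 1, 0, -1, 1],
    ![0, 0, 1, -1, 1, 0],
    ![0, -1, 0, 0, 0, -1],
    ![0, 1, -1, 1, 0, 0],
    ![0, 0, 0, -1, 0, 0],
    ![1, -1, 0, 1, 0, 0]]

/-- the polynomial -/
def c : Fin 6 → ℤ := ![1, -1, 0, 1, 0, -1]

/-- the representatives of the orbits of `θ` on the roots -/
def R : Fin 6 → Fin 6 → ℤ := ![![-1, -1, -1, -2, -1, -1],
    ![1, 1, 1, 2, 2, 1],
    ![-1, -1, -1, -2, -2, -1],
    ![-1, -1, -1, -1, -1, -1],
    ![-1, -1, -1, -1, -1, 0],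
    ![0, 0, 0, 0, 1, 1]]

/-- the values of the functional on the representatives -/
def G : Fin 6 → Fin 6 → ℤ := ![![-1, 0, 0, -1, 0, 0],
    ![1, 0, 0, 0, 0, 0],
    ![-1, 0, 0, 0, 0, 0],
    ![-1, 1, -1, 0, 0, 0],
    ![0, 0, -1, 1, 0, 0],
    ![1, -1, 0, 0, 0, 0]]

/-- predecessor -/
def prv (r : ℕ) : ℕ := Nat.mod (Nat.shiftRight 0x46452c433b00474235284033253e23302d443c2b193a362941272a18391634263f000a32153d38082113310e2f1d20061e110d2e1c0b031a17240922140700000500000c041b0201 (8 * r)) 256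

/-- depth -/
def dep (r : ℕ) : ℕ := Nat.mod (Nat.shiftRight 0x50403060500060106020204040304090b0705060304080807080a02050907010700030503030a010b090907080a02010a080209080b070b0b0601040a0200000100000506090a0b (8 * r)) 256

theorem hA : ∀ i j, Am i j = cartanOf chevE6 6 i j :=
  H129.RootF.cE6

theorem chainOK : ChainOK Am chain :=
  H129.ChainF.ok H129.ChainF.i6 H129.ChainF.m6 (H129.ChainF.c6 <| H129.ChainF.c6 <| H129.ChainF.c6 <| H129.ChainF.c6 <| H129.ChainF.c6 <| H129.ChainF.c6 <| H129.ChainF.nil) (by decide +kernel)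

theorem hd_pi : ∀ j, hd chain (pi j) = Th j := by decide +kernel

theorem cycOK : CycOK 6 Th V B c :=
  H129.RootF.cyc H129.ChainF.i6 H129.RootF.t6 H129.ChainF.m6 H129.RootF.t6 H129.ChainF.m6 H129.RootF.t6 H129.RootF.r6 (by decide +kernel)

theorem rootOK : RootOK chevE6 6 Th R prv dep :=
  H129.RootF.ok H129.RootF.t6 (H129.RootF.mc H129.RootF.r6 <| H129.RootF.mc H129.RootF.r6 <| H129.RootF.mc H129.RootF.r6 <| H129.RootF.mc H129.RootF.r6 <| H129.RootF.mc H129.RootF.r6 <| H129.RootF.mc H129.RootF.r6 <| H129.RootF.m0) (by decide +kernel)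

theorem coefOK : ∀ s i, ∑ j, R s j * B j i = G s i := by decide +kernel

/-- a word for the power `θ ^ 2` -/
def chain2 : List (Fin 6 × Mat 6) := [
    (4, ![![0, 0, 0, -1, -1, 0],
      ![-1, 0, -1, -1, -1, -1],
      ![0, 1, 1, 2, 2, 1],
      ![0, -1, -1, -1, -1, 0],
      ![1, 1, 2, 2, 1, 0],
      ![0, 0, -1, -1, 0, 0]]),
    (2, ![![0, 0, 0, -1, 0, 0],
      ![-1, 0, -1, -1, -1, -1],
      ![0, 1, 1, 2, 1, 1],
      ![0, -1, -1, -1, 0, 0],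
      ![1, 1, 2, 2, 1, 0],
      ![0, 0, -1, -1, -1, 0]]),
    (0, ![![0, 0, -1, -1, 0, 0],
      ![-1, 0, -1, -1, -1, -1],
      ![0, 1, 1, 2, 1, 1],
      ![0, -1, 0, -1, 0, 0],
      ![1, 1, 1, 2, 1, 0],
      ![0, 0, 0, -1, -1, 0]]),
    (3, ![![-1, 0, -1, -1, 0, 0],
      ![0, 0, -1, -1, -1, -1],
      ![1, 1, 1, 2, 1, 1],
      ![0, -1, 0, -1, 0, 0],
      ![0, 1, 1, 2, 1, 0],
      ![0, 0, 0, -1, -1, 0]]),
    (1, ![![-1, 0, -1, 0, 0, 0],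
      ![0, 0, -1, -1, -1, -1],
      ![1, 1, 1, 1, 1, 1],
      ![0, -1, 0, 0, 0, 0],
      ![0, 1, 1, 1, 1, 0],
      ![0, 0, 0, 0, -1, 0]]),
    (5, ![![-1, 0, -1, 0, 0, 0],
      ![0, -1, -1, -1, -1, -1],
      ![1, 0, 1, 1, 1, 1],
      ![0, 1, 0, 0, 0, 0],
      ![0, 0, 1, 1, 1, 0],
      ![0, 0, 0, 0, -1, 0]]),
    (2, ![![-1, 0, -1, 0, 0, 0],
      ![0, -1, -1, -1, -1, 0],
      ![1, 0, 1, 1, 1, 0],
      ![0, 1, 0, 0, 0, 0],
      ![0, 0, 1, 1, 1, 1],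
      ![0, 0, 0, 0, -1, -1]]),
    (4, ![![-1, 0, 0, 0, 0, 0],
      ![0, -1, 0, -1, -1, 0],
      ![1, 0, 1, 1, 1, 0],
      ![0, 1, 0, 0, 0, 0],
      ![0, 0, 0, 1, 1, 1],
      ![0, 0, 0, 0, -1, -1]]),
    (5, ![![-1, 0, 0, 0, 0, 0],
      ![0, -1, 0, -1, 0, 0],
      ![1, 0, 1, 1, 0, 0],
      ![0, 1, 0, 0, 0, 0],
      ![0, 0, 0, 1, 1, 1],
      ![0, 0, 0, 0, 0, -1]]),
    (3, ![![-1, 0, 0, 0, 0, 0],
      ![0, -1, 0, -1, 0, 0],
      ![1, 0, 1, 1, 0, 0],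
      ![0, 1, 0, 0, 0, 0],
      ![0, 0, 0, 1, 1, 0],
      ![0, 0, 0, 0, 0, 1]]),
    (1, ![![-1, 0, 0, 0, 0, 0],
      ![0, -1, 0, 0, 0, 0],
      ![1, 0, 1, 0, 0, 0],
      ![0, 1, 0, 1, 0, 0],
      ![0, 0, 0, 0, 1, 0],
      ![0, 0, 0, 0, 0, 1]]),
    (0, ![![-1, 0, 0, 0, 0, 0],
      ![0, 1, 0, 0, 0, 0],
      ![1, 0, 1, 0, 0, 0],
      ![0, 0, 0, 1, 0, 0],
      ![0, 0, 0, 0, 1, 0],
      ![0, 0, 0, 0, 0, 1]])]

theorem chain2OK : ChainOK Am chain2 :=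
  H129.ChainF.ok H129.ChainF.i6 H129.ChainF.m6 (H129.ChainF.c6 <| H129.ChainF.c6 <| H129.ChainF.c6 <| H129.ChainF.c6 <| H129.ChainF.c6 <| H129.ChainF.c6 <| H129.ChainF.c6 <| H129.ChainF.c6 <| H129.ChainF.c6 <| H129.ChainF.c6 <| H129.ChainF.c6 <| H129.ChainF.c6 <| H129.ChainF.nil) (by decide +kernel)

theorem hd2_eq : ∀ j m, hd chain2 j m = ∑ a, Th j a * Th a m := by decide +kernel

theorem fN_eq (x : ℤ) : fN c x = 1 - x + x ^ 3 - x ^ 5 + x ^ 6 := by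
  unfold fN c
  simp [Fin.sum_univ_succ]
  ring

theorem G_0 (x : ℤ) : Gq B x (R 0) = -1 - x ^ 3 := by
  rw [Gq_coef B x (R 0) (G 0) (coefOK 0)]
  unfold G
  simp [Fin.sum_univ_succ]
  try ring

theorem bez_0 (x : ℤ) : (1 + x ^ 2) * (1 - x ^ 2 + x ^ 4) + (-1 + x ^ 3) * (-1 - x ^ 3) = 2 := by
  ring

theorem G_1 (x : ℤ) : Gq B x (R 1) = 1 := by
  rw [Gq_coef B x (R 1) (G 1) (coefOK 1)]
  unfold G
  simp [Fin.sum_univ_succ]
  try ring

theorem bez_1 (x : ℤ) : (0) * (1 - x ^ 2 + x ^ 4) + (1) * (1) = 1 := by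
  ring

theorem G_2 (x : ℤ) : Gq B x (R 2) = -1 := by
  rw [Gq_coef B x (R 2) (G 2) (coefOK 2)]
  unfold G
  simp [Fin.sum_univ_succ]
  try ring

theorem bez_2 (x : ℤ) : (0) * (1 - x ^ 2 + x ^ 4) + (-1) * (-1) = 1 := by
  ring

theorem G_3 (x : ℤ) : Gq B x (R 3) = -1 + x - x ^ 2 := by
  rw [Gq_coef B x (R 3) (G 3) (coefOK 3)]
  unfold G
  simp [Fin.sum_univ_succ]
  try ring

theorem bez_3 (x : ℤ) : (x) * (1 - x ^ 2 + x ^ 4) + (-2 - x + x ^ 2 + x ^ 3) * (-1 + x - x ^ 2) = 2 := by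
  ring

theorem G_4 (x : ℤ) : Gq B x (R 4) = -x ^ 2 + x ^ 3 := by
  rw [Gq_coef B x (R 4) (G 4) (coefOK 4)]
  unfold G
  simp [Fin.sum_univ_succ]
  try ring

theorem bez_4 (x : ℤ) : (1) * (1 - x ^ 2 + x ^ 4) + (-1 - x) * (-x ^ 2 + x ^ 3) = 1 := by
  ring

theorem G_5 (x : ℤ) : Gq B x (R 5) = 1 - x := by
  rw [Gq_coef B x (R 5) (G 5) (coefOK 5)]
  unfold G
  simp [Fin.sum_univ_succ]
  try ring

theorem bez_5 (x : ℤ) : (1) * (1 - x ^ 2 + x ^ 4) + (x ^ 2 + x ^ 3) * (1 - x) = 1 := by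
  ring

/-- Common divisors of `f(x)` and the value of `Gq` on a representative. -/
theorem dvd_of_G {x r : ℤ} (h : r ∣ 1 - x ^ 2 + x ^ 4) (s : Fin 6) (hs : r ∣ Gq B x (R s)) :
    r ∣ 1 ∨ r ∣ 2 := by
  have key : ∀ {a b g y : ℤ}, a * (1 - x ^ 2 + x ^ 4) + b * g = y → r ∣ g → r ∣ y := fun e hg => by
    rw [← e]
    exact dvd_add (h.mul_left _) (hg.mul_left _)
  fin_cases s
  · exact Or.inr (key (bez_0 x) (by rw [← G_0]; exact hs))
  · exact Or.inl (key (bez_1 x) (by rw [← G_1]; exact hs))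
  · exact Or.inl (key (bez_2 x) (by rw [← G_2]; exact hs))
  · exact Or.inr (key (bez_3 x) (by rw [← G_3]; exact hs))
  · exact Or.inl (key (bez_4 x) (by rw [← G_4]; exact hs))
  · exact Or.inl (key (bez_5 x) (by rw [← G_5]; exact hs))

end Cfsg.Agent.H129.DataTE6c
end

-- part: H129/RealTw
section
set_option linter.all false
open scoped Cfsg.Agent.FastGrp

/-!
# Real elements of odd prime order in `³D₄(q)` and `²E₆(q)` (helper129)
-/

set_option autoImplicit false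
set_option linter.unusedSectionVars false

namespace Cfsg.Agent.H129.RealTw

open Cfsg Cfsg.Lie Cfsg.Agent.H129 Cfsg.Agent.Nodes.RGDChev Cfsg.Agent.H129.TorusTw Cfsg.Agent.H101.RO
  Cfsg.Agent.H129.RealT

universe u

variable {K : Type u} [Field K] [Fintype K] {q : ℕ}

/-- `³D₄(q)` : the torus of order `q⁴ - q² + 1`. -/
theorem realOdd_D4 (hq : IsPrimePow q) (hK : Fintype.card K = q ^ 3) : RealOdd ↥(twistedD4 K q) := by
  have hq2 : 2 ≤ q := hq.two_le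
  have h0 : q ^ 2 ≤ q ^ 4 := Nat.pow_le_pow_right (by omega) (by norm_num)
  have hN : ((q ^ 4 - q ^ 2 + 1 : ℕ) : ℤ) = 1 - (q : ℤ) ^ 2 + (q : ℤ) ^ 4 := by
    push_cast [Nat.cast_sub h0]; ring
  obtain ⟨r, hr, hrq, hr2, hr3, hr5, hr7⟩ := S2373.exists_prime hq2
  have hrN : r ∣ q ^ 4 - q ^ 2 + 1 := by
    have h1 := hrq
    rw [← hN] at h1
    exact Int.natCast_dvd_natCast.1 h1
  have hrW := TwD4Cyc.not_dvd_W hr hr2 hr3
  have hG : ∀ s, ¬ (r : ℤ) ∣ Gq DataD4C.B (q : ℤ) (DataD4C.R s) := by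
    intro s hs
    have h1 := DataD4C.dvd_of_G hrq s hs
    exact hr.one_lt.ne' (Nat.dvd_one.1 (by exact_mod_cast h1))
  obtain ⟨T, h1, h3, h5, h6⟩ := TwT.tri_T hq hK DataD4C.hA DataD4C.chainOK DataD4C.hd_pi DataD4C.cycOK DataD4C.rootOK
    DataD4C.chain2OK DataD4C.hd2_eq (N := q ^ 4 - q ^ 2 + 1)
    (by rw [DataD4C.fN_eq, hN]) (UntwData.coprime_of_eq (a := -(q : ℤ) + (q : ℤ) ^ 3) (by rw [hN]; ring))
  refine of_T h1 hr hr2 (by rw [h3]; exact hrN) (by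
    rw [h3]
    refine (Nat.even_sub h0 |>.2 ?_).add_one
    simp [Nat.even_pow]) (h5 r hr hrW hG) (h6 r hr hrN hrW hG) (j := 2) ?_
  have h7 : (r : ℤ) ∣ (((q ^ 3) ^ 2 + 1 : ℕ) : ℤ) := by
    push_cast
    have e : ((q : ℤ) ^ 3) ^ 2 + 1 = (1 - (q : ℤ) ^ 2 + (q : ℤ) ^ 4) * (q ^ 2 + 1) := by ring
    rw [e]
    exact hrq.mul_right _
  exact Int.natCast_dvd_natCast.1 h7

/-- `²E₆(q)` : the torus of order `(q⁴ - q² + 1)(q² - q + 1)/(3, q + 1)`. -/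
theorem realOdd_E6 (hq : IsPrimePow q) (hK : Fintype.card K = q ^ 2) : RealOdd ↥(twistedE6 K q) := by
  have hq2 : 2 ≤ q := hq.two_le
  have h0 : q ^ 2 ≤ q ^ 4 := Nat.pow_le_pow_right (by omega) (by norm_num)
  have hle : q ≤ q ^ 2 := by nlinarith
  have hN : (((q ^ 4 - q ^ 2 + 1) * (q ^ 2 - q + 1) : ℕ) : ℤ) =
      1 - (q : ℤ) + (q : ℤ) ^ 3 - (q : ℤ) ^ 5 + (q : ℤ) ^ 6 := by
    push_cast [Nat.cast_sub h0, Nat.cast_sub hle]; ring
  obtain ⟨r, hr, hrq, hr2, hr3, hr5, hr7⟩ := S2373.exists_prime hq2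
  have hr12 : r ∣ q ^ 4 - q ^ 2 + 1 := by
    have hN : ((q ^ 4 - q ^ 2 + 1 : ℕ) : ℤ) = 1 - (q : ℤ) ^ 2 + (q : ℤ) ^ 4 := by
      push_cast [Nat.cast_sub h0]; ring
    have h1 := hrq
    rw [← hN] at h1
    exact Int.natCast_dvd_natCast.1 h1
  have hrW : ¬ r ∣ Nat.card CoxeterMatrix.E₆.Group := by
    rw [TwT.card_W6, show (51840 : ℕ) = 2 ^ 7 * 3 ^ 4 * 5 ^ 1 * 7 ^ 0 by norm_num]
    exact not_dvd_of hr hr2 hr3 hr5 hr7
  have hG : ∀ s, ¬ (r : ℤ) ∣ Gq DataTE6c.B (q : ℤ) (DataTE6c.R s) := by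
    intro s hs
    rcases DataTE6c.dvd_of_G hrq s hs with h1 | h1
    · exact hr.one_lt.ne' (Nat.dvd_one.1 (by exact_mod_cast h1))
    · exact hr2 ((Nat.prime_dvd_prime_iff_eq hr Nat.prime_two).1 (by exact_mod_cast h1))
  have hg : Nat.gcd 3 (q + 1) = 1 ∨ Nat.gcd 3 (q + 1) = 3 :=
    (Nat.dvd_prime Nat.prime_three).1 (Nat.gcd_dvd_left 3 (q + 1))
  obtain ⟨T, h1, h3, h4, h5, h6⟩ := TwT.flip_T hq hK DataTE6c.hA DataTE6c.chainOK DataTE6c.hd_pi DataTE6c.cycOK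
    DataTE6c.rootOK DataTE6c.chain2OK DataTE6c.hd2_eq (N := (q ^ 4 - q ^ 2 + 1) * (q ^ 2 - q + 1))
    (by rw [DataTE6c.fN_eq, hN]) (UntwData.coprime_of_eq (a := -1 + (q : ℤ) ^ 2 - (q : ℤ) ^ 4 + (q : ℤ) ^ 5)
      (by rw [hN]; ring))
  have hrd : ¬ r ∣ Nat.gcd 3 (q + 1) := fun h =>
    hr3 ((Nat.prime_dvd_prime_iff_eq hr Nat.prime_three).1 (h.trans (Nat.gcd_dvd_left _ _)))
  refine of_T h1 hr hr2 (dvd_of_dvd_mul hr (hr12.mul_right _) hrd h4) (odd_of_dvd h3 ?_)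
    (h5 r hr hrW hG) (h6 r hr (hr12.mul_right _) hrW hG) (j := 3 / Nat.gcd 3 (q + 1)) ?_
  · refine Nat.odd_mul.2 ⟨?_, ?_⟩
    · refine (Nat.even_sub h0 |>.2 ?_).add_one
      simp [Nat.even_pow]
    · refine (Nat.even_sub hle |>.2 ?_).add_one
      simp [Nat.even_pow]
  · have h7 : (r : ℤ) ∣ ((q ^ 6 + 1 : ℕ) : ℤ) := by
      push_cast
      have e : (q : ℤ) ^ 6 + 1 = (1 - (q : ℤ) ^ 2 + (q : ℤ) ^ 4) * (q ^ 2 + 1) := by ring
      rw [e]
      exact hrq.mul_right _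
    have h8 := Int.natCast_dvd_natCast.1 h7
    have e2 : ((q ^ 2) ^ Nat.gcd 3 (q + 1)) ^ (3 / Nat.gcd 3 (q + 1)) = q ^ 6 := by
      rcases hg with h | h
      · rw [h]; norm_num; ring
      · rw [h]; norm_num; ring
    rw [e2]
    exact h8

end Cfsg.Agent.H129.RealTw
end
end
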