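import Cfsg.Agent.H129.WData
import Cfsg.Agent.H129.RootFast
import Cfsg.Agent.H129.RealE7_m3
import Cfsg.Agent.H129.DataG2
import Cfsg.Agent.H129.DataF4
import Cfsg.Agent.H129.DataE6n
import Cfsg.Agent.H129.RealT_m3
import Cfsg.Agent.ChevalleyStructure.WeylData
import Cfsg.Agent.ChevFast.E6
import Cfsg.Agent.ChevFast.E8
import Cfsg.Agent.H129.DataTE6n
import Cfsg.Agent.H94.Sp.Base_m3
import Cfsg.Agent.FastGrp
import Cfsg.Agent.Prune
set_option linter.all false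

section
prune_inst 0x7ffeffffeff8bfffffff7e7ffff9dffe1bd5dfffffdffb4bffe8ebffbfbf23163be5fbaf9de0d8ff0ed6e2be30b87813fbffffffef6ffc7ffffdfff45ffbee5ff7ffbf8d71d7bc341ffc6ffffbf17fce7f3fffffffffffffffffffffffffffbeffffffffffff

-- part: H129/DataE8c
section
set_option linter.all false
open scoped Cfsg.Agent.FastGrp

/-!
# Data of the torus of order `Φ₂₄(q)` of `E₈(q)` (helper129)
-/

set_option autoImplicit false

namespace Cfsg.Agent.H129.DataE8c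

open Cfsg.Agent.H129.TorusTw Cfsg.Agent.H129.WData Cfsg.Agent.ChevalleyStructure.CoxeterGeomTypes
open Cfsg.Lie Cfsg.Lie.ChevalleyDatum

/-- the Cartan matrix -/
def Am : Mat 8 := ![![2, 0, -1, 0, 0, 0, 0, 0],
    ![0, 2, 0, -1, 0, 0, 0, 0],
    ![-1, 0, 2, -1, 0, 0, 0, 0],
    ![0, -1, -1, 2, -1, 0, 0, 0],
    ![0, 0, 0, -1, 2, -1, 0, 0],
    ![0, 0, 0, 0, -1, 2, -1, 0],
    ![0, 0, 0, 0, 0, -1, 2, -1],
    ![0, 0, 0, 0, 0, 0, -1, 2]]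

/-- the partial products -/
def chain : List (Fin 8 × Mat 8) := [
    (4, ![![0, 1, 0, 1, 1, 0, 0, 0],
      ![-1, 0, 0, 0, 0, 0, 0, 0],
      ![0, -1, 0, 0, 0, 0, 0, 0],
      ![0, 0, -1, -1, -1, 0, 0, 0],
      ![1, 1, 2, 2, 2, 1, 0, 0],
      ![0, 0, 0, 0, 0, 0, 1, 1],
      ![0, 0, 0, 0, -1, -1, -1, -1],
      ![0, 0, 0, 0, 1, 1, 1, 0]]),
    (0, ![![0, 1, 0, 1, 0, 0, 0, 0],
      ![-1, 0, 0, 0, 0, 0, 0, 0],
      ![0, -1, 0, 0, 0, 0, 0, 0],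
      ![0, 0, -1, -1, 0, 0, 0, 0],
      ![1, 1, 2, 2, 1, 1, 0, 0],
      ![0, 0, 0, 0, 0, 0, 1, 1],
      ![0, 0, 0, 0, 0, -1, -1, -1],
      ![0, 0, 0, 0, 0, 1, 1, 0]]),
    (7, ![![0, 1, 0, 1, 0, 0, 0, 0],
      ![1, 0, 0, 0, 0, 0, 0, 0],
      ![0, -1, 0, 0, 0, 0, 0, 0],
      ![-1, 0, -1, -1, 0, 0, 0, 0],
      ![1, 1, 2, 2, 1, 1, 0, 0],
      ![0, 0, 0, 0, 0, 0, 1, 1],
      ![0, 0, 0, 0, 0, -1, -1, -1],
      ![0, 0, 0, 0, 0, 1, 1, 0]]),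
    (5, ![![0, 1, 0, 1, 0, 0, 0, 0],
      ![1, 0, 0, 0, 0, 0, 0, 0],
      ![0, -1, 0, 0, 0, 0, 0, 0],
      ![-1, 0, -1, -1, 0, 0, 0, 0],
      ![1, 1, 2, 2, 1, 1, 0, 0],
      ![0, 0, 0, 0, 0, 0, 1, 0],
      ![0, 0, 0, 0, 0, -1, -1, 0],
      ![0, 0, 0, 0, 0, 1, 1, 1]]),
    (2, ![![0, 1, 0, 1, 0, 0, 0, 0],
      ![1, 0, 0, 0, 0, 0, 0, 0],
      ![0, -1, 0, 0, 0, 0, 0, 0],
      ![-1, 0, -1, -1, 0, 0, 0, 0],
      ![1, 1, 2, 2, 1, 0, 0, 0],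
      ![0, 0, 0, 0, 0, 1, 1, 0],
      ![0, 0, 0, 0, 0, 0, -1, 0],
      ![0, 0, 0, 0, 0, 0, 1, 1]]),
    (6, ![![0, 1, 1, 1, 0, 0, 0, 0],
      ![1, 0, 1, 0, 0, 0, 0, 0],
      ![0, -1, 0, 0, 0, 0, 0, 0],
      ![-1, 0, -1, -1, 0, 0, 0, 0],
      ![1, 1, 1, 2, 1, 0, 0, 0],
      ![0, 0, 0, 0, 0, 1, 1, 0],
      ![0, 0, 0, 0, 0, 0, -1, 0],
      ![0, 0, 0, 0, 0, 0, 1, 1]]),
    (1, ![![0, 1, 1, 1, 0, 0, 0, 0],
      ![1, 0, 1, 0, 0, 0, 0, 0],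
      ![0, -1, 0, 0, 0, 0, 0, 0],
      ![-1, 0, -1, -1, 0, 0, 0, 0],
      ![1, 1, 1, 2, 1, 0, 0, 0],
      ![0, 0, 0, 0, 0, 1, 0, 0],
      ![0, 0, 0, 0, 0, 0, 1, 0],
      ![0, 0, 0, 0, 0, 0, 0, 1]]),
    (3, ![![0, 0, 1, 1, 0, 0, 0, 0],
      ![1, 0, 1, 0, 0, 0, 0, 0],
      ![0, 1, 0, 0, 0, 0, 0, 0],
      ![-1, -1, -1, -1, 0, 0, 0, 0],
      ![1, 1, 1, 2, 1, 0, 0, 0],
      ![0, 0, 0, 0, 0, 1, 0, 0],
      ![0, 0, 0, 0, 0, 0, 1, 0],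
      ![0, 0, 0, 0, 0, 0, 0, 1]]),
    (1, ![![0, 0, 1, 0, 0, 0, 0, 0],
      ![1, 0, 1, 1, 0, 0, 0, 0],
      ![0, 1, 0, 1, 0, 0, 0, 0],
      ![-1, -1, -1, -1, 0, 0, 0, 0],
      ![1, 1, 1, 1, 1, 0, 0, 0],
      ![0, 0, 0, 0, 0, 1, 0, 0],
      ![0, 0, 0, 0, 0, 0, 1, 0],
      ![0, 0, 0, 0, 0, 0, 0, 1]]),
    (0, ![![0, 0, 1, 0, 0, 0, 0, 0],
      ![1, 1, 1, 1, 0, 0, 0, 0],
      ![0, 0, 0, 1, 0, 0, 0, 0],
      ![-1, 0, -1, -1, 0, 0, 0, 0],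
      ![1, 0, 1, 1, 1, 0, 0, 0],
      ![0, 0, 0, 0, 0, 1, 0, 0],
      ![0, 0, 0, 0, 0, 0, 1, 0],
      ![0, 0, 0, 0, 0, 0, 0, 1]]),
    (2, ![![1, 0, 1, 0, 0, 0, 0, 0],
      ![0, 1, 1, 1, 0, 0, 0, 0],
      ![0, 0, 0, 1, 0, 0, 0, 0],
      ![0, 0, -1, -1, 0, 0, 0, 0],
      ![0, 0, 1, 1, 1, 0, 0, 0],
      ![0, 0, 0, 0, 0, 1, 0, 0],
      ![0, 0, 0, 0, 0, 0, 1, 0],
      ![0, 0, 0, 0, 0, 0, 0, 1]]),
    (3, ![![1, 0, 0, 0, 0, 0, 0, 0],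
      ![0, 1, 0, 1, 0, 0, 0, 0],
      ![0, 0, 1, 1, 0, 0, 0, 0],
      ![0, 0, 0, -1, 0, 0, 0, 0],
      ![0, 0, 0, 1, 1, 0, 0, 0],
      ![0, 0, 0, 0, 0, 1, 0, 0],
      ![0, 0, 0, 0, 0, 0, 1, 0],
      ![0, 0, 0, 0, 0, 0, 0, 1]])]

/-- the matrix of `θ` -/
def Th : Mat 8 := ![![0, 1, 0, 1, 1, 0, 0, 0],
    ![-1, 0, 0, 0, 0, 0, 0, 0],
    ![0, -1, 0, 0, 0, 0, 0, 0],
    ![0, 0, -1, -1, -1, 0, 0, 0],
    ![1, 1, 2, 2, 2, 1, 0, 0],
    ![0, 0, 0, 0, 0, 0, 1, 1],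
    ![0, 0, 0, 0, -1, -1, -1, -1],
    ![0, 0, 0, 0, 1, 1, 1, 0]]

/-- the basis -/
def V : Mat 8 := ![![1, 0, 1, 1, 0, 0, 0, 0],
    ![0, 0, -1, 0, 0, 0, 0, 0],
    ![0, 1, 0, 0, 0, 0, 0, 0],
    ![-1, 0, 0, 0, 0, 0, 0, 0],
    ![0, -1, 0, -1, -1, 0, 0, 0],
    ![0, -1, -1, -1, -1, -1, 0, 0],
    ![0, 0, -1, -1, -1, -1, -1, -1],
    ![-1, 0, -1, -1, -1, -1, -1, 0]]

/-- the coordinates -/
def B : Mat 8 := ![![0, 0, 0, -1, 0, 0, 0, 0],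
    ![0, 0, 1, 0, 0, 0, 0, 0],
    ![0, -1, 0, 0, 0, 0, 0, 0],
    ![1, 1, 0, 1, 0, 0, 0, 0],
    ![-1, -1, -1, -1, -1, 0, 0, 0],
    ![0, 1, 0, 0, 1, -1, 0, 0],
    ![0, 0, 1, 1, 0, 1, 0, -1],
    ![0, 0, 0, -1, 0, 0, -1, 1]]

/-- the polynomial -/
def c : Fin 8 → ℤ := ![1, 0, 0, 0, -1, 0, 0, 0]

/-- the representatives of the orbits of `θ` on the roots -/
def R : Fin 10 → Fin 8 → ℤ := ![![0, 0, 0, 0, 1, 0, 0, 0],
    ![0, 0, 0, 0, 1, 1, 0, 0],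
    ![0, -1, 0, -1, 0, 0, 0, 0],
    ![0, 0, 0, -1, 0, 0, 0, 0],
    ![0, -1, -1, -1, 0, 0, 0, 0],
    ![0, 0, 0, 0, 1, 1, 1, 1],
    ![-1, -1, -1, -1, 0, 0, 0, 0],
    ![0, 0, -1, -1, 0, 0, 0, 0],
    ![-1, -1, -2, -2, -1, -1, 0, 0],
    ![-1, 0, -1, -1, 0, 0, 0, 0]]

/-- the values of the functional on the representatives -/
def G : Fin 10 → Fin 8 → ℤ := ![![-1, -1, -1, -1, -1, 0, 0, 0],
    ![-1, 0, -1, -1, 0, -1, 0, 0],
    ![-1, -1, -1, -1, 0, 0, 0, 0],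
    ![-1, -1, 0, -1, 0, 0, 0, 0],
    ![-1, 0, -1, -1, 0, 0, 0, 0],
    ![-1, 0, 0, -1, 0, 0, -1, 0],
    ![-1, 0, -1, 0, 0, 0, 0, 0],
    ![-1, 0, 0, -1, 0, 0, 0, 0],
    ![-1, 0, 0, 0, 0, 1, 0, 0],
    ![-1, 0, 0, 0, 0, 0, 0, 0]]

/-- predecessor -/
def prv (r : ℕ) : ℕ := Nat.mod (Nat.shiftRight 0xedefece6eedae7dfe8c9e0cbc8cae9ead3e1d5d2d4e3ebe5e2e4d7b6b2b4d9d6d8b5b7b3dcc0bcbededbddbfc1bda09c9e7f817e9fa19d80c6c2c4a6a8a5c5c7c3a78486835c858a8c89618b4662d0ccceabadaacfd1cdac90928f6791afb1aea2b0689597946d964bb9bbb8a3ba00780000999b987b7d757a72745754569a7c7779004c373436a400825b585a87004d413e400088605d5f43221e2045424421231f8da9008e66636500936c696b482c282a4a47492b2d296f004e50716e7051534f322e3012141131332f133c383a1719163b3d39180b0d0a040c1b1d1a0e1c05062527240f26071008150109030002 (8 * r)) 256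

/-- depth -/
def dep (r : ℕ) : ℕ := Nat.mod (Nat.shiftRight 0x607050408050705060307070305080604090805050409080608070403040a0909080805060402020a06090608020703050101010a0b0c080703070304020a0b09080a0e03010c030702010c01030a0609040b020a0b090f0a0b05010c0a0b09040c0e060b02010c010d0b09020c000700000a0b10110b061217050417160c0c130c000e1517010d000d0e1712020010151716000d111716031517160e17101512160f0d000d0e130f000d0f0216141517160e100f130f13140017160d0d0d110f130e14121512160e0e1012111414151516100f1013141214151011111415101214110f13130f121113111410111312 (8 * r)) 256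

theorem hA : ∀ i j, Am i j = cartanOf chevE8 8 i j :=
  H129.RootF.cE8

theorem chainOK : ChainOK Am chain :=
  H129.ChainF.ok H129.ChainF.i8 H129.ChainF.m8 (H129.ChainF.c8 <| H129.ChainF.c8 <| H129.ChainF.c8 <| H129.ChainF.c8 <| H129.ChainF.c8 <| H129.ChainF.c8 <| H129.ChainF.c8 <| H129.ChainF.c8 <| H129.ChainF.c8 <| H129.ChainF.c8 <| H129.ChainF.c8 <| H129.ChainF.c8 <| H129.ChainF.nil) (by decide +kernel)

theorem cycOK : CycOK 8 Th V B c :=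
  H129.RootF.cyc H129.ChainF.i8 H129.RootF.t8 H129.ChainF.m8 H129.RootF.t8 H129.ChainF.m8 H129.RootF.t8 H129.RootF.r8 (by decide +kernel)

theorem rootOK : RootOK chevE8 8 Th R prv dep :=
  H129.RootF.ok H129.RootF.t8 (H129.RootF.mc H129.RootF.r8 <| H129.RootF.mc H129.RootF.r8 <| H129.RootF.mc H129.RootF.r8 <| H129.RootF.mc H129.RootF.r8 <| H129.RootF.mc H129.RootF.r8 <| H129.RootF.mc H129.RootF.r8 <| H129.RootF.mc H129.RootF.r8 <| H129.RootF.mc H129.RootF.r8 <| H129.RootF.mc H129.RootF.r8 <| H129.RootF.mc H129.RootF.r8 <| H129.RootF.m0) (by decide +kernel)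

theorem coefOK : ∀ s i, ∑ j, R s j * B j i = G s i := by decide +kernel

theorem fN_eq (x : ℤ) : fN c x = 1 - x ^ 4 + x ^ 8 := by
  unfold fN c
  simp [Fin.sum_univ_succ]
  ring

theorem G_0 (x : ℤ) : Gq B x (R 0) = -1 - x - x ^ 2 - x ^ 3 - x ^ 4 := by
  rw [Gq_coef B x (R 0) (G 0) (coefOK 0)]
  unfold G
  simp [Fin.sum_univ_succ]
  try ring

theorem bez_0 (x : ℤ) : (-1 - 2 * x - x ^ 2) * (1 - x ^ 4 + x ^ 8) + (-2 + x ^ 2 + x ^ 3 + x ^ 4 - x ^ 5 - x ^ 6) * (-1 - x - x ^ 2 - x ^ 3 - x ^ 4) = 1 := by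
  ring

theorem G_1 (x : ℤ) : Gq B x (R 1) = -1 - x ^ 2 - x ^ 3 - x ^ 5 := by
  rw [Gq_coef B x (R 1) (G 1) (coefOK 1)]
  unfold G
  simp [Fin.sum_univ_succ]
  try ring

theorem bez_1 (x : ℤ) : (1 + x ^ 4) * (1 - x ^ 4 + x ^ 8) + (-1 + x ^ 2 + x ^ 3 - x ^ 4 - x ^ 5 + x ^ 7) * (-1 - x ^ 2 - x ^ 3 - x ^ 5) = 2 := by
  ring

theorem G_2 (x : ℤ) : Gq B x (R 2) = -1 - x - x ^ 2 - x ^ 3 := by
  rw [Gq_coef B x (R 2) (G 2) (coefOK 2)]
  unfold G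
  simp [Fin.sum_univ_succ]
  try ring

theorem bez_2 (x : ℤ) : (1) * (1 - x ^ 4 + x ^ 8) + (-x ^ 4 + x ^ 5) * (-1 - x - x ^ 2 - x ^ 3) = 1 := by
  ring

theorem G_3 (x : ℤ) : Gq B x (R 3) = -1 - x - x ^ 3 := by
  rw [Gq_coef B x (R 3) (G 3) (coefOK 3)]
  unfold G
  simp [Fin.sum_univ_succ]
  try ring

theorem bez_3 (x : ℤ) : (2 - x + 2 * x ^ 2) * (1 - x ^ 4 + x ^ 8) + (-1 + 2 * x ^ 2 - x ^ 3 - x ^ 4 - x ^ 6 + 2 * x ^ 7) * (-1 - x - x ^ 3) = 3 := by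
  ring

theorem G_4 (x : ℤ) : Gq B x (R 4) = -1 - x ^ 2 - x ^ 3 := by
  rw [Gq_coef B x (R 4) (G 4) (coefOK 4)]
  unfold G
  simp [Fin.sum_univ_succ]
  try ring

theorem bez_4 (x : ℤ) : (3 - x - 2 * x ^ 2) * (1 - x ^ 4 + x ^ 8) + (-x - 2 * x ^ 2 + x ^ 3 + 2 * x ^ 5 + x ^ 6 - 2 * x ^ 7) * (-1 - x ^ 2 - x ^ 3) = 3 := by
  ring

theorem G_5 (x : ℤ) : Gq B x (R 5) = -1 - x ^ 3 - x ^ 6 := by
  rw [Gq_coef B x (R 5) (G 5) (coefOK 5)]
  unfold G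
  simp [Fin.sum_univ_succ]
  try ring

theorem bez_5 (x : ℤ) : (x - x ^ 3 + x ^ 4) * (1 - x ^ 4 + x ^ 8) + (-1 + x - x ^ 5 + x ^ 6) * (-1 - x ^ 3 - x ^ 6) = 1 := by
  ring

theorem G_6 (x : ℤ) : Gq B x (R 6) = -1 - x ^ 2 := by
  rw [Gq_coef B x (R 6) (G 6) (coefOK 6)]
  unfold G
  simp [Fin.sum_univ_succ]
  try ring

theorem bez_6 (x : ℤ) : (1) * (1 - x ^ 4 + x ^ 8) + (-x ^ 4 + x ^ 6) * (-1 - x ^ 2) = 1 := by
  ring

theorem G_7 (x : ℤ) : Gq B x (R 7) = -1 - x ^ 3 := by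
  rw [Gq_coef B x (R 7) (G 7) (coefOK 7)]
  unfold G
  simp [Fin.sum_univ_succ]
  try ring

theorem bez_7 (x : ℤ) : (1 - x) * (1 - x ^ 4 + x ^ 8) + (-1 - x + x ^ 3 + x ^ 5 - x ^ 6) * (-1 - x ^ 3) = 2 := by
  ring

theorem G_8 (x : ℤ) : Gq B x (R 8) = -1 + x ^ 5 := by
  rw [Gq_coef B x (R 8) (G 8) (coefOK 8)]
  unfold G
  simp [Fin.sum_univ_succ]
  try ring

theorem bez_8 (x : ℤ) : (-x + x ^ 3 + x ^ 4) * (1 - x ^ 4 + x ^ 8) + (-1 - x + x ^ 3 + x ^ 4 - x ^ 6 - x ^ 7) * (-1 + x ^ 5) = 1 := by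
  ring

theorem G_9 (x : ℤ) : Gq B x (R 9) = -1 := by
  rw [Gq_coef B x (R 9) (G 9) (coefOK 9)]
  unfold G
  simp [Fin.sum_univ_succ]
  try ring

theorem bez_9 (x : ℤ) : (0) * (1 - x ^ 4 + x ^ 8) + (-1) * (-1) = 1 := by
  ring

/-- Common divisors of `f(x)` and the value of `Gq` on a representative. -/
theorem dvd_of_G {x r : ℤ} (h : r ∣ 1 - x ^ 4 + x ^ 8) (s : Fin 10) (hs : r ∣ Gq B x (R s)) :
    r ∣ 1 ∨ r ∣ 2 ∨ r ∣ 3 := by
  have key : ∀ {a b g y : ℤ}, a * (1 - x ^ 4 + x ^ 8) + b * g = y → r ∣ g → r ∣ y := fun e hg => by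
    rw [← e]
    exact dvd_add (h.mul_left _) (hg.mul_left _)
  fin_cases s
  · exact Or.inl (key (bez_0 x) (by rw [← G_0]; exact hs))
  · exact Or.inr (Or.inl (key (bez_1 x) (by rw [← G_1]; exact hs)))
  · exact Or.inl (key (bez_2 x) (by rw [← G_2]; exact hs))
  · exact Or.inr (Or.inr (key (bez_3 x) (by rw [← G_3]; exact hs)))
  · exact Or.inr (Or.inr (key (bez_4 x) (by rw [← G_4]; exact hs)))
  · exact Or.inl (key (bez_5 x) (by rw [← G_5]; exact hs))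
  · exact Or.inl (key (bez_6 x) (by rw [← G_6]; exact hs))
  · exact Or.inr (Or.inl (key (bez_7 x) (by rw [← G_7]; exact hs)))
  · exact Or.inl (key (bez_8 x) (by rw [← G_8]; exact hs))
  · exact Or.inl (key (bez_9 x) (by rw [← G_9]; exact hs))

end Cfsg.Agent.H129.DataE8c
end

-- part: H129/CycT
section
prune_inst 0x10000100240000000000000040001c02a2000000004b00004000000005000c00000006000220000000c000001000004000000000000000000000000000000000000000020000a000000000000000000000000000000000000000000000000000000000000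
set_option linter.all false
open scoped Cfsg.Agent.FastGrp

-- part: H129/DataE8a
section
/-!
# Data of the torus of order `Φ₁₅(q)` of `E₈(q)` (helper129)
-/

set_option autoImplicit false

namespace Cfsg.Agent.H129.DataE8a

open Cfsg.Agent.H129.TorusTw Cfsg.Agent.H129.WData Cfsg.Agent.ChevalleyStructure.CoxeterGeomTypes
open Cfsg.Lie Cfsg.Lie.ChevalleyDatum

/-- the Cartan matrix -/
def Am : Mat 8 := ![![2, 0, -1, 0, 0, 0, 0, 0],
    ![0, 2, 0, -1, 0, 0, 0, 0],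
    ![-1, 0, 2, -1, 0, 0, 0, 0],
    ![0, -1, -1, 2, -1, 0, 0, 0],
    ![0, 0, 0, -1, 2, -1, 0, 0],
    ![0, 0, 0, 0, -1, 2, -1, 0],
    ![0, 0, 0, 0, 0, -1, 2, -1],
    ![0, 0, 0, 0, 0, 0, -1, 2]]

/-- the partial products -/
def chain : List (Fin 8 × Mat 8) := [
    (0, ![![0, 1, 0, 1, 0, 0, 0, 0],
      ![0, 1, 1, 1, 1, 0, 0, 0],
      ![1, 0, 1, 1, 1, 0, 0, 0],
      ![0, 0, 0, 0, 0, 1, 0, 0],
      ![0, 0, 0, 0, 0, 0, 1, 0],
      ![0, 0, 0, 0, 0, 0, 0, 1],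
      ![-1, -1, -1, -1, -1, -1, -1, -1],
      ![0, 0, -1, -1, 0, 0, 0, 0]]),
    (1, ![![0, 1, 0, 1, 0, 0, 0, 0],
      ![1, 1, 1, 1, 1, 0, 0, 0],
      ![0, 0, 1, 1, 1, 0, 0, 0],
      ![0, 0, 0, 0, 0, 1, 0, 0],
      ![0, 0, 0, 0, 0, 0, 1, 0],
      ![0, 0, 0, 0, 0, 0, 0, 1],
      ![0, -1, -1, -1, -1, -1, -1, -1],
      ![-1, 0, -1, -1, 0, 0, 0, 0]]),
    (2, ![![0, 0, 0, 1, 0, 0, 0, 0],
      ![1, 0, 1, 1, 1, 0, 0, 0],
      ![0, 1, 1, 1, 1, 0, 0, 0],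
      ![0, 0, 0, 0, 0, 1, 0, 0],
      ![0, 0, 0, 0, 0, 0, 1, 0],
      ![0, 0, 0, 0, 0, 0, 0, 1],
      ![0, 0, -1, -1, -1, -1, -1, -1],
      ![-1, -1, -1, -1, 0, 0, 0, 0]]),
    (3, ![![0, 0, 1, 1, 0, 0, 0, 0],
      ![1, 0, 1, 1, 1, 0, 0, 0],
      ![0, 1, 0, 1, 1, 0, 0, 0],
      ![0, 0, 0, 0, 0, 1, 0, 0],
      ![0, 0, 0, 0, 0, 0, 1, 0],
      ![0, 0, 0, 0, 0, 0, 0, 1],
      ![0, 0, 0, -1, -1, -1, -1, -1],
      ![-1, -1, -1, -1, 0, 0, 0, 0]]),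
    (4, ![![0, 0, 1, 0, 0, 0, 0, 0],
      ![1, 0, 1, 1, 1, 0, 0, 0],
      ![0, 1, 0, 1, 1, 0, 0, 0],
      ![0, 0, 0, 0, 0, 1, 0, 0],
      ![0, 0, 0, 0, 0, 0, 1, 0],
      ![0, 0, 0, 0, 0, 0, 0, 1],
      ![0, 0, 0, 0, -1, -1, -1, -1],
      ![-1, -1, -1, -1, 0, 0, 0, 0]]),
    (5, ![![0, 0, 1, 0, 0, 0, 0, 0],
      ![1, 0, 1, 1, 0, 0, 0, 0],
      ![0, 1, 0, 1, 0, 0, 0, 0],
      ![0, 0, 0, 0, 1, 1, 0, 0],
      ![0, 0, 0, 0, 0, 0, 1, 0],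
      ![0, 0, 0, 0, 0, 0, 0, 1],
      ![0, 0, 0, 0, 0, -1, -1, -1],
      ![-1, -1, -1, -1, -1, 0, 0, 0]]),
    (6, ![![0, 0, 1, 0, 0, 0, 0, 0],
      ![1, 0, 1, 1, 0, 0, 0, 0],
      ![0, 1, 0, 1, 0, 0, 0, 0],
      ![0, 0, 0, 0, 1, 0, 0, 0],
      ![0, 0, 0, 0, 0, 1, 1, 0],
      ![0, 0, 0, 0, 0, 0, 0, 1],
      ![0, 0, 0, 0, 0, 0, -1, -1],
      ![-1, -1, -1, -1, -1, -1, 0, 0]]),
    (7, ![![0, 0, 1, 0, 0, 0, 0, 0],
      ![1, 0, 1, 1, 0, 0, 0, 0],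
      ![0, 1, 0, 1, 0, 0, 0, 0],
      ![0, 0, 0, 0, 1, 0, 0, 0],
      ![0, 0, 0, 0, 0, 1, 0, 0],
      ![0, 0, 0, 0, 0, 0, 1, 1],
      ![0, 0, 0, 0, 0, 0, 0, -1],
      ![-1, -1, -1, -1, -1, -1, -1, 0]]),
    (0, ![![0, 0, 1, 0, 0, 0, 0, 0],
      ![1, 0, 1, 1, 0, 0, 0, 0],
      ![0, 1, 0, 1, 0, 0, 0, 0],
      ![0, 0, 0, 0, 1, 0, 0, 0],
      ![0, 0, 0, 0, 0, 1, 0, 0],
      ![0, 0, 0, 0, 0, 0, 1, 0],
      ![0, 0, 0, 0, 0, 0, 0, 1],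
      ![-1, -1, -1, -1, -1, -1, -1, -1]]),
    (1, ![![1, 0, 1, 0, 0, 0, 0, 0],
      ![0, 0, 1, 1, 0, 0, 0, 0],
      ![0, 1, 0, 1, 0, 0, 0, 0],
      ![0, 0, 0, 0, 1, 0, 0, 0],
      ![0, 0, 0, 0, 0, 1, 0, 0],
      ![0, 0, 0, 0, 0, 0, 1, 0],
      ![0, 0, 0, 0, 0, 0, 0, 1],
      ![0, -1, -1, -1, -1, -1, -1, -1]]),
    (2, ![![1, 0, 1, 0, 0, 0, 0, 0],
      ![0, 1, 1, 1, 0, 0, 0, 0],
      ![0, 0, 0, 1, 0, 0, 0, 0],
      ![0, 0, 0, 0, 1, 0, 0, 0],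
      ![0, 0, 0, 0, 0, 1, 0, 0],
      ![0, 0, 0, 0, 0, 0, 1, 0],
      ![0, 0, 0, 0, 0, 0, 0, 1],
      ![0, 0, -1, -1, -1, -1, -1, -1]]),
    (3, ![![1, 0, 0, 0, 0, 0, 0, 0],
      ![0, 1, 0, 1, 0, 0, 0, 0],
      ![0, 0, 1, 1, 0, 0, 0, 0],
      ![0, 0, 0, 0, 1, 0, 0, 0],
      ![0, 0, 0, 0, 0, 1, 0, 0],
      ![0, 0, 0, 0, 0, 0, 1, 0],
      ![0, 0, 0, 0, 0, 0, 0, 1],
      ![0, 0, 0, -1, -1, -1, -1, -1]]),
    (4, ![![1, 0, 0, 0, 0, 0, 0, 0],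
      ![0, 1, 0, 0, 0, 0, 0, 0],
      ![0, 0, 1, 0, 0, 0, 0, 0],
      ![0, 0, 0, 1, 1, 0, 0, 0],
      ![0, 0, 0, 0, 0, 1, 0, 0],
      ![0, 0, 0, 0, 0, 0, 1, 0],
      ![0, 0, 0, 0, 0, 0, 0, 1],
      ![0, 0, 0, 0, -1, -1, -1, -1]]),
    (5, ![![1, 0, 0, 0, 0, 0, 0, 0],
      ![0, 1, 0, 0, 0, 0, 0, 0],
      ![0, 0, 1, 0, 0, 0, 0, 0],
      ![0, 0, 0, 1, 0, 0, 0, 0],
      ![0, 0, 0, 0, 1, 1, 0, 0],
      ![0, 0, 0, 0, 0, 0, 1, 0],
      ![0, 0, 0, 0, 0, 0, 0, 1],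
      ![0, 0, 0, 0, 0, -1, -1, -1]]),
    (6, ![![1, 0, 0, 0, 0, 0, 0, 0],
      ![0, 1, 0, 0, 0, 0, 0, 0],
      ![0, 0, 1, 0, 0, 0, 0, 0],
      ![0, 0, 0, 1, 0, 0, 0, 0],
      ![0, 0, 0, 0, 1, 0, 0, 0],
      ![0, 0, 0, 0, 0, 1, 1, 0],
      ![0, 0, 0, 0, 0, 0, 0, 1],
      ![0, 0, 0, 0, 0, 0, -1, -1]]),
    (7, ![![1, 0, 0, 0, 0, 0, 0, 0],
      ![0, 1, 0, 0, 0, 0, 0, 0],
      ![0, 0, 1, 0, 0, 0, 0, 0],
      ![0, 0, 0, 1, 0, 0, 0, 0],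
      ![0, 0, 0, 0, 1, 0, 0, 0],
      ![0, 0, 0, 0, 0, 1, 0, 0],
      ![0, 0, 0, 0, 0, 0, 1, 1],
      ![0, 0, 0, 0, 0, 0, 0, -1]])]

/-- the matrix of `θ` -/
def Th : Mat 8 := ![![0, 1, 0, 1, 0, 0, 0, 0],
    ![0, 1, 1, 1, 1, 0, 0, 0],
    ![1, 0, 1, 1, 1, 0, 0, 0],
    ![0, 0, 0, 0, 0, 1, 0, 0],
    ![0, 0, 0, 0, 0, 0, 1, 0],
    ![0, 0, 0, 0, 0, 0, 0, 1],
    ![-1, -1, -1, -1, -1, -1, -1, -1],
    ![0, 0, -1, -1, 0, 0, 0, 0]]

/-- the basis -/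
def V : Mat 8 := ![![-1, -1, -1, -1, -1, -1, -1, 0],
    ![0, -1, -1, -2, -1, 0, 0, 0],
    ![-1, -1, -2, -2, -2, -2, -1, 0],
    ![-1, -1, -2, -3, -2, -1, -1, -1],
    ![-1, -1, -1, -2, -2, -2, -1, 0],
    ![0, -1, -1, -2, -1, -1, -1, -1],
    ![0, 0, 0, 0, -1, -1, 0, 0],
    ![0, 0, 0, 0, 0, 0, -1, -1]]

/-- the coordinates -/
def B : Mat 8 := ![![-1, 1, 1, -1, 0, 0, 0, 1],
    ![-2, 0, 1, 0, 1, -1, -1, 1],
    ![0, 0, -1, 0, 1, 0, 0, 0],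
    ![1, 0, 0, 0, -1, 0, 1, 0],
    ![0, -1, 0, 0, 0, 1, -1, -1],
    ![0, 1, 0, 0, 0, -1, 0, 1],
    ![1, -1, -1, 1, -1, 1, 1, -2],
    ![-1, 1, 1, -1, 1, -1, -1, 1]]

/-- the polynomial -/
def c : Fin 8 → ℤ := ![1, -1, 0, 1, -1, 1, 0, -1]

/-- the representatives of the orbits of `θ` on the roots -/
def R : Fin 16 → Fin 8 → ℤ := ![![0, 0, 0, 1, 1, 1, 1, 1],
    ![0, 0, 0, -1, -1, -1, -1, -1],
    ![1, 2, 2, 3, 2, 1, 1, 0],
    ![-2, -2, -4, -5, -4, -3, -2, -1],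
    ![2, 2, 3, 4, 3, 2, 2, 1],
    ![0, 0, 0, 1, 1, 1, 0, 0],
    ![-2, -2, -3, -4, -3, -2, -2, -1],
    ![0, 0, 0, -1, -1, -1, 0, 0],
    ![-1, -2, -2, -3, -3, -2, -2, -1],
    ![1, 1, 1, 1, 1, 1, 1, 0],
    ![-1, -1, -2, -3, -2, -2, -1, -1],
    ![-1, -1, -2, -3, -2, -1, -1, -1],
    ![0, 0, 1, 1, 1, 1, 0, 0],
    ![0, 0, -1, -1, -1, -1, 0, 0],
    ![0, 0, 0, 1, 0, 0, 0, 0],
    ![0, 0, 0, -1, 0, 0, 0, 0]]

/-- the values of the functional on the representatives -/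
def G : Fin 16 → Fin 8 → ℤ := ![![1, 0, 0, 0, -1, 0, 0, -1],
    ![-1, 0, 0, 0, 1, 0, 0, 1],
    ![-1, -1, 0, 0, 0, 0, 0, 0],
    ![0, 0, 1, 1, 0, 0, 0, 0],
    ![-1, 0, 0, -1, 0, 0, 0, 0],
    ![1, 0, 0, 0, -1, 0, 0, 0],
    ![1, 0, 0, 1, 0, 0, 0, 0],
    ![-1, 0, 0, 0, 1, 0, 0, 0],
    ![1, 1, 0, 0, 0, 0, 1, 1],
    ![-1, 0, 0, 0, 0, 0, 0, 0],
    ![0, -1, 0, 1, 0, 1, 0, -1],
    ![0, 0, 0, 1, 0, 0, 0, 0],
    ![1, 0, -1, 0, 0, 0, 0, 0],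
    ![-1, 0, 1, 0, 0, 0, 0, 0],
    ![1, 0, 0, 0, -1, 0, 1, 0],
    ![-1, 0, 0, 0, 1, 0, -1, 0]]

/-- predecessor -/
def prv (r : ℕ) : ℕ := Nat.mod (Nat.shiftRight 0xedecebeae2cce3dbe8dcc200b9b8e9eee1d6d2cfcdefe7e6e5e4d7d3d0ceb2afaeab00a9e0dfdeddc8c5c3bfbdba9c999895949375726e69c9c6c4c0bebba6a5a4a376006f6a4e8a8988875d385edad9d8d5d4d1b5b3b0ac908f8e8d63b6b4b1ada2649f9d0096774700ca00c100a09e9b978483827f7e7b7471706d6c6b5854514f002e002500a878590052508b4d423e3b398c6261605f433f3c3a1e1b1a17161591b79268676665a185807c794c4b4a4934312f2b292686817d7a5c5b5a5756533532002c00271211100f46454441403d211f00180b0a09080022201d190e01063736002d1307000c230d05040302 (8 * r)) 256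

/-- depth -/
def dep (r : ℕ) : ℕ := Nat.mod (Nat.shiftRight 0x50c040b030a0702030904000602080d09020c080106040a05010607060b0705070a00090e0a030d0e08070306030906020c050e05020501040904070d06050404060a00090e08010e040303050907050b070808050e0501070c0b040d0a08060b0a030c09000d0302000b000a0006080608010b01070902020904010e0108030804000d000d0002030d00020c0a0a0b0608020d0b0b0c070d050e020b01070b030709050b03040e01080c090c0a060c0405090d07010104010702080e0c0c0e060c030d000e000e0d030c0e090d0a070d0a0b0e000601050a02060e080c020b0d0a02080004090100090a030b040c05 (8 * r)) 256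

theorem hA : ∀ i j, Am i j = cartanOf chevE8 8 i j :=
  H129.RootF.cE8

theorem chainOK : ChainOK Am chain :=
  H129.ChainF.ok H129.ChainF.i8 H129.ChainF.m8 (H129.ChainF.c8 <| H129.ChainF.c8 <| H129.ChainF.c8 <| H129.ChainF.c8 <| H129.ChainF.c8 <| H129.ChainF.c8 <| H129.ChainF.c8 <| H129.ChainF.c8 <| H129.ChainF.c8 <| H129.ChainF.c8 <| H129.ChainF.c8 <| H129.ChainF.c8 <| H129.ChainF.c8 <| H129.ChainF.c8 <| H129.ChainF.c8 <| H129.ChainF.c8 <| H129.ChainF.nil) (by decide +kernel)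

theorem cycOK : CycOK 8 Th V B c :=
  H129.RootF.cyc H129.ChainF.i8 H129.RootF.t8 H129.ChainF.m8 H129.RootF.t8 H129.ChainF.m8 H129.RootF.t8 H129.RootF.r8 (by decide +kernel)

theorem rootOK : RootOK chevE8 8 Th R prv dep :=
  H129.RootF.ok H129.RootF.t8 (H129.RootF.mc H129.RootF.r8 <| H129.RootF.mc H129.RootF.r8 <| H129.RootF.mc H129.RootF.r8 <| H129.RootF.mc H129.RootF.r8 <| H129.RootF.mc H129.RootF.r8 <| H129.RootF.mc H129.RootF.r8 <| H129.RootF.mc H129.RootF.r8 <| H129.RootF.mc H129.RootF.r8 <| H129.RootF.mc H129.RootF.r8 <| H129.RootF.mc H129.RootF.r8 <| H129.RootF.mc H129.RootF.r8 <| H129.RootF.mc H129.RootF.r8 <| H129.RootF.mc H129.RootF.r8 <| H129.RootF.mc H129.RootF.r8 <| H129.RootF.mc H129.RootF.r8 <| H129.RootF.mc H129.RootF.r8 <| H129.RootF.m0) (by decide +kernel)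

theorem coefOK : ∀ s i, ∑ j, R s j * B j i = G s i := by decide +kernel

theorem fN_eq (x : ℤ) : fN c x = 1 - x + x ^ 3 - x ^ 4 + x ^ 5 - x ^ 7 + x ^ 8 := by
  unfold fN c
  simp only [Fin.sum_univ_succ, _root_.Int.reduceNeg, _root_.Fin.isValue, _root_.Matrix.cons_val_zero, _root_.Fin.coe_ofNat_eq_mod, _root_.Nat.zero_mod, _root_.pow_zero, _root_.mul_one, _root_.Matrix.cons_val_succ, _root_.Fin.val_succ, _root_.zero_add, _root_.pow_one, _root_.neg_mul, _root_.one_mul, _root_.Nat.reduceAdd, _root_.MulZeroClass.zero_mul, _root_.Finset.univ_unique, _root_.Fin.default_eq_zero, _root_.Matrix.cons_val_fin_one, _root_.Fin.val_eq_zero, _root_.Finset.sum_neg_distrib, _root_.Finset.sum_const, _root_.Finset.card_singleton, _root_.Int.nsmul_eq_mul, _root_.Nat.cast_one]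
  ring

theorem G_0 (x : ℤ) : Gq B x (R 0) = 1 - x ^ 4 - x ^ 7 := by
  rw [Gq_coef B x (R 0) (G 0) (coefOK 0)]
  unfold G
  simp only [Fin.sum_univ_succ, _root_.Int.reduceNeg, _root_.Fin.isValue, _root_.Matrix.cons_val', _root_.Matrix.cons_val_fin_one, _root_.Matrix.cons_val_zero, _root_.Fin.coe_ofNat_eq_mod, _root_.Nat.zero_mod, _root_.pow_zero, _root_.mul_one, _root_.Matrix.cons_val_succ, _root_.Fin.val_succ, _root_.zero_add, _root_.pow_one, _root_.MulZeroClass.zero_mul, _root_.Nat.reduceAdd, _root_.neg_mul, _root_.one_mul, _root_.Finset.univ_unique, _root_.Fin.default_eq_zero, _root_.Fin.val_eq_zero, _root_.Finset.sum_neg_distrib, _root_.Finset.sum_const, _root_.Finset.card_singleton, _root_.Int.nsmul_eq_mul, _root_.Nat.cast_one]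
  try ring

theorem bez_0 (x : ℤ) : (x + x ^ 4) * (1 - x + x ^ 3 - x ^ 4 + x ^ 5 - x ^ 7 + x ^ 8) + (1 - x + x ^ 2 - x ^ 4 + x ^ 5) * (1 - x ^ 4 - x ^ 7) = 1 := by
  ring

theorem G_1 (x : ℤ) : Gq B x (R 1) = -1 + x ^ 4 + x ^ 7 := by
  rw [Gq_coef B x (R 1) (G 1) (coefOK 1)]
  unfold G
  simp only [Fin.sum_univ_succ, _root_.Int.reduceNeg, _root_.Fin.isValue, _root_.Matrix.cons_val', _root_.Matrix.cons_val_fin_one, _root_.Matrix.cons_val_one, _root_.Matrix.cons_val_zero, _root_.Fin.coe_ofNat_eq_mod, _root_.Nat.zero_mod, _root_.pow_zero, _root_.mul_one, _root_.Matrix.cons_val_succ, _root_.Fin.val_succ, _root_.zero_add, _root_.pow_one, _root_.MulZeroClass.zero_mul, _root_.Nat.reduceAdd, _root_.one_mul, _root_.Finset.univ_unique, _root_.Fin.default_eq_zero, _root_.Fin.val_eq_zero, _root_.Finset.sum_const, _root_.Finset.card_singleton, _root_.Int.nsmul_eq_mul, _root_.Nat.cast_one]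
  try ring

theorem bez_1 (x : ℤ) : (x + x ^ 4) * (1 - x + x ^ 3 - x ^ 4 + x ^ 5 - x ^ 7 + x ^ 8) + (-1 + x - x ^ 2 + x ^ 4 - x ^ 5) * (-1 + x ^ 4 + x ^ 7) = 1 := by
  ring

theorem G_2 (x : ℤ) : Gq B x (R 2) = -1 - x := by
  rw [Gq_coef B x (R 2) (G 2) (coefOK 2)]
  unfold G
  simp only [Fin.sum_univ_succ, _root_.Int.reduceNeg, _root_.Fin.isValue, _root_.Matrix.cons_val', _root_.Matrix.cons_val_fin_one, _root_.Matrix.cons_val, _root_.Matrix.cons_val_one, _root_.Matrix.cons_val_zero, _root_.Fin.coe_ofNat_eq_mod, _root_.Nat.zero_mod, _root_.pow_zero, _root_.mul_one, _root_.Matrix.cons_val_succ, _root_.Fin.val_succ, _root_.zero_add, _root_.pow_one, _root_.neg_mul, _root_.one_mul, _root_.Nat.reduceAdd, _root_.MulZeroClass.zero_mul, _root_.Finset.univ_unique, _root_.Fin.default_eq_zero, _root_.Fin.val_eq_zero, _root_.Finset.sum_const_zero, _root_.add_zero]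
  try ring

theorem bez_2 (x : ℤ) : (1) * (1 - x + x ^ 3 - x ^ 4 + x ^ 5 - x ^ 7 + x ^ 8) + (-x + x ^ 2 - x ^ 4 + 2 * x ^ 5 - 2 * x ^ 6 + x ^ 7) * (-1 - x) = 1 := by
  ring

theorem G_3 (x : ℤ) : Gq B x (R 3) = x ^ 2 + x ^ 3 := by
  rw [Gq_coef B x (R 3) (G 3) (coefOK 3)]
  unfold G
  simp only [Fin.sum_univ_succ, _root_.Int.reduceNeg, _root_.Fin.isValue, _root_.Matrix.cons_val', _root_.Matrix.cons_val_fin_one, _root_.Matrix.cons_val, _root_.Matrix.cons_val_one, _root_.Matrix.cons_val_zero, _root_.Fin.coe_ofNat_eq_mod, _root_.Nat.zero_mod, _root_.pow_zero, _root_.mul_one, _root_.Matrix.cons_val_succ, _root_.Fin.val_succ, _root_.zero_add, _root_.pow_one, _root_.MulZeroClass.zero_mul, _root_.Nat.reduceAdd, _root_.one_mul, _root_.Finset.univ_unique, _root_.Fin.default_eq_zero, _root_.Fin.val_eq_zero, _root_.Finset.sum_const_zero, _root_.add_zero]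
  try ring

theorem bez_3 (x : ℤ) : (1 + x + x ^ 2) * (1 - x + x ^ 3 - x ^ 4 + x ^ 5 - x ^ 7 + x ^ 8) + (-x ^ 3 + x ^ 4 - x ^ 5 + x ^ 6 - x ^ 7) * (x ^ 2 + x ^ 3) = 1 := by
  ring

theorem G_4 (x : ℤ) : Gq B x (R 4) = -1 - x ^ 3 := by
  rw [Gq_coef B x (R 4) (G 4) (coefOK 4)]
  unfold G
  simp only [Fin.sum_univ_succ, _root_.Int.reduceNeg, _root_.Fin.isValue, _root_.Matrix.cons_val', _root_.Matrix.cons_val_fin_one, _root_.Matrix.cons_val, _root_.Matrix.cons_val_one, _root_.Matrix.cons_val_zero, _root_.Fin.coe_ofNat_eq_mod, _root_.Nat.zero_mod, _root_.pow_zero, _root_.mul_one, _root_.Matrix.cons_val_succ, _root_.Fin.val_succ, _root_.zero_add, _root_.pow_one, _root_.MulZeroClass.zero_mul, _root_.Nat.reduceAdd, _root_.neg_mul, _root_.one_mul, _root_.Finset.univ_unique, _root_.Fin.default_eq_zero, _root_.Fin.val_eq_zero, _root_.Finset.sum_const_zero, _root_.add_zero]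
  try ring

theorem bez_4 (x : ℤ) : (x ^ 2) * (1 - x + x ^ 3 - x ^ 4 + x ^ 5 - x ^ 7 + x ^ 8) + (-1 + x ^ 2 - x ^ 6 + x ^ 7) * (-1 - x ^ 3) = 1 := by
  ring

theorem G_5 (x : ℤ) : Gq B x (R 5) = 1 - x ^ 4 := by
  rw [Gq_coef B x (R 5) (G 5) (coefOK 5)]
  unfold G
  simp only [Fin.sum_univ_succ, _root_.Int.reduceNeg, _root_.Fin.isValue, _root_.Matrix.cons_val', _root_.Matrix.cons_val_fin_one, _root_.Matrix.cons_val, _root_.Matrix.cons_val_one, _root_.Matrix.cons_val_zero, _root_.Fin.coe_ofNat_eq_mod, _root_.Nat.zero_mod, _root_.pow_zero, _root_.mul_one, _root_.Matrix.cons_val_succ, _root_.Fin.val_succ, _root_.zero_add, _root_.pow_one, _root_.MulZeroClass.zero_mul, _root_.Nat.reduceAdd, _root_.neg_mul, _root_.one_mul, _root_.Finset.univ_unique, _root_.Fin.default_eq_zero, _root_.Fin.val_eq_zero, _root_.Finset.sum_const_zero, _root_.add_zero]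
  try ring

theorem bez_5 (x : ℤ) : (1) * (1 - x + x ^ 3 - x ^ 4 + x ^ 5 - x ^ 7 + x ^ 8) + (x - x ^ 3 + x ^ 4) * (1 - x ^ 4) = 1 := by
  ring

theorem G_6 (x : ℤ) : Gq B x (R 6) = 1 + x ^ 3 := by
  rw [Gq_coef B x (R 6) (G 6) (coefOK 6)]
  unfold G
  simp only [Fin.sum_univ_succ, _root_.Int.reduceNeg, _root_.Fin.isValue, _root_.Matrix.cons_val', _root_.Matrix.cons_val_fin_one, _root_.Matrix.cons_val, _root_.Matrix.cons_val_one, _root_.Matrix.cons_val_zero, _root_.Fin.coe_ofNat_eq_mod, _root_.Nat.zero_mod, _root_.pow_zero, _root_.mul_one, _root_.Matrix.cons_val_succ, _root_.Fin.val_succ, _root_.zero_add, _root_.pow_one, _root_.MulZeroClass.zero_mul, _root_.Nat.reduceAdd, _root_.one_mul, _root_.Finset.univ_unique, _root_.Fin.default_eq_zero, _root_.Fin.val_eq_zero, _root_.Finset.sum_const_zero, _root_.add_zero]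
  try ring

theorem bez_6 (x : ℤ) : (x ^ 2) * (1 - x + x ^ 3 - x ^ 4 + x ^ 5 - x ^ 7 + x ^ 8) + (1 - x ^ 2 + x ^ 6 - x ^ 7) * (1 + x ^ 3) = 1 := by
  ring

theorem G_7 (x : ℤ) : Gq B x (R 7) = -1 + x ^ 4 := by
  rw [Gq_coef B x (R 7) (G 7) (coefOK 7)]
  unfold G
  simp only [Fin.sum_univ_succ, _root_.Int.reduceNeg, _root_.Fin.isValue, _root_.Matrix.cons_val', _root_.Matrix.cons_val_fin_one, _root_.Matrix.cons_val, _root_.Matrix.cons_val_one, _root_.Matrix.cons_val_zero, _root_.Fin.coe_ofNat_eq_mod, _root_.Nat.zero_mod, _root_.pow_zero, _root_.mul_one, _root_.Matrix.cons_val_succ, _root_.Fin.val_succ, _root_.zero_add, _root_.pow_one, _root_.MulZeroClass.zero_mul, _root_.Nat.reduceAdd, _root_.one_mul, _root_.Finset.univ_unique, _root_.Fin.default_eq_zero, _root_.Fin.val_eq_zero, _root_.Finset.sum_const_zero, _root_.add_zero]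
  try ring

theorem bez_7 (x : ℤ) : (1) * (1 - x + x ^ 3 - x ^ 4 + x ^ 5 - x ^ 7 + x ^ 8) + (-x + x ^ 3 - x ^ 4) * (-1 + x ^ 4) = 1 := by
  ring

theorem G_8 (x : ℤ) : Gq B x (R 8) = 1 + x + x ^ 6 + x ^ 7 := by
  rw [Gq_coef B x (R 8) (G 8) (coefOK 8)]
  unfold G
  simp only [Fin.sum_univ_succ, _root_.Int.reduceNeg, _root_.Fin.isValue, _root_.Matrix.cons_val', _root_.Matrix.cons_val_fin_one, _root_.Matrix.cons_val, _root_.Matrix.cons_val_one, _root_.Matrix.cons_val_zero, _root_.Fin.coe_ofNat_eq_mod, _root_.Nat.zero_mod, _root_.pow_zero, _root_.mul_one, _root_.Matrix.cons_val_succ, _root_.Fin.val_succ, _root_.zero_add, _root_.pow_one, _root_.one_mul, _root_.Nat.reduceAdd, _root_.MulZeroClass.zero_mul, _root_.Finset.univ_unique, _root_.Fin.default_eq_zero, _root_.Fin.val_eq_zero, _root_.Finset.sum_const, _root_.Finset.card_singleton, _root_.Int.nsmul_eq_mul, _root_.Nat.cast_one]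
  try ring

theorem bez_8 (x : ℤ) : (1 + x + x ^ 2 + x ^ 3 + x ^ 4) * (1 - x + x ^ 3 - x ^ 4 + x ^ 5 - x ^ 7 + x ^ 8) + (-x ^ 3 + x ^ 4 - x ^ 5) * (1 + x + x ^ 6 + x ^ 7) = 1 := by
  ring

theorem G_9 (x : ℤ) : Gq B x (R 9) = -1 := by
  rw [Gq_coef B x (R 9) (G 9) (coefOK 9)]
  unfold G
  simp only [Fin.sum_univ_succ, _root_.Int.reduceNeg, _root_.Fin.isValue, _root_.Matrix.cons_val', _root_.Matrix.cons_val_fin_one, _root_.Matrix.cons_val, _root_.Matrix.cons_val_one, _root_.Matrix.cons_val_zero, _root_.Fin.coe_ofNat_eq_mod, _root_.Nat.zero_mod, _root_.pow_zero, _root_.mul_one, _root_.Matrix.cons_val_succ, _root_.Fin.val_succ, _root_.zero_add, _root_.pow_one, _root_.MulZeroClass.zero_mul, _root_.Nat.reduceAdd, _root_.Finset.univ_unique, _root_.Fin.default_eq_zero, _root_.Fin.val_eq_zero, _root_.Finset.sum_const_zero, _root_.add_zero]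
  try ring

theorem bez_9 (x : ℤ) : (0) * (1 - x + x ^ 3 - x ^ 4 + x ^ 5 - x ^ 7 + x ^ 8) + (-1) * (-1) = 1 := by
  ring

theorem G_10 (x : ℤ) : Gq B x (R 10) = -x + x ^ 3 + x ^ 5 - x ^ 7 := by
  rw [Gq_coef B x (R 10) (G 10) (coefOK 10)]
  unfold G
  simp only [Fin.sum_univ_succ, _root_.Int.reduceNeg, _root_.Fin.isValue, _root_.Matrix.cons_val', _root_.Matrix.cons_val_fin_one, _root_.Matrix.cons_val, _root_.Matrix.cons_val_one, _root_.Matrix.cons_val_zero, _root_.Fin.coe_ofNat_eq_mod, _root_.Nat.zero_mod, _root_.pow_zero, _root_.mul_one, _root_.Matrix.cons_val_succ, _root_.Fin.val_succ, _root_.zero_add, _root_.pow_one, _root_.neg_mul, _root_.one_mul, _root_.Nat.reduceAdd, _root_.MulZeroClass.zero_mul, _root_.Finset.univ_unique, _root_.Fin.default_eq_zero, _root_.Fin.val_eq_zero, _root_.Finset.sum_neg_distrib, _root_.Finset.sum_const, _root_.Finset.card_singleton, _root_.Int.nsmul_eq_mul,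 _root_.Nat.cast_one]
  try ring

theorem bez_10 (x : ℤ) : (1 + x ^ 2 - x ^ 6) * (1 - x + x ^ 3 - x ^ 4 + x ^ 5 - x ^ 7 + x ^ 8) + (-1 + x - x ^ 2 - x ^ 5 + x ^ 6 - x ^ 7) * (-x + x ^ 3 + x ^ 5 - x ^ 7) = 1 := by
  ring

theorem G_11 (x : ℤ) : Gq B x (R 11) = x ^ 3 := by
  rw [Gq_coef B x (R 11) (G 11) (coefOK 11)]
  unfold G
  simp only [Fin.sum_univ_succ, _root_.Int.reduceNeg, _root_.Fin.isValue, _root_.Matrix.cons_val', _root_.Matrix.cons_val_fin_one, _root_.Matrix.cons_val, _root_.Matrix.cons_val_one, _root_.Matrix.cons_val_zero, _root_.Fin.coe_ofNat_eq_mod, _root_.Nat.zero_mod, _root_.pow_zero, _root_.mul_one, _root_.Matrix.cons_val_succ, _root_.Fin.val_succ, _root_.zero_add, _root_.pow_one, _root_.MulZeroClass.zero_mul, _root_.Nat.reduceAdd, _root_.one_mul, _root_.Finset.univ_unique, _root_.Fin.default_eq_zero, _root_.Fin.val_eq_zero, _root_.Finset.sum_const_zero,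 _root_.add_zero]
  try ring

theorem bez_11 (x : ℤ) : (1 + x + x ^ 2) * (1 - x + x ^ 3 - x ^ 4 + x ^ 5 - x ^ 7 + x ^ 8) + (-x ^ 2 - x ^ 7) * (x ^ 3) = 1 := by
  ring

theorem G_12 (x : ℤ) : Gq B x (R 12) = 1 - x ^ 2 := by
  rw [Gq_coef B x (R 12) (G 12) (coefOK 12)]
  unfold G
  simp only [Fin.sum_univ_succ, _root_.Int.reduceNeg, _root_.Fin.isValue, _root_.Matrix.cons_val', _root_.Matrix.cons_val_fin_one, _root_.Matrix.cons_val, _root_.Matrix.cons_val_one, _root_.Matrix.cons_val_zero, _root_.Fin.coe_ofNat_eq_mod, _root_.Nat.zero_mod, _root_.pow_zero, _root_.mul_one, _root_.Matrix.cons_val_succ, _root_.Fin.val_succ, _root_.zero_add, _root_.pow_one, _root_.MulZeroClass.zero_mul, _root_.Nat.reduceAdd, _root_.neg_mul, _root_.one_mul, _root_.Finset.univ_unique, _root_.Fin.default_eq_zero, _root_.Fin.val_eq_zero, _root_.Finset.sum_const_zero, _root_.add_zero]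
  try ring

theorem bez_12 (x : ℤ) : (1) * (1 - x + x ^ 3 - x ^ 4 + x ^ 5 - x ^ 7 + x ^ 8) + (x + x ^ 4 - x ^ 5 + x ^ 6) * (1 - x ^ 2) = 1 := by
  ring

theorem G_13 (x : ℤ) : Gq B x (R 13) = -1 + x ^ 2 := by
  rw [Gq_coef B x (R 13) (G 13) (coefOK 13)]
  unfold G
  simp only [Fin.sum_univ_succ, _root_.Int.reduceNeg, _root_.Fin.isValue, _root_.Matrix.cons_val', _root_.Matrix.cons_val_fin_one, _root_.Matrix.cons_val, _root_.Matrix.cons_val_one, _root_.Matrix.cons_val_zero, _root_.Fin.coe_ofNat_eq_mod, _root_.Nat.zero_mod, _root_.pow_zero, _root_.mul_one, _root_.Matrix.cons_val_succ, _root_.Fin.val_succ, _root_.zero_add, _root_.pow_one, _root_.MulZeroClass.zero_mul, _root_.Nat.reduceAdd, _root_.one_mul, _root_.Finset.univ_unique, _root_.Fin.default_eq_zero, _root_.Fin.val_eq_zero, _root_.Finset.sum_const_zero, _root_.add_zero]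
  try ring

theorem bez_13 (x : ℤ) : (1) * (1 - x + x ^ 3 - x ^ 4 + x ^ 5 - x ^ 7 + x ^ 8) + (-x - x ^ 4 + x ^ 5 - x ^ 6) * (-1 + x ^ 2) = 1 := by
  ring

theorem G_14 (x : ℤ) : Gq B x (R 14) = 1 - x ^ 4 + x ^ 6 := by
  rw [Gq_coef B x (R 14) (G 14) (coefOK 14)]
  unfold G
  simp only [Fin.sum_univ_succ, _root_.Int.reduceNeg, _root_.Fin.isValue, _root_.Matrix.cons_val', _root_.Matrix.cons_val_fin_one, _root_.Matrix.cons_val, _root_.Matrix.cons_val_one, _root_.Matrix.cons_val_zero, _root_.Fin.coe_ofNat_eq_mod, _root_.Nat.zero_mod, _root_.pow_zero, _root_.mul_one, _root_.Matrix.cons_val_succ, _root_.Fin.val_succ, _root_.zero_add, _root_.pow_one, _root_.MulZeroClass.zero_mul, _root_.Nat.reduceAdd, _root_.neg_mul, _root_.one_mul, _root_.Finset.univ_unique, _root_.Fin.default_eq_zero, _root_.Fin.val_eq_zero, _root_.Finset.sum_const_zero, _root_.add_zero]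
  try ring

theorem bez_14 (x : ℤ) : (-x ^ 2 - x ^ 3) * (1 - x + x ^ 3 - x ^ 4 + x ^ 5 - x ^ 7 + x ^ 8) + (1 + x ^ 2 + x ^ 5) * (1 - x ^ 4 + x ^ 6) = 1 := by
  ring

theorem G_15 (x : ℤ) : Gq B x (R 15) = -1 + x ^ 4 - x ^ 6 := by
  rw [Gq_coef B x (R 15) (G 15) (coefOK 15)]
  unfold G
  simp only [Fin.sum_univ_succ, _root_.Int.reduceNeg, _root_.Fin.isValue, _root_.Matrix.cons_val', _root_.Matrix.cons_val_fin_one, _root_.Matrix.cons_val, _root_.Matrix.cons_val_one, _root_.Matrix.cons_val_zero, _root_.Fin.coe_ofNat_eq_mod, _root_.Nat.zero_mod, _root_.pow_zero, _root_.mul_one, _root_.Matrix.cons_val_succ, _root_.Fin.val_succ, _root_.zero_add, _root_.pow_one, _root_.MulZeroClass.zero_mul, _root_.Nat.reduceAdd, _root_.one_mul, _root_.neg_mul, _root_.Finset.univ_unique, _root_.Fin.default_eq_zero, _root_.Fin.val_eq_zero, _root_.Finset.sum_const_zero, _root_.add_zero]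
  try ring

theorem bez_15 (x : ℤ) : (-x ^ 2 - x ^ 3) * (1 - x + x ^ 3 - x ^ 4 + x ^ 5 - x ^ 7 + x ^ 8) + (-1 - x ^ 2 - x ^ 5) * (-1 + x ^ 4 - x ^ 6) = 1 := by
  ring

/-- Common divisors of `f(x)` and the value of `Gq` on a representative. -/
theorem dvd_of_G {x r : ℤ} (h : r ∣ 1 - x + x ^ 3 - x ^ 4 + x ^ 5 - x ^ 7 + x ^ 8) (s : Fin 16) (hs : r ∣ Gq B x (R s)) :
    r ∣ 1 := by
  have key : ∀ {a b g y : ℤ}, a * (1 - x + x ^ 3 - x ^ 4 + x ^ 5 - x ^ 7 + x ^ 8) + b * g = y → r ∣ g → r ∣ y := fun e hg => by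
    rw [← e]
    exact dvd_add (h.mul_left _) (hg.mul_left _)
  fin_cases s
  · exact key (bez_0 x) (by rw [← G_0]; exact hs)
  · exact key (bez_1 x) (by rw [← G_1]; exact hs)
  · exact key (bez_2 x) (by rw [← G_2]; exact hs)
  · exact key (bez_3 x) (by rw [← G_3]; exact hs)
  · exact key (bez_4 x) (by rw [← G_4]; exact hs)
  · exact key (bez_5 x) (by rw [← G_5]; exact hs)
  · exact key (bez_6 x) (by rw [← G_6]; exact hs)
  · exact key (bez_7 x) (by rw [← G_7]; exact hs)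
  · exact key (bez_8 x) (by rw [← G_8]; exact hs)
  · exact key (bez_9 x) (by rw [← G_9]; exact hs)
  · exact key (bez_10 x) (by rw [← G_10]; exact hs)
  · exact key (bez_11 x) (by rw [← G_11]; exact hs)
  · exact key (bez_12 x) (by rw [← G_12]; exact hs)
  · exact key (bez_13 x) (by rw [← G_13]; exact hs)
  · exact key (bez_14 x) (by rw [← G_14]; exact hs)
  · exact key (bez_15 x) (by rw [← G_15]; exact hs)

end Cfsg.Agent.H129.DataE8a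
end

-- part: H129/DataE8b
section
/-!
# Data of the torus of order `Φ₂₀(q)` of `E₈(q)` (helper129)
-/

set_option autoImplicit false

namespace Cfsg.Agent.H129.DataE8b

open Cfsg.Agent.H129.TorusTw Cfsg.Agent.H129.WData Cfsg.Agent.ChevalleyStructure.CoxeterGeomTypes
open Cfsg.Lie Cfsg.Lie.ChevalleyDatum

/-- the Cartan matrix -/
def Am : Mat 8 := ![![2, 0, -1, 0, 0, 0, 0, 0],
    ![0, 2, 0, -1, 0, 0, 0, 0],
    ![-1, 0, 2, -1, 0, 0, 0, 0],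
    ![0, -1, -1, 2, -1, 0, 0, 0],
    ![0, 0, 0, -1, 2, -1, 0, 0],
    ![0, 0, 0, 0, -1, 2, -1, 0],
    ![0, 0, 0, 0, 0, -1, 2, -1],
    ![0, 0, 0, 0, 0, 0, -1, 2]]

/-- the partial products -/
def chain : List (Fin 8 × Mat 8) := [
    (3, ![![0, 1, 0, 1, 1, 1, 1, 0],
      ![1, 0, 1, 1, 1, 1, 1, 0],
      ![0, -1, -1, -2, -1, -1, -1, 0],
      ![0, 1, 1, 2, 1, 0, 0, 0],
      ![0, 0, 0, -1, -1, 0, 0, 0],
      ![-1, -1, -1, -1, 0, 0, 0, 0],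
      ![1, 1, 1, 2, 1, 1, 1, 1],
      ![0, 0, 0, 0, 0, 0, -1, -1]]),
    (6, ![![0, 1, 0, 1, 1, 1, 1, 0],
      ![1, 0, 1, 1, 1, 1, 1, 0],
      ![0, -1, -1, -1, -1, -1, -1, 0],
      ![0, 1, 1, 1, 1, 0, 0, 0],
      ![0, 0, 0, 0, -1, 0, 0, 0],
      ![-1, -1, -1, -1, 0, 0, 0, 0],
      ![1, 1, 1, 1, 1, 1, 1, 1],
      ![0, 0, 0, 0, 0, 0, -1, -1]]),
    (5, ![![0, 1, 0, 1, 1, 1, 0, 0],
      ![1, 0, 1, 1, 1, 1, 0, 0],
      ![0, -1, -1, -1, -1, -1, 0, 0],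
      ![0, 1, 1, 1, 1, 0, 0, 0],
      ![0, 0, 0, 0, -1, 0, 0, 0],
      ![-1, -1, -1, -1, 0, 0, 0, 0],
      ![1, 1, 1, 1, 1, 1, 1, 1],
      ![0, 0, 0, 0, 0, 0, 0, -1]]),
    (0, ![![0, 1, 0, 1, 1, 0, 0, 0],
      ![1, 0, 1, 1, 1, 0, 0, 0],
      ![0, -1, -1, -1, -1, 0, 0, 0],
      ![0, 1, 1, 1, 1, 1, 0, 0],
      ![0, 0, 0, 0, -1, -1, 0, 0],
      ![-1, -1, -1, -1, 0, 0, 0, 0],
      ![1, 1, 1, 1, 1, 1, 1, 1],
      ![0, 0, 0, 0, 0, 0, 0, -1]]),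
    (7, ![![0, 1, 0, 1, 1, 0, 0, 0],
      ![0, 0, 1, 1, 1, 0, 0, 0],
      ![-1, -1, -1, -1, -1, 0, 0, 0],
      ![1, 1, 1, 1, 1, 1, 0, 0],
      ![0, 0, 0, 0, -1, -1, 0, 0],
      ![0, -1, -1, -1, 0, 0, 0, 0],
      ![0, 1, 1, 1, 1, 1, 1, 1],
      ![0, 0, 0, 0, 0, 0, 0, -1]]),
    (1, ![![0, 1, 0, 1, 1, 0, 0, 0],
      ![0, 0, 1, 1, 1, 0, 0, 0],
      ![-1, -1, -1, -1, -1, 0, 0, 0],
      ![1, 1, 1, 1, 1, 1, 0, 0],
      ![0, 0, 0, 0, -1, -1, 0, 0],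
      ![0, -1, -1, -1, 0, 0, 0, 0],
      ![0, 1, 1, 1, 1, 1, 1, 0],
      ![0, 0, 0, 0, 0, 0, 0, 1]]),
    (2, ![![0, 0, 0, 1, 1, 0, 0, 0],
      ![0, 1, 1, 1, 1, 0, 0, 0],
      ![-1, 0, -1, -1, -1, 0, 0, 0],
      ![1, 0, 1, 1, 1, 1, 0, 0],
      ![0, 0, 0, 0, -1, -1, 0, 0],
      ![0, 0, -1, -1, 0, 0, 0, 0],
      ![0, 0, 1, 1, 1, 1, 1, 0],
      ![0, 0, 0, 0, 0, 0, 0, 1]]),
    (4, ![![0, 0, 1, 1, 1, 0, 0, 0],
      ![0, 1, 0, 1, 1, 0, 0, 0],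
      ![-1, 0, -1, -1, -1, 0, 0, 0],
      ![1, 0, 1, 1, 1, 1, 0, 0],
      ![0, 0, 0, 0, -1, -1, 0, 0],
      ![0, 0, 0, -1, 0, 0, 0, 0],
      ![0, 0, 0, 1, 1, 1, 1, 0],
      ![0, 0, 0, 0, 0, 0, 0, 1]]),
    (0, ![![0, 0, 1, 1, 0, 0, 0, 0],
      ![0, 1, 0, 1, 0, 0, 0, 0],
      ![-1, 0, -1, -1, 0, 0, 0, 0],
      ![1, 0, 1, 1, 1, 1, 0, 0],
      ![0, 0, 0, 0, 0, -1, 0, 0],
      ![0, 0, 0, -1, -1, 0, 0, 0],
      ![0, 0, 0, 1, 1, 1, 1, 0],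
      ![0, 0, 0, 0, 0, 0, 0, 1]]),
    (3, ![![1, 0, 1, 1, 0, 0, 0, 0],
      ![0, 1, 0, 1, 0, 0, 0, 0],
      ![0, 0, -1, -1, 0, 0, 0, 0],
      ![0, 0, 1, 1, 1, 1, 0, 0],
      ![0, 0, 0, 0, 0, -1, 0, 0],
      ![0, 0, 0, -1, -1, 0, 0, 0],
      ![0, 0, 0, 1, 1, 1, 1, 0],
      ![0, 0, 0, 0, 0, 0, 0, 1]]),
    (4, ![![1, 0, 1, 0, 0, 0, 0, 0],
      ![0, 1, 0, 0, 0, 0, 0, 0],
      ![0, 0, -1, 0, 0, 0, 0, 0],
      ![0, 0, 1, 1, 1, 1, 0, 0],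
      ![0, 0, 0, 0, 0, -1, 0, 0],
      ![0, 0, 0, 0, -1, 0, 0, 0],
      ![0, 0, 0, 0, 1, 1, 1, 0],
      ![0, 0, 0, 0, 0, 0, 0, 1]]),
    (2, ![![1, 0, 1, 0, 0, 0, 0, 0],
      ![0, 1, 0, 0, 0, 0, 0, 0],
      ![0, 0, -1, 0, 0, 0, 0, 0],
      ![0, 0, 1, 1, 1, 1, 0, 0],
      ![0, 0, 0, 0, -1, -1, 0, 0],
      ![0, 0, 0, 0, 1, 0, 0, 0],
      ![0, 0, 0, 0, 0, 1, 1, 0],
      ![0, 0, 0, 0, 0, 0, 0, 1]]),
    (5, ![![1, 0, 0, 0, 0, 0, 0, 0],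
      ![0, 1, 0, 0, 0, 0, 0, 0],
      ![0, 0, 1, 0, 0, 0, 0, 0],
      ![0, 0, 0, 1, 1, 1, 0, 0],
      ![0, 0, 0, 0, -1, -1, 0, 0],
      ![0, 0, 0, 0, 1, 0, 0, 0],
      ![0, 0, 0, 0, 0, 1, 1, 0],
      ![0, 0, 0, 0, 0, 0, 0, 1]]),
    (4, ![![1, 0, 0, 0, 0, 0, 0, 0],
      ![0, 1, 0, 0, 0, 0, 0, 0],
      ![0, 0, 1, 0, 0, 0, 0, 0],
      ![0, 0, 0, 1, 1, 0, 0, 0],
      ![0, 0, 0, 0, -1, 0, 0, 0],
      ![0, 0, 0, 0, 1, 1, 0, 0],
      ![0, 0, 0, 0, 0, 0, 1, 0],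
      ![0, 0, 0, 0, 0, 0, 0, 1]])]

/-- the matrix of `θ` -/
def Th : Mat 8 := ![![0, 1, 0, 1, 1, 1, 1, 0],
    ![1, 0, 1, 1, 1, 1, 1, 0],
    ![0, -1, -1, -2, -1, -1, -1, 0],
    ![0, 1, 1, 2, 1, 0, 0, 0],
    ![0, 0, 0, -1, -1, 0, 0, 0],
    ![-1, -1, -1, -1, 0, 0, 0, 0],
    ![1, 1, 1, 2, 1, 1, 1, 1],
    ![0, 0, 0, 0, 0, 0, -1, -1]]

/-- the basis -/
def V : Mat 8 := ![![0, -1, -1, -1, -1, -1, -1, 0],
    ![-1, 0, -1, -1, -1, -1, -1, -1],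
    ![0, -1, 0, -1, -1, -1, 0, 0],
    ![0, 0, -1, -1, -1, -1, -1, 0],
    ![0, 0, 0, 0, 0, 0, 0, -1],
    ![0, 0, 0, 0, 0, 0, 1, 1],
    ![1, 1, 1, 2, 1, 1, 0, 0],
    ![0, 1, 1, 2, 2, 1, 1, 0]]

/-- the coordinates -/
def B : Mat 8 := ![![0, -1, 0, 1, 1, 0, 0, 0],
    ![-1, 0, 0, 1, 0, 0, 0, 0],
    ![-1, 0, 1, 0, -1, -1, 0, 0],
    ![1, 1, 0, -1, 0, 1, 1, 0],
    ![0, -1, 0, 1, 0, -1, -1, 1],
    ![0, 0, -1, -1, 0, 0, 0, -1],
    ![0, 0, 0, 0, 1, 1, 0, 0],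
    ![0, 0, 0, 0, -1, 0, 0, 0]]

/-- the polynomial -/
def c : Fin 8 → ℤ := ![1, 0, -1, 0, 1, 0, -1, 0]

/-- the representatives of the orbits of `θ` on the roots -/
def R : Fin 12 → Fin 8 → ℤ := ![![-1, -1, -2, -2, -2, -2, -1, -1],
    ![-1, -2, -2, -3, -3, -3, -2, -1],
    ![-1, -1, -2, -2, -2, -2, -1, 0],
    ![-2, -2, -3, -4, -3, -3, -2, -1],
    ![-1, -1, -2, -2, -2, -2, -2, -1],
    ![-1, -2, -3, -5, -4, -3, -2, -1],
    ![0, 0, 0, -1, -1, -1, 0, 0],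
    ![0, -1, -1, -1, -1, -1, -1, -1],
    ![-1, -1, -1, -1, -1, -1, -1, -1],
    ![-1, -1, -2, -3, -2, -2, -1, 0],
    ![0, 0, 0, -1, -1, -1, -1, -1],
    ![0, -1, -1, -1, -1, -1, -1, 0]]

/-- the values of the functional on the representatives -/
def G : Fin 12 → Fin 8 → ℤ := ![![1, 1, 0, 0, 1, 1, 0, 0],
    ![1, 1, 1, 0, 0, 0, 0, 0],
    ![1, 1, 0, 0, 0, 1, 0, 0],
    ![1, 1, 0, 0, 0, 0, -1, 0],
    ![1, 1, 0, 0, 0, 0, 0, 0],
    ![0, 0, 0, 1, 1, 0, -1, -1],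
    ![-1, 0, 1, 1, 0, 0, 0, 0],
    ![1, 0, 0, 0, 1, 0, 0, 0],
    ![1, 1, 0, -1, 0, 0, 0, 0],
    ![0, 0, 0, 1, 0, 0, -1, 0],
    ![-1, 0, 1, 1, 0, -1, 0, 0],
    ![1, 0, 0, 0, 0, 0, 0, 0]]

/-- predecessor -/
def prv (r : ℕ) : ℕ := Nat.mod (Nat.shiftRight 0xeee9efebd8ece4e1d1ead4cdddcee7d9eddad6e0d7e5b7b0c7b1e6e2e8e3b3cab4c3aec4d5cfded091a1929a8e9bd2dfd3dbccdc9d8f9e98acc1adbaa9bb79657a70bdaabeb874968d979349946bb5cbb6c5afc685688682c8b2c9c283a7a2a8a45aa59f90a0994c9c7c667d7133bfabc0b980678177638b648c786e886f362f4430bc7e00890053a3564f5f504a954b474d486c2d2600006d69876a29402a39243a845ba65c5862597b373145007f758a76344635422e4357516052132314000000546155004e5e1f11201a2b412c3b253c0c070d003e283f380a180f191502000821122200051e0e0b031704000601 (8 * r)) 256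

/-- depth -/
def dep (r : ℕ) : ℕ := Nat.mod (Nat.shiftRight 0x70608070608050806090a040808070a090c070b050b090504060a0909090508060703080b070d09030d0a0706050a0a0a06090c08040c05080b0b050409050406020a070706030b080b060207010c0c0c0b070e04060b040a0a0e060509020c0305070d0d0d0c120f0a030a04030b080b0d09090c05040e040e0f021313030112010d0e000d00050802030303110f0d020c130f100400000e01100e0411010202020b110c100112010d101111000c100e0f130e0f0101120f020e120213100000000f101100030d13031101120d1110120f13131300100e0f13010f01110213001112120e001310120f121011121011 (8 * r)) 256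

theorem hA : ∀ i j, Am i j = cartanOf chevE8 8 i j :=
  H129.RootF.cE8

theorem chainOK : ChainOK Am chain :=
  H129.ChainF.ok H129.ChainF.i8 H129.ChainF.m8 (H129.ChainF.c8 <| H129.ChainF.c8 <| H129.ChainF.c8 <| H129.ChainF.c8 <| H129.ChainF.c8 <| H129.ChainF.c8 <| H129.ChainF.c8 <| H129.ChainF.c8 <| H129.ChainF.c8 <| H129.ChainF.c8 <| H129.ChainF.c8 <| H129.ChainF.c8 <| H129.ChainF.c8 <| H129.ChainF.c8 <| H129.ChainF.nil) (by decide +kernel)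

theorem cycOK : CycOK 8 Th V B c :=
  H129.RootF.cyc H129.ChainF.i8 H129.RootF.t8 H129.ChainF.m8 H129.RootF.t8 H129.ChainF.m8 H129.RootF.t8 H129.RootF.r8 (by decide +kernel)

theorem rootOK : RootOK chevE8 8 Th R prv dep :=
  H129.RootF.ok H129.RootF.t8 (H129.RootF.mc H129.RootF.r8 <| H129.RootF.mc H129.RootF.r8 <| H129.RootF.mc H129.RootF.r8 <| H129.RootF.mc H129.RootF.r8 <| H129.RootF.mc H129.RootF.r8 <| H129.RootF.mc H129.RootF.r8 <| H129.RootF.mc H129.RootF.r8 <| H129.RootF.mc H129.RootF.r8 <| H129.RootF.mc H129.RootF.r8 <| H129.RootF.mc H129.RootF.r8 <| H129.RootF.mc H129.RootF.r8 <| H129.RootF.mc H129.RootF.r8 <| H129.RootF.m0) (by decide +kernel)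

theorem coefOK : ∀ s i, ∑ j, R s j * B j i = G s i := by decide +kernel

theorem fN_eq (x : ℤ) : fN c x = 1 - x ^ 2 + x ^ 4 - x ^ 6 + x ^ 8 := by
  unfold fN c
  simp only [Fin.sum_univ_succ, _root_.Int.reduceNeg, _root_.Fin.isValue, _root_.Matrix.cons_val_zero, _root_.Fin.coe_ofNat_eq_mod, _root_.Nat.zero_mod, _root_.pow_zero, _root_.mul_one, _root_.Matrix.cons_val_succ, _root_.Fin.val_succ, _root_.zero_add, _root_.pow_one, _root_.MulZeroClass.zero_mul, _root_.Nat.reduceAdd, _root_.neg_mul, _root_.one_mul, _root_.Finset.univ_unique, _root_.Fin.default_eq_zero, _root_.Matrix.cons_val_fin_one, _root_.Fin.val_eq_zero, _root_.Finset.sum_const_zero, _root_.add_zero]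
  ring

theorem G_0 (x : ℤ) : Gq B x (R 0) = 1 + x + x ^ 4 + x ^ 5 := by
  rw [Gq_coef B x (R 0) (G 0) (coefOK 0)]
  unfold G
  simp only [Fin.sum_univ_succ, _root_.Int.reduceNeg, _root_.Fin.isValue, _root_.Matrix.cons_val', _root_.Matrix.cons_val_fin_one, _root_.Matrix.cons_val_zero, _root_.Fin.coe_ofNat_eq_mod, _root_.Nat.zero_mod, _root_.pow_zero, _root_.mul_one, _root_.Matrix.cons_val_succ, _root_.Fin.val_succ, _root_.zero_add, _root_.pow_one, _root_.one_mul, _root_.Nat.reduceAdd, _root_.MulZeroClass.zero_mul, _root_.Finset.univ_unique, _root_.Fin.default_eq_zero, _root_.Fin.val_eq_zero, _root_.Finset.sum_const_zero, _root_.add_zero]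
  try ring

theorem bez_0 (x : ℤ) : (1) * (1 - x ^ 2 + x ^ 4 - x ^ 6 + x ^ 8) + (x ^ 2 - x ^ 3) * (1 + x + x ^ 4 + x ^ 5) = 1 := by
  ring

theorem G_1 (x : ℤ) : Gq B x (R 1) = 1 + x + x ^ 2 := by
  rw [Gq_coef B x (R 1) (G 1) (coefOK 1)]
  unfold G
  simp only [Fin.sum_univ_succ, _root_.Int.reduceNeg, _root_.Fin.isValue, _root_.Matrix.cons_val', _root_.Matrix.cons_val_fin_one, _root_.Matrix.cons_val_one, _root_.Matrix.cons_val_zero, _root_.Fin.coe_ofNat_eq_mod, _root_.Nat.zero_mod, _root_.pow_zero, _root_.mul_one, _root_.Matrix.cons_val_succ, _root_.Fin.val_succ, _root_.zero_add, _root_.pow_one, _root_.one_mul, _root_.Nat.reduceAdd, _root_.MulZeroClass.zero_mul, _root_.Finset.univ_unique, _root_.Fin.default_eq_zero, _root_.Fin.val_eq_zero, _root_.Finset.sum_const_zero, _root_.add_zero]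
  try ring

theorem bez_1 (x : ℤ) : (-1 - x) * (1 - x ^ 2 + x ^ 4 - x ^ 6 + x ^ 8) + (2 - x - 2 * x ^ 2 + 2 * x ^ 3 + x ^ 4 - 2 * x ^ 5 + x ^ 7) * (1 + x + x ^ 2) = 1 := by
  ring

theorem G_2 (x : ℤ) : Gq B x (R 2) = 1 + x + x ^ 5 := by
  rw [Gq_coef B x (R 2) (G 2) (coefOK 2)]
  unfold G
  simp only [Fin.sum_univ_succ, _root_.Int.reduceNeg, _root_.Fin.isValue, _root_.Matrix.cons_val', _root_.Matrix.cons_val_fin_one, _root_.Matrix.cons_val, _root_.Matrix.cons_val_one, _root_.Matrix.cons_val_zero, _root_.Fin.coe_ofNat_eq_mod, _root_.Nat.zero_mod, _root_.pow_zero, _root_.mul_one, _root_.Matrix.cons_val_succ, _root_.Fin.val_succ, _root_.zero_add, _root_.pow_one, _root_.one_mul, _root_.Nat.reduceAdd, _root_.MulZeroClass.zero_mul, _root_.Finset.univ_unique, _root_.Fin.default_eq_zero, _root_.Fin.val_eq_zero, _root_.Finset.sum_const_zero, _root_.add_zero]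
  try ring

theorem bez_2 (x : ℤ) : (2 - 2 * x + 4 * x ^ 2 - 3 * x ^ 3 + x ^ 4) * (1 - x ^ 2 + x ^ 4 - x ^ 6 + x ^ 8) + (3 - x - x ^ 2 + 2 * x ^ 3 - x ^ 4 - 3 * x ^ 5 + 3 * x ^ 6 - x ^ 7) * (1 + x + x ^ 5) = 5 := by
  ring

theorem G_3 (x : ℤ) : Gq B x (R 3) = 1 + x - x ^ 6 := by
  rw [Gq_coef B x (R 3) (G 3) (coefOK 3)]
  unfold G
  simp only [Fin.sum_univ_succ, _root_.Int.reduceNeg, _root_.Fin.isValue, _root_.Matrix.cons_val', _root_.Matrix.cons_val_fin_one, _root_.Matrix.cons_val, _root_.Matrix.cons_val_one, _root_.Matrix.cons_val_zero, _root_.Fin.coe_ofNat_eq_mod, _root_.Nat.zero_mod, _root_.pow_zero, _root_.mul_one, _root_.Matrix.cons_val_succ, _root_.Fin.val_succ, _root_.zero_add, _root_.pow_one, _root_.one_mul, _root_.Nat.reduceAdd, _root_.MulZeroClass.zero_mul, _root_.neg_mul, _root_.Finset.univ_unique, _root_.Fin.default_eq_zero, _root_.Fin.val_eq_zero, _root_.Finset.sum_const_zero,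 _root_.add_zero]
  try ring

theorem bez_3 (x : ℤ) : (6 - 2 * x + x ^ 2 + 2 * x ^ 3 - x ^ 4 - 2 * x ^ 5) * (1 - x ^ 2 + x ^ 4 - x ^ 6 + x ^ 8) + (-1 + 3 * x + 2 * x ^ 2 - 6 * x ^ 3 + 2 * x ^ 4 + 4 * x ^ 5 - x ^ 6 - 2 * x ^ 7) * (1 + x - x ^ 6) = 5 := by
  ring

theorem G_4 (x : ℤ) : Gq B x (R 4) = 1 + x := by
  rw [Gq_coef B x (R 4) (G 4) (coefOK 4)]
  unfold G
  simp only [Fin.sum_univ_succ, _root_.Int.reduceNeg, _root_.Fin.isValue, _root_.Matrix.cons_val', _root_.Matrix.cons_val_fin_one, _root_.Matrix.cons_val, _root_.Matrix.cons_val_one, _root_.Matrix.cons_val_zero, _root_.Fin.coe_ofNat_eq_mod, _root_.Nat.zero_mod, _root_.pow_zero, _root_.mul_one, _root_.Matrix.cons_val_succ, _root_.Fin.val_succ, _root_.zero_add, _root_.pow_one, _root_.one_mul, _root_.Nat.reduceAdd, _root_.MulZeroClass.zero_mul, _root_.Finset.univ_unique, _root_.Fin.default_eq_zero, _root_.Fin.val_eq_zero,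 _root_.Finset.sum_const_zero, _root_.add_zero]
  try ring

theorem bez_4 (x : ℤ) : (1) * (1 - x ^ 2 + x ^ 4 - x ^ 6 + x ^ 8) + (x ^ 2 - x ^ 3 + x ^ 6 - x ^ 7) * (1 + x) = 1 := by
  ring

theorem G_5 (x : ℤ) : Gq B x (R 5) = x ^ 3 + x ^ 4 - x ^ 6 - x ^ 7 := by
  rw [Gq_coef B x (R 5) (G 5) (coefOK 5)]
  unfold G
  simp only [Fin.sum_univ_succ, _root_.Int.reduceNeg, _root_.Fin.isValue, _root_.Matrix.cons_val', _root_.Matrix.cons_val_fin_one, _root_.Matrix.cons_val, _root_.Matrix.cons_val_one, _root_.Matrix.cons_val_zero, _root_.Fin.coe_ofNat_eq_mod, _root_.Nat.zero_mod, _root_.pow_zero, _root_.mul_one, _root_.Matrix.cons_val_succ, _root_.Fin.val_succ, _root_.zero_add, _root_.pow_one, _root_.MulZeroClass.zero_mul, _root_.Nat.reduceAdd, _root_.one_mul, _root_.neg_mul, _root_.Finset.univ_unique, _root_.Fin.default_eq_zero, _root_.Fin.val_eq_zero, _root_.Finset.sum_neg_distrib,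 _root_.Finset.sum_const, _root_.Finset.card_singleton, _root_.Int.nsmul_eq_mul, _root_.Nat.cast_one]
  try ring

theorem bez_5 (x : ℤ) : (1 + x ^ 2 - x ^ 6) * (1 - x ^ 2 + x ^ 4 - x ^ 6 + x ^ 8) + (x ^ 3 - x ^ 4 + x ^ 6 - x ^ 7) * (x ^ 3 + x ^ 4 - x ^ 6 - x ^ 7) = 1 := by
  ring

theorem G_6 (x : ℤ) : Gq B x (R 6) = -1 + x ^ 2 + x ^ 3 := by
  rw [Gq_coef B x (R 6) (G 6) (coefOK 6)]
  unfold G
  simp only [Fin.sum_univ_succ, _root_.Int.reduceNeg, _root_.Fin.isValue, _root_.Matrix.cons_val', _root_.Matrix.cons_val_fin_one, _root_.Matrix.cons_val, _root_.Matrix.cons_val_one, _root_.Matrix.cons_val_zero, _root_.Fin.coe_ofNat_eq_mod, _root_.Nat.zero_mod, _root_.pow_zero, _root_.mul_one, _root_.Matrix.cons_val_succ, _root_.Fin.val_succ, _root_.zero_add, _root_.pow_one, _root_.MulZeroClass.zero_mul, _root_.Nat.reduceAdd, _root_.one_mul, _root_.Finset.univ_unique, _root_.Fin.default_eq_zero,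 _root_.Fin.val_eq_zero, _root_.Finset.sum_const_zero, _root_.add_zero]
  try ring

theorem bez_6 (x : ℤ) : (4 + 3 * x + 2 * x ^ 2) * (1 - x ^ 2 + x ^ 4 - x ^ 6 + x ^ 8) + (-1 + 3 * x - 3 * x ^ 2 - x ^ 3 + 2 * x ^ 4 - x ^ 5 - x ^ 6 - 2 * x ^ 7) * (-1 + x ^ 2 + x ^ 3) = 5 := by
  ring

theorem G_7 (x : ℤ) : Gq B x (R 7) = 1 + x ^ 4 := by
  rw [Gq_coef B x (R 7) (G 7) (coefOK 7)]
  unfold G
  simp only [Fin.sum_univ_succ, _root_.Int.reduceNeg, _root_.Fin.isValue, _root_.Matrix.cons_val', _root_.Matrix.cons_val_fin_one, _root_.Matrix.cons_val, _root_.Matrix.cons_val_one, _root_.Matrix.cons_val_zero, _root_.Fin.coe_ofNat_eq_mod, _root_.Nat.zero_mod, _root_.pow_zero, _root_.mul_one, _root_.Matrix.cons_val_succ, _root_.Fin.val_succ, _root_.zero_add, _root_.pow_one, _root_.MulZeroClass.zero_mul, _root_.Nat.reduceAdd, _root_.one_mul, _root_.Finset.univ_unique, _root_.Fin.default_eq_zero,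 _root_.Fin.val_eq_zero, _root_.Finset.sum_const_zero, _root_.add_zero]
  try ring

theorem bez_7 (x : ℤ) : (1) * (1 - x ^ 2 + x ^ 4 - x ^ 6 + x ^ 8) + (x ^ 2 - x ^ 4) * (1 + x ^ 4) = 1 := by
  ring

theorem G_8 (x : ℤ) : Gq B x (R 8) = 1 + x - x ^ 3 := by
  rw [Gq_coef B x (R 8) (G 8) (coefOK 8)]
  unfold G
  simp only [Fin.sum_univ_succ, _root_.Int.reduceNeg, _root_.Fin.isValue, _root_.Matrix.cons_val', _root_.Matrix.cons_val_fin_one, _root_.Matrix.cons_val, _root_.Matrix.cons_val_one, _root_.Matrix.cons_val_zero, _root_.Fin.coe_ofNat_eq_mod, _root_.Nat.zero_mod, _root_.pow_zero, _root_.mul_one, _root_.Matrix.cons_val_succ, _root_.Fin.val_succ, _root_.zero_add, _root_.pow_one, _root_.one_mul, _root_.Nat.reduceAdd, _root_.MulZeroClass.zero_mul, _root_.neg_mul, _root_.Finset.univ_unique, _root_.Fin.default_eq_zero, _root_.Fin.val_eq_zero, _root_.Finset.sum_const_zero,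 _root_.add_zero]
  try ring

theorem bez_8 (x : ℤ) : (3 - 3 * x + x ^ 2) * (1 - x ^ 2 + x ^ 4 - x ^ 6 + x ^ 8) + (2 + x + x ^ 2 - 2 * x ^ 3 + x ^ 4 + 3 * x ^ 5 - 3 * x ^ 6 + x ^ 7) * (1 + x - x ^ 3) = 5 := by
  ring

theorem G_9 (x : ℤ) : Gq B x (R 9) = x ^ 3 - x ^ 6 := by
  rw [Gq_coef B x (R 9) (G 9) (coefOK 9)]
  unfold G
  simp only [Fin.sum_univ_succ, _root_.Int.reduceNeg, _root_.Fin.isValue, _root_.Matrix.cons_val', _root_.Matrix.cons_val_fin_one, _root_.Matrix.cons_val, _root_.Matrix.cons_val_one, _root_.Matrix.cons_val_zero, _root_.Fin.coe_ofNat_eq_mod, _root_.Nat.zero_mod, _root_.pow_zero, _root_.mul_one, _root_.Matrix.cons_val_succ, _root_.Fin.val_succ, _root_.zero_add, _root_.pow_one, _root_.MulZeroClass.zero_mul, _root_.Nat.reduceAdd, _root_.one_mul, _root_.neg_mul, _root_.Finset.univ_unique, _root_.Fin.default_eq_zero, _root_.Fin.val_eq_zero, _root_.Finset.sum_const_zero,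 _root_.add_zero]
  try ring

theorem bez_9 (x : ℤ) : (1 + x ^ 2 - x ^ 3) * (1 - x ^ 2 + x ^ 4 - x ^ 6 + x ^ 8) + (1 - x ^ 2 + x ^ 3 + x ^ 4 - x ^ 5) * (x ^ 3 - x ^ 6) = 1 := by
  ring

theorem G_10 (x : ℤ) : Gq B x (R 10) = -1 + x ^ 2 + x ^ 3 - x ^ 5 := by
  rw [Gq_coef B x (R 10) (G 10) (coefOK 10)]
  unfold G
  simp only [Fin.sum_univ_succ, _root_.Int.reduceNeg, _root_.Fin.isValue, _root_.Matrix.cons_val', _root_.Matrix.cons_val_fin_one, _root_.Matrix.cons_val, _root_.Matrix.cons_val_one, _root_.Matrix.cons_val_zero, _root_.Fin.coe_ofNat_eq_mod, _root_.Nat.zero_mod, _root_.pow_zero, _root_.mul_one, _root_.Matrix.cons_val_succ, _root_.Fin.val_succ, _root_.zero_add, _root_.pow_one, _root_.MulZeroClass.zero_mul, _root_.Nat.reduceAdd, _root_.one_mul, _root_.neg_mul, _root_.Finset.univ_unique, _root_.Fin.default_eq_zero, _root_.Fin.val_eq_zero, _root_.Finset.sum_const_zero,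 _root_.add_zero]
  try ring

theorem bez_10 (x : ℤ) : (1 + x + x ^ 2 - x ^ 3 - x ^ 4) * (1 - x ^ 2 + x ^ 4 - x ^ 6 + x ^ 8) + (x - x ^ 3 + x ^ 5 - x ^ 6 - x ^ 7) * (-1 + x ^ 2 + x ^ 3 - x ^ 5) = 1 := by
  ring

theorem G_11 (x : ℤ) : Gq B x (R 11) = 1 := by
  rw [Gq_coef B x (R 11) (G 11) (coefOK 11)]
  unfold G
  simp only [Fin.sum_univ_succ, _root_.Int.reduceNeg, _root_.Fin.isValue, _root_.Matrix.cons_val', _root_.Matrix.cons_val_fin_one, _root_.Matrix.cons_val, _root_.Matrix.cons_val_one, _root_.Matrix.cons_val_zero, _root_.Fin.coe_ofNat_eq_mod, _root_.Nat.zero_mod, _root_.pow_zero, _root_.mul_one, _root_.Matrix.cons_val_succ, _root_.Fin.val_succ, _root_.zero_add, _root_.pow_one, _root_.MulZeroClass.zero_mul, _root_.Nat.reduceAdd, _root_.Finset.univ_unique, _root_.Fin.default_eq_zero, _root_.Fin.val_eq_zero, _root_.Finset.sum_const_zero, _root_.add_zero]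
  try ring

theorem bez_11 (x : ℤ) : (0) * (1 - x ^ 2 + x ^ 4 - x ^ 6 + x ^ 8) + (1) * (1) = 1 := by
  ring

/-- Common divisors of `f(x)` and the value of `Gq` on a representative. -/
theorem dvd_of_G {x r : ℤ} (h : r ∣ 1 - x ^ 2 + x ^ 4 - x ^ 6 + x ^ 8) (s : Fin 12) (hs : r ∣ Gq B x (R s)) :
    r ∣ 1 ∨ r ∣ 5 := by
  have key : ∀ {a b g y : ℤ}, a * (1 - x ^ 2 + x ^ 4 - x ^ 6 + x ^ 8) + b * g = y → r ∣ g → r ∣ y := fun e hg => by
    rw [← e]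
    exact dvd_add (h.mul_left _) (hg.mul_left _)
  fin_cases s
  · exact Or.inl (key (bez_0 x) (by rw [← G_0]; exact hs))
  · exact Or.inl (key (bez_1 x) (by rw [← G_1]; exact hs))
  · exact Or.inr (key (bez_2 x) (by rw [← G_2]; exact hs))
  · exact Or.inr (key (bez_3 x) (by rw [← G_3]; exact hs))
  · exact Or.inl (key (bez_4 x) (by rw [← G_4]; exact hs))
  · exact Or.inl (key (bez_5 x) (by rw [← G_5]; exact hs))
  · exact Or.inr (key (bez_6 x) (by rw [← G_6]; exact hs))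
  · exact Or.inl (key (bez_7 x) (by rw [← G_7]; exact hs))
  · exact Or.inr (key (bez_8 x) (by rw [← G_8]; exact hs))
  · exact Or.inl (key (bez_9 x) (by rw [← G_9]; exact hs))
  · exact Or.inl (key (bez_10 x) (by rw [← G_10]; exact hs))
  · exact Or.inl (key (bez_11 x) (by rw [← G_11]; exact hs))

end Cfsg.Agent.H129.DataE8b
end

-- part: H129/CycT
section
/-!
# Isolated cyclic tori of the untwisted exceptional groups (helper129)

* `CycExact G m` : a cyclic subgroup of order `m` equal to the centraliser of each of its non-trivial elements;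
* `CycAt G r` : a cyclic subgroup of order divisible by `r` containing the centralisers of its elements of order `r`;
* rows for `G₂`, `F₄`, `E₆`, `E₇`, `E₈`.
-/

set_option autoImplicit false
set_option linter.unusedSectionVars false

namespace Cfsg.Agent.H129.CycT

open CoxeterSystem Cfsg Cfsg.Lie Cfsg.Lie.ChevalleyDatum
open Cfsg.Agent.ChevalleyStructure Cfsg.Agent.ChevalleyStructure.Elts Cfsg.Agent.ChevalleyStructure.CoxeterGeom
  Cfsg.Agent.ChevalleyStructure.CoxeterGeomTypes Cfsg.Agent.ChevalleyStructure.NPerm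
open Cfsg.Agent.Tits.Roots Cfsg.Agent.Tits.Core Cfsg.Agent.Nodes Cfsg.Agent.Nodes.Reps Cfsg.Agent.Nodes.BNOf
  Cfsg.Agent.Nodes.RGDChev Cfsg.Agent.Nodes.Bruhat Cfsg.Agent.Nodes.SubComb Cfsg.Agent.Nodes.Coroot
open Cfsg.Agent.H129 Cfsg.Agent.H129.TorusChar Cfsg.Agent.H129.TorusTw Cfsg.Agent.H129.WData Cfsg.Agent.H129.TorAct
  Cfsg.Agent.H129.RealT

universe u

section Abs

variable {G : Type*} [Group G]

/-- A cyclic subgroup of order `m` equal to the centraliser of each of its non-trivial elements. -/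
def CycExact (G : Type*) [Group G] (m : ℕ) : Prop :=
  ∃ T : Subgroup G, IsCyclic ↥T ∧ Nat.card ↥T = m ∧ ∀ y ∈ T, y ≠ 1 → Subgroup.centralizer {y} = T

/-- A cyclic subgroup of order divisible by `r` containing the centralisers of its elements of order `r`. -/
def CycAt (G : Type*) [Group G] (r : ℕ) : Prop :=
  ∃ T : Subgroup G, IsCyclic ↥T ∧ r ∣ Nat.card ↥T ∧ ∀ y ∈ T, orderOf y = r → Subgroup.centralizer {y} ≤ T

theorem le_centralizer_of_cyclic {T : Subgroup G} (h : IsCyclic ↥T) {y : G} (hy : y ∈ T) :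
    T ≤ Subgroup.centralizer {y} := by
  intro z hz
  rw [Subgroup.mem_centralizer_singleton_iff]
  have := (IsCyclic.commGroup (α := T)).mul_comm ⟨z, hz⟩ ⟨y, hy⟩
  exact congrArg Subtype.val this

theorem exact_of [Finite G] {T : Subgroup G} (h : IsCyclic ↥T) {m : ℕ} (hm : Nat.card ↥T = m)
    (hc : ∀ r : ℕ, r.Prime → r ∣ m → ∀ y ∈ T, orderOf y = r → Subgroup.centralizer {y} ≤ T) : CycExact G m := by
  refine ⟨T, h, hm, fun y hy hy1 => le_antisymm (cent_le_of_prime (fun r hr y hy hyr => hc r hr ?_ y hy hyr) hy hy1)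
    (le_centralizer_of_cyclic h hy)⟩
  rw [← hm, ← hyr]
  have := orderOf_dvd_natCard (⟨y, hy⟩ : ↥T)
  rwa [Subgroup.orderOf_mk] at this

theorem CycExact.cycAt {m r : ℕ} (h : CycExact G m) (hr : r.Prime) (hrm : r ∣ m) : CycAt G r := by
  obtain ⟨T, h1, h2, h3⟩ := h
  refine ⟨T, h1, h2 ▸ hrm, fun y hy hyr => (h3 y hy ?_).le⟩
  rintro rfl
  rw [orderOf_one] at hyr
  exact hr.one_lt.ne hyr

theorem CycExact.congr {H : Type*} [Group H] (e : G ≃* H) {m : ℕ} (h : CycExact G m) : CycExact H m := by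
  obtain ⟨T, h1, h2, h3⟩ := h
  refine ⟨T.map e.toMonoidHom, (T.equivMapOfInjective e.toMonoidHom e.injective).isCyclic.1 h1, ?_, ?_⟩
  · rw [Nat.card_congr (T.equivMapOfInjective e.toMonoidHom e.injective).symm.toEquiv]
    exact h2
  · rintro _ ⟨y, hy, rfl⟩ hy1
    have hy1' : y ≠ 1 := fun h => hy1 (by rw [h, map_one])
    ext z
    rw [Subgroup.mem_centralizer_singleton_iff, Subgroup.mem_map]
    constructor
    · intro hz
      refine ⟨e.symm z, ?_, by simp⟩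
      rw [← h3 y hy hy1', Subgroup.mem_centralizer_singleton_iff]
      apply e.injective
      simpa only [_root_.map_mul, _root_.MulEquiv.apply_symm_apply, _root_.MulEquiv.toMonoidHom_eq_coe, _root_.MonoidHom.coe_coe] using hz
    · rintro ⟨x, hx, rfl⟩
      rw [← h3 y hy hy1', Subgroup.mem_centralizer_singleton_iff] at hx
      have := congrArg e hx
      simpa only [_root_.MulEquiv.toMonoidHom_eq_coe, _root_.MonoidHom.coe_coe, _root_.map_mul] using this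

theorem CycAt.congr {H : Type*} [Group H] (e : G ≃* H) {r : ℕ} (h : CycAt G r) : CycAt H r := by
  obtain ⟨T, h1, h2, h3⟩ := h
  refine ⟨T.map e.toMonoidHom, (T.equivMapOfInjective e.toMonoidHom e.injective).isCyclic.1 h1, ?_, ?_⟩
  · rw [Nat.card_congr (T.equivMapOfInjective e.toMonoidHom e.injective).symm.toEquiv]
    exact h2
  · rintro _ ⟨y, hy, rfl⟩ hyr z hz
    rw [Subgroup.mem_centralizer_singleton_iff] at hz
    have ho : orderOf y = r := by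
      rw [← hyr]
      exact (orderOf_injective e.toMonoidHom e.injective y).symm
    refine ⟨e.symm z, h3 y hy ho ?_, by simp⟩
    rw [Subgroup.mem_centralizer_singleton_iff]
    apply e.injective
    simpa only [_root_.map_mul, _root_.MulEquiv.apply_symm_apply, _root_.MulEquiv.toMonoidHom_eq_coe, _root_.MonoidHom.coe_coe] using hz

end Abs

/-! ### the general rows -/

section Gen

variable {D : ChevalleyDatum} {l : ℕ} {M : CoxeterMatrix (Fin l)} (hp : IsType D l M)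
  {W : Type*} [Group W] (cs : CoxeterSystem M W)

include hp cs in
theorem at_untw [Finite W] (hl : 0 < l) {F : Type u} [Field F] [Fintype F] {q : ℕ} (hq : Fintype.card F = q)
    {d' : ℕ} {B' : Fin l → Fin l → ℤ} (hB : InvC D l d' B') (hd' : d' ≠ 0)
    {A : Mat l} (hA : ∀ i j, A i j = cartanOf D l i j) {L : List (Fin l × Mat l)} (hL : ChainOK A L)
    {V B : Mat l} {c : Fin l → ℤ} (hcyc : CycOK l (hd L) V B c) {m : ℕ} {R : Fin m → Fin l → ℤ} {prv dep : ℕ → ℕ}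
    (hR : RootOK D l (hd L) R prv dep) {N : ℕ} (hfN : fN c (q : ℤ) = N) (hqN : q.Coprime N) {r : ℕ} (hr : r.Prime)
    (hrN : r ∣ N) (hrd : ¬ r ∣ d') (hrW : ¬ r ∣ Nat.card W) (hG : ∀ s, ¬ (r : ℤ) ∣ Gq B (q : ℤ) (R s)) :
    CycAt ↥(D.group F) r := by
  obtain ⟨T, h1, h2, h3, h4, -⟩ := UntwT.untw_T hp cs hl hq hB hd' hA hL hcyc hR hfN hqN (d := d') (Or.inl rfl)
  exact ⟨T, h1, dvd_of_dvd_mul hr hrN hrd h3, h4 r hr hrW hG⟩

include hp cs in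
theorem exact_untw [Finite W] (hl : 0 < l) {F : Type u} [Field F] [Fintype F] {q : ℕ} (hq : Fintype.card F = q)
    {d' : ℕ} {B' : Fin l → Fin l → ℤ} (hB : InvC D l d' B') (hd' : d' ≠ 0)
    {A : Mat l} (hA : ∀ i j, A i j = cartanOf D l i j) {L : List (Fin l × Mat l)} (hL : ChainOK A L)
    {V B : Mat l} {c : Fin l → ℤ} (hcyc : CycOK l (hd L) V B c) {m : ℕ} {R : Fin m → Fin l → ℤ} {prv dep : ℕ → ℕ}
    (hR : RootOK D l (hd L) R prv dep) {N : ℕ} (hfN : fN c (q : ℤ) = N) (hqN : q.Coprime N) {d : ℕ}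
    (hdd : d = d' ∨ d = 1 ∧ ∀ a : F, ∃ b : F, b ^ d' = a) (hNd : N.Coprime d)
    (hgood : ∀ r : ℕ, r.Prime → r ∣ N → ¬ r ∣ Nat.card W ∧ ∀ s, ¬ (r : ℤ) ∣ Gq B (q : ℤ) (R s)) :
    CycExact ↥(D.group F) N := by
  obtain ⟨T, h1, h2, h3, h4, -⟩ := UntwT.untw_T hp cs hl hq hB hd' hA hL hcyc hR hfN hqN hdd
  exact exact_of h1 (Nat.dvd_antisymm h2 (hNd.dvd_of_dvd_mul_left h3)) fun r hr hrN y hy hyr =>
    h4 r hr (hgood r hr hrN).1 (hgood r hr hrN).2 y hy hyr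

theorem eq_of_index {d a N : ℕ} (hd : d.Prime) (hN0 : N ≠ 0) (h1 : a ∣ N) (h2 : N ∣ d * a) (h3 : a ≠ N) :
    a = N / d := by
  obtain ⟨m1, hm1⟩ := h1
  obtain ⟨m2, hm2⟩ := h2
  have h4 : a ≠ 0 := fun h0 => hN0 (by rw [hm1, h0, zero_mul])
  have h5 : m1 * m2 = d := by
    have h6 : a * (m1 * m2) = a * d := by
      rw [← mul_assoc, ← hm1, ← hm2, mul_comm]
    exact Nat.eq_of_mul_eq_mul_left (Nat.pos_of_ne_zero h4) h6
  rcases (Nat.dvd_prime hd).1 ⟨m2, h5.symm⟩ with h7 | h7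
  · exfalso
    rw [h7, mul_one] at hm1
    exact h3 hm1.symm
  · rw [h7] at hm1
    rw [hm1, Nat.mul_div_cancel _ hd.pos]

end Gen

/-! ### primes -/

/-- the cast of a divisibility -/
theorem cast_dvd {r N : ℕ} {z : ℤ} (hN : (N : ℤ) = z) (h : r ∣ N) : (r : ℤ) ∣ z := by
  rw [← hN]; exact Int.natCast_dvd_natCast.2 h

theorem not_one {r : ℕ} (hr : r.Prime) (h : (r : ℤ) ∣ 1) : False := hr.one_lt.ne' (Nat.dvd_one.1 (by exact_mod_cast h))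

theorem not_prime {r s : ℕ} (hr : r.Prime) (hs : s.Prime) (hne : r ≠ s) (h : (r : ℤ) ∣ (s : ℤ)) : False :=
  hne ((Nat.prime_dvd_prime_iff_eq hr hs).1 (Int.natCast_dvd_natCast.1 h))

theorem coprime_of_ne {N d : ℕ} (hd : d.Prime) (h : ¬ d ∣ N) : N.Coprime d :=
  ((Nat.Prime.coprime_iff_not_dvd hd).2 h).symm

variable {F : Type u} [Field F] [Fintype F] {q : ℕ}

/-! ### `G₂` -/

theorem cardW_G2 : Nat.card CoxeterMatrix.G₂.Group = 12 := Cfsg.Agent.S1092.result (⟨2, CoxeterMatrix.G₂⟩, 12) (by simp)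

theorem typeG2 : IsType Cfsg.Lie.chevG2 2 CoxeterMatrix.G₂ := by simp

theorem not_dvd_W_G2 {r : ℕ} (hr : r.Prime) (h2 : r ≠ 2) (h3 : r ≠ 3) : ¬ r ∣ Nat.card CoxeterMatrix.G₂.Group := by
  rw [cardW_G2]
  intro h
  rw [show (12 : ℕ) = 2 ^ 2 * 3 by norm_num] at h
  rcases (Nat.Prime.dvd_mul hr).1 h with h | h
  · exact h2 ((Nat.prime_dvd_prime_iff_eq hr Nat.prime_two).1 (hr.dvd_of_dvd_pow h))
  · exact h3 ((Nat.prime_dvd_prime_iff_eq hr Nat.prime_three).1 h)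

theorem good_G2_3 {N : ℕ} (hN : (N : ℤ) = 1 + (q : ℤ) + (q : ℤ) ^ 2) {r : ℕ} (hr : r.Prime)
    (hrN : r ∣ N) (hr3 : r ≠ 3) :
    ¬ r ∣ Nat.card CoxeterMatrix.G₂.Group ∧ ∀ s, ¬ (r : ℤ) ∣ Gq DataG2.B (q : ℤ) (DataG2.R s) := by
  have hz : (1 + (q : ZMod r) + (q : ZMod r) ^ 2 = 0) := by
    have := zmod_of_dvd hN hrN
    push_cast at this
    exact this
  refine ⟨not_dvd_W_G2 hr ?_ hr3, fun s hs => ?_⟩
  · rintro rfl
    generalize (q : ZMod 2) = x at hz; revert hz; revert x; decide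
  · rcases DataG2.dvd_of_G (cast_dvd hN hrN) s hs with h | h
    · exact not_one hr h
    · exact not_prime hr Nat.prime_three hr3 h

theorem good_G2_6 {N : ℕ} (hN : (N : ℤ) = 1 - (q : ℤ) + (q : ℤ) ^ 2) {r : ℕ} (hr : r.Prime)
    (hrN : r ∣ N) (hr3 : r ≠ 3) :
    ¬ r ∣ Nat.card CoxeterMatrix.G₂.Group ∧ ∀ s, ¬ (r : ℤ) ∣ Gq DataG2h.B (q : ℤ) (DataG2h.R s) := by
  have hz : (1 - (q : ZMod r) + (q : ZMod r) ^ 2 = 0) := by
    have := zmod_of_dvd hN hrN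
    push_cast at this
    exact this
  refine ⟨not_dvd_W_G2 hr ?_ hr3, fun s hs => ?_⟩
  · rintro rfl
    generalize (q : ZMod 2) = x at hz; revert hz; revert x; decide
  · rcases DataG2h.dvd_of_G (cast_dvd hN hrN) s hs with h | h
    · exact not_one hr h
    · exact not_prime hr Nat.prime_three hr3 h

/-- **`G₂(q)`, `Φ₃`**: order `q² + q + 1`, not divisible by 3. -/
theorem exact_G2_3 (hq : Fintype.card F = q) {N : ℕ} (hN : (N : ℤ) = 1 + (q : ℤ) + (q : ℤ) ^ 2)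
    (h3 : ¬ 3 ∣ N) : CycExact ↥(chevG2.group F) N := by
  have : Finite CoxeterMatrix.G₂.Group := Nat.finite_of_card_ne_zero (by rw [cardW_G2]; norm_num)
  exact exact_untw typeG2 CoxeterMatrix.G₂.toCoxeterSystem (by norm_num) hq TorusChar.invC_G2 one_ne_zero DataG2.hA
    DataG2.chainOK DataG2.cycOK DataG2.rootOK (by rw [DataG2.fN_eq, hN])
    (UntwData.coprime_of_eq (a := 1 + (q : ℤ)) (by rw [hN]; ring)) (d := 1) (Or.inl rfl) (Nat.coprime_one_right _)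
    fun r hr hrN => good_G2_3 hN hr hrN (by rintro rfl; exact h3 hrN)

/-- **`G₂(q)`, `Φ₆`**: order `q² - q + 1`, not divisible by 3. -/
theorem exact_G2_6 (hq : Fintype.card F = q) {N : ℕ} (hN : (N : ℤ) = 1 - (q : ℤ) + (q : ℤ) ^ 2)
    (h3 : ¬ 3 ∣ N) : CycExact ↥(chevG2.group F) N := by
  have : Finite CoxeterMatrix.G₂.Group := Nat.finite_of_card_ne_zero (by rw [cardW_G2]; norm_num)
  exact exact_untw typeG2 CoxeterMatrix.G₂.toCoxeterSystem (by norm_num) hq TorusChar.invC_G2 one_ne_zero DataG2h.hA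
    DataG2h.chainOK DataG2h.cycOK DataG2h.rootOK (by rw [DataG2h.fN_eq, hN])
    (UntwData.coprime_of_eq (a := -1 + (q : ℤ)) (by rw [hN]; ring)) (d := 1) (Or.inl rfl) (Nat.coprime_one_right _)
    fun r hr hrN => good_G2_6 hN hr hrN (by rintro rfl; exact h3 hrN)

theorem at_G2_3 (hq : Fintype.card F = q) {N : ℕ} (hN : (N : ℤ) = 1 + (q : ℤ) + (q : ℤ) ^ 2) {r : ℕ} (hr : r.Prime)
    (hrN : r ∣ N) (hr3 : r ≠ 3) : CycAt ↥(chevG2.group F) r := by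
  have : Finite CoxeterMatrix.G₂.Group := Nat.finite_of_card_ne_zero (by rw [cardW_G2]; norm_num)
  exact at_untw typeG2 CoxeterMatrix.G₂.toCoxeterSystem (by norm_num) hq TorusChar.invC_G2 one_ne_zero DataG2.hA
    DataG2.chainOK DataG2.cycOK DataG2.rootOK (by rw [DataG2.fN_eq, hN])
    (UntwData.coprime_of_eq (a := 1 + (q : ℤ)) (by rw [hN]; ring)) hr hrN
    (fun h => hr.one_lt.ne' (Nat.dvd_one.1 h)) (good_G2_3 hN hr hrN hr3).1 (good_G2_3 hN hr hrN hr3).2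

theorem at_G2_6 (hq : Fintype.card F = q) {N : ℕ} (hN : (N : ℤ) = 1 - (q : ℤ) + (q : ℤ) ^ 2) {r : ℕ} (hr : r.Prime)
    (hrN : r ∣ N) (hr3 : r ≠ 3) : CycAt ↥(chevG2.group F) r := by
  have : Finite CoxeterMatrix.G₂.Group := Nat.finite_of_card_ne_zero (by rw [cardW_G2]; norm_num)
  exact at_untw typeG2 CoxeterMatrix.G₂.toCoxeterSystem (by norm_num) hq TorusChar.invC_G2 one_ne_zero DataG2h.hA
    DataG2h.chainOK DataG2h.cycOK DataG2h.rootOK (by rw [DataG2h.fN_eq, hN])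
    (UntwData.coprime_of_eq (a := -1 + (q : ℤ)) (by rw [hN]; ring)) hr hrN
    (fun h => hr.one_lt.ne' (Nat.dvd_one.1 h)) (good_G2_6 hN hr hrN hr3).1 (good_G2_6 hN hr hrN hr3).2

/-! ### `F₄` -/

theorem cardW_F4 : Nat.card CoxeterMatrix.F₄.Group = 1152 :=
  Cfsg.Agent.S1092.result (⟨4, CoxeterMatrix.F₄⟩, 1152) (by simp)

theorem typeF4 : IsType Cfsg.Lie.chevF4 4 CoxeterMatrix.F₄ := by simp

theorem not_dvd_W_F4 {r : ℕ} (hr : r.Prime) (h2 : r ≠ 2) (h3 : r ≠ 3) : ¬ r ∣ Nat.card CoxeterMatrix.F₄.Group := by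
  rw [cardW_F4]
  intro h
  rw [show (1152 : ℕ) = 2 ^ 7 * 3 ^ 2 by norm_num] at h
  rcases (Nat.Prime.dvd_mul hr).1 h with h | h
  · exact h2 ((Nat.prime_dvd_prime_iff_eq hr Nat.prime_two).1 (hr.dvd_of_dvd_pow h))
  · exact h3 ((Nat.prime_dvd_prime_iff_eq hr Nat.prime_three).1 (hr.dvd_of_dvd_pow h))

theorem good_F4_12 {N : ℕ} (hN : (N : ℤ) = 1 - (q : ℤ) ^ 2 + (q : ℤ) ^ 4) {r : ℕ} (hr : r.Prime) (hrN : r ∣ N) :
    ¬ r ∣ Nat.card CoxeterMatrix.F₄.Group ∧ ∀ s, ¬ (r : ℤ) ∣ Gq DataF4h.B (q : ℤ) (DataF4h.R s) := by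
  have hz : (1 - (q : ZMod r) ^ 2 + (q : ZMod r) ^ 4 = 0) := by
    have := zmod_of_dvd hN hrN
    push_cast at this
    exact this
  have hr2 : r ≠ 2 := by
    rintro rfl
    generalize (q : ZMod 2) = x at hz; revert hz; revert x; decide
  have hr3 : r ≠ 3 := by
    rintro rfl
    generalize (q : ZMod 3) = x at hz; revert hz; revert x; decide
  refine ⟨not_dvd_W_F4 hr hr2 hr3, fun s hs => ?_⟩
  rcases DataF4h.dvd_of_G (cast_dvd hN hrN) s hs with h | h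
  · exact not_one hr h
  · exact not_prime hr Nat.prime_two hr2 h

theorem good_F4_8 {N : ℕ} (hN : (N : ℤ) = 1 + (q : ℤ) ^ 4) {r : ℕ} (hr : r.Prime) (hrN : r ∣ N) (hr2 : r ≠ 2) :
    ¬ r ∣ Nat.card CoxeterMatrix.F₄.Group ∧ ∀ s, ¬ (r : ℤ) ∣ Gq DataF4.B (q : ℤ) (DataF4.R s) := by
  have hz : (1 + (q : ZMod r) ^ 4 = 0) := by
    have := zmod_of_dvd hN hrN
    push_cast at this
    exact this
  have hr3 : r ≠ 3 := by
    rintro rfl
    generalize (q : ZMod 3) = x at hz; revert hz; revert x; decide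
  refine ⟨not_dvd_W_F4 hr hr2 hr3, fun s hs => ?_⟩
  rcases DataF4.dvd_of_G (cast_dvd hN hrN) s hs with h | h
  · exact not_one hr h
  · exact not_prime hr Nat.prime_two hr2 h

/-- **`F₄(q)`, `Φ₁₂`**: order `q⁴ - q² + 1`. -/
theorem exact_F4_12 (hq : Fintype.card F = q) {N : ℕ} (hN : (N : ℤ) = 1 - (q : ℤ) ^ 2 + (q : ℤ) ^ 4) :
    CycExact ↥(chevF4.group F) N := by
  have : Finite CoxeterMatrix.F₄.Group := Nat.finite_of_card_ne_zero (by rw [cardW_F4]; norm_num)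
  exact exact_untw typeF4 CoxeterMatrix.F₄.toCoxeterSystem (by norm_num) hq TorusChar.invC_F4 one_ne_zero DataF4h.hA
    DataF4h.chainOK DataF4h.cycOK DataF4h.rootOK (by rw [DataF4h.fN_eq, hN])
    (UntwData.coprime_of_eq (a := -(q : ℤ) + (q : ℤ) ^ 3) (by rw [hN]; ring)) (d := 1) (Or.inl rfl)
    (Nat.coprime_one_right _) fun r hr hrN => good_F4_12 hN hr hrN

/-- **`F₄(q)`, `Φ₈`**, `q` even: order `q⁴ + 1`. -/
theorem exact_F4_8 (hq : Fintype.card F = q) {N : ℕ} (hN : (N : ℤ) = 1 + (q : ℤ) ^ 4) (h2 : ¬ 2 ∣ N) :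
    CycExact ↥(chevF4.group F) N := by
  have : Finite CoxeterMatrix.F₄.Group := Nat.finite_of_card_ne_zero (by rw [cardW_F4]; norm_num)
  exact exact_untw typeF4 CoxeterMatrix.F₄.toCoxeterSystem (by norm_num) hq TorusChar.invC_F4 one_ne_zero DataF4.hA
    DataF4.chainOK DataF4.cycOK DataF4.rootOK (by rw [DataF4.fN_eq, hN])
    (UntwData.coprime_of_eq (a := (q : ℤ) ^ 3) (by rw [hN]; ring)) (d := 1) (Or.inl rfl)
    (Nat.coprime_one_right _) fun r hr hrN => good_F4_8 hN hr hrN (by rintro rfl; exact h2 hrN)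

theorem at_F4_8 (hq : Fintype.card F = q) {N : ℕ} (hN : (N : ℤ) = 1 + (q : ℤ) ^ 4) {r : ℕ} (hr : r.Prime)
    (hrN : r ∣ N) (hr2 : r ≠ 2) : CycAt ↥(chevF4.group F) r := by
  have : Finite CoxeterMatrix.F₄.Group := Nat.finite_of_card_ne_zero (by rw [cardW_F4]; norm_num)
  exact at_untw typeF4 CoxeterMatrix.F₄.toCoxeterSystem (by norm_num) hq TorusChar.invC_F4 one_ne_zero DataF4.hA
    DataF4.chainOK DataF4.cycOK DataF4.rootOK (by rw [DataF4.fN_eq, hN])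
    (UntwData.coprime_of_eq (a := (q : ℤ) ^ 3) (by rw [hN]; ring)) hr hrN
    (fun h => hr.one_lt.ne' (Nat.dvd_one.1 h)) (good_F4_8 hN hr hrN hr2).1 (good_F4_8 hN hr hrN hr2).2

/-! ### `E₆` -/

theorem typeE6 : IsType Cfsg.Lie.chevE6 6 CoxeterMatrix.E₆ := by simp

theorem not_dvd_W_E6 {r : ℕ} (hr : r.Prime) (h2 : r ≠ 2) (h3 : r ≠ 3) (h5 : r ≠ 5) :
    ¬ r ∣ Nat.card CoxeterMatrix.E₆.Group := by
  rw [TwT.card_W6]
  intro h
  rw [show (51840 : ℕ) = 2 ^ 7 * 3 ^ 4 * 5 by norm_num] at h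
  rcases (Nat.Prime.dvd_mul hr).1 h with h | h
  · rcases (Nat.Prime.dvd_mul hr).1 h with h | h
    · exact h2 ((Nat.prime_dvd_prime_iff_eq hr Nat.prime_two).1 (hr.dvd_of_dvd_pow h))
    · exact h3 ((Nat.prime_dvd_prime_iff_eq hr Nat.prime_three).1 (hr.dvd_of_dvd_pow h))
  · exact h5 ((Nat.prime_dvd_prime_iff_eq hr Nat.prime_five).1 h)

theorem primes_9 {N : ℕ} (hN : (N : ℤ) = 1 + (q : ℤ) ^ 3 + (q : ℤ) ^ 6) :
    ¬ 9 ∣ N ∧ ∀ {r : ℕ}, r ∣ N → r ≠ 2 ∧ r ≠ 5 ∧ r ≠ 7 := by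
  have hz : ∀ n : ℕ, n ∣ N → (1 + (q : ZMod n) ^ 3 + (q : ZMod n) ^ 6 = 0) := by
    intro n h
    have := zmod_of_dvd hN h
    push_cast at this
    exact this
  refine ⟨fun h => ?_, fun {r} hrN => ⟨?_, ?_, ?_⟩⟩
  · have h3 := hz 9 h
    generalize (q : ZMod 9) = x at h3; revert h3; revert x; decide
  · rintro rfl
    have h3 := hz 2 hrN
    generalize (q : ZMod 2) = x at h3; revert h3; revert x; decide
  · rintro rfl
    have h3 := hz 5 hrN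
    generalize (q : ZMod 5) = x at h3; revert h3; revert x; decide
  · rintro rfl
    have h3 := hz 7 hrN
    generalize (q : ZMod 7) = x at h3; revert h3; revert x; decide

theorem good_E6_9 {N : ℕ} (hN : (N : ℤ) = 1 + (q : ℤ) ^ 3 + (q : ℤ) ^ 6) {r : ℕ} (hr : r.Prime) (hrN : r ∣ N)
    (hr3 : r ≠ 3) :
    ¬ r ∣ Nat.card CoxeterMatrix.E₆.Group ∧ ∀ s, ¬ (r : ℤ) ∣ Gq DataE6n.B (q : ℤ) (DataE6n.R s) := by
  obtain ⟨h2, h5, -⟩ := (primes_9 hN).2 hrN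
  refine ⟨not_dvd_W_E6 hr h2 hr3 h5, fun s hs => ?_⟩
  rcases DataE6n.dvd_of_G (cast_dvd hN hrN) s hs with h | h
  · exact not_one hr h
  · exact not_prime hr Nat.prime_three hr3 h

theorem at_E6_9 (hq : Fintype.card F = q) {N : ℕ} (hN : (N : ℤ) = 1 + (q : ℤ) ^ 3 + (q : ℤ) ^ 6) {r : ℕ}
    (hr : r.Prime) (hrN : r ∣ N) (hr3 : r ≠ 3) : CycAt ↥(chevE6.group F) r := by
  have := TwT.finite_W6
  exact at_untw typeE6 CoxeterMatrix.E₆.toCoxeterSystem (by norm_num) hq TorusChar.invC_E6 (by norm_num) DataE6n.hA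
    DataE6n.chainOK DataE6n.cycOK DataE6n.rootOK (by rw [DataE6n.fN_eq, hN])
    (UntwData.coprime_of_eq (a := (q : ℤ) ^ 2 + (q : ℤ) ^ 5) (by rw [hN]; ring)) hr hrN
    (fun h => hr3 ((Nat.prime_dvd_prime_iff_eq hr Nat.prime_three).1 h)) (good_E6_9 hN hr hrN hr3).1
    (good_E6_9 hN hr hrN hr3).2

/-- **`E₆(q)`, `Φ₉`**: order `(q⁶ + q³ + 1)/(3, q - 1)`. -/
theorem exact_E6_9 (hq : Fintype.card F = q) {N : ℕ} (hN : (N : ℤ) = 1 + (q : ℤ) ^ 3 + (q : ℤ) ^ 6) :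
    CycExact ↥(chevE6.group F) (N / Nat.gcd 3 (q - 1)) := by
  have := TwT.finite_W6
  have hq2 : 2 ≤ q := by rw [← hq]; exact Fintype.one_lt_card
  have hN0 : N ≠ 0 := by
    rintro rfl
    have : (0 : ℤ) < 1 + (q : ℤ) ^ 3 + (q : ℤ) ^ 6 := by positivity
    rw [← hN] at this
    norm_num at this
  have hqN : q.Coprime N := UntwData.coprime_of_eq (a := (q : ℤ) ^ 2 + (q : ℤ) ^ 5) (by rw [hN]; ring)
  by_cases hd : 3 ∣ q - 1
  · rw [Nat.gcd_eq_left hd]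
    obtain ⟨T, h1, h2, h3, h4, h5⟩ := Cfsg.Agent.H150.untw_Td typeE6 CoxeterMatrix.E₆.toCoxeterSystem (by norm_num) hq
      Nat.prime_three TorusChar.invC_E6 hd (PhiE.isPhi_E6 _) (kv := ![1, 0, 2, 0, 1, 2]) (i0 := ⟨0, by decide⟩) rfl
      (by (rewrite [Cfsg.Agent.ChevFast.E6.cartan]; decide +kernel))
      (Bc := ![![4, 3, 5, 6, 4, 2], ![3, 6, 6, 9, 6, 3], ![5, 6, 10, 12, 8, 4],
        ![6, 9, 12, 18, 12, 6], ![4, 6, 8, 12, 10, 5], ![2, 3, 4, 6, 5, 4]]) (by decide +kernel)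
      DataE6n.hA DataE6n.chainOK DataE6n.cycOK DataE6n.rootOK (N := N) (by rw [DataE6n.fN_eq, hN]) hqN
    have h6 := eq_of_index Nat.prime_three hN0 h2 h3 h4
    have h3N : 3 ∣ N := by
      have h4 : (q : ZMod 3) = 1 := by
        have h7 := (ZMod.natCast_eq_zero_iff (q - 1) 3).2 hd
        rw [Nat.cast_sub (by omega), Nat.cast_one] at h7
        exact sub_eq_zero.1 h7
      rw [← ZMod.natCast_eq_zero_iff]
      have h7 : ((N : ℤ) : ZMod 3) = 0 := by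
        rw [hN]
        push_cast
        rw [h4]
        decide
      exact_mod_cast h7
    refine exact_of h1 h6 fun r hr hrN y hy hyr => ?_
    have hrN' : r ∣ N := hrN.trans (Nat.div_dvd_of_dvd h3N)
    have hr3 : r ≠ 3 := by
      rintro rfl
      apply (primes_9 hN).1
      obtain ⟨m, hm⟩ := hrN
      refine ⟨m, ?_⟩
      have := Nat.mul_div_cancel' h3N
      rw [← this, hm]
      ring
    exact h5 r hr (good_E6_9 hN hr hrN' hr3).1 (good_E6_9 hN hr hrN' hr3).2 y hy hyr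
  · rw [(Nat.Prime.coprime_iff_not_dvd Nat.prime_three).2 hd, Nat.div_one]
    have h3N : ¬ 3 ∣ N := by
      intro h
      have h3 : (1 + (q : ZMod 3) ^ 3 + (q : ZMod 3) ^ 6 = 0) := by
        have := zmod_of_dvd hN h
        push_cast at this
        exact this
      have h4 : (q : ZMod 3) = 1 := by
        generalize (q : ZMod 3) = x at h3 ⊢; revert h3; revert x; decide
      apply hd
      rw [← ZMod.natCast_eq_zero_iff, Nat.cast_sub (by omega), h4]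
      norm_num
    exact exact_untw typeE6 CoxeterMatrix.E₆.toCoxeterSystem (by norm_num) hq TorusChar.invC_E6 (by norm_num)
      DataE6n.hA DataE6n.chainOK DataE6n.cycOK DataE6n.rootOK (by rw [DataE6n.fN_eq, hN]) hqN (d := 3) (Or.inl rfl)
      (coprime_of_ne Nat.prime_three h3N) fun r hr hrN => good_E6_9 hN hr hrN (by rintro rfl; exact h3N hrN)

end Cfsg.Agent.H129.CycT
end
end

-- part: H129/DataTE6e
section
set_option linter.all false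
open scoped Cfsg.Agent.FastGrp

/-!
# Data of the torus of order `(q⁴ + 1)(q² - 1)` of `²E₆(q)` (helper129)
-/

set_option autoImplicit false

namespace Cfsg.Agent.H129.DataTE6e

open Cfsg.Agent.H129.TorusTw Cfsg.Agent.H129.WData Cfsg.Agent.ChevalleyStructure.CoxeterGeomTypes
open Cfsg.Lie Cfsg.Lie.ChevalleyDatum

/-- the Cartan matrix -/
def Am : Mat 6 := ![![2, 0, -1, 0, 0, 0],
    ![0, 2, 0, -1, 0, 0],
    ![-1, 0, 2, -1, 0, 0],
    ![0, -1, -1, 2, -1, 0],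
    ![0, 0, 0, -1, 2, -1],
    ![0, 0, 0, 0, -1, 2]]

/-- the partial products -/
def chain : List (Fin 6 × Mat 6) := [
    (1, ![![1, 0, 0, 0, 0, 0],
      ![0, 0, 0, 1, 0, 0],
      ![0, 1, 1, 1, 0, 0],
      ![0, 0, 0, 0, 1, 0],
      ![0, -1, 0, -1, -1, 0],
      ![0, 1, 0, 1, 1, 1]]),
    (3, ![![1, 0, 0, 0, 0, 0],
      ![0, 1, 0, 1, 0, 0],
      ![0, 0, 1, 1, 0, 0],
      ![0, 0, 0, 0, 1, 0],
      ![0, 0, 0, -1, -1, 0],
      ![0, 0, 0, 1, 1, 1]]),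
    (4, ![![1, 0, 0, 0, 0, 0],
      ![0, 1, 0, 0, 0, 0],
      ![0, 0, 1, 0, 0, 0],
      ![0, 0, 0, 1, 1, 0],
      ![0, 0, 0, 0, -1, 0],
      ![0, 0, 0, 0, 1, 1]])]

/-- the permutation of the simple roots -/
def pi : Fin 6 → Fin 6 := ![5, 1, 4, 3, 2, 0]

/-- the matrix of `θ` -/
def Th : Mat 6 := ![![0, 1, 0, 1, 1, 1],
    ![0, 0, 0, 1, 0, 0],
    ![0, -1, 0, -1, -1, 0],
    ![0, 0, 0, 0, 1, 0],
    ![0, 1, 1, 1, 0, 0],
    ![1, 0, 0, 0, 0, 0]]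

/-- the basis -/
def V : Mat 6 := ![![0, 0, 0, 1, 1, 1],
    ![1, 1, 1, 1, 1, 0],
    ![0, 1, 1, 2, 1, 1],
    ![1, 0, 1, 1, 1, 0],
    ![0, 1, 1, 1, 1, 1],
    ![1, 0, 1, 1, 0, 0]]

/-- the coordinates -/
def B : Mat 6 := ![![1, 1, -1, -1, 0, 1],
    ![0, 1, 0, -1, 0, 0],
    ![-1, -1, 0, 1, 1, 0],
    ![0, 0, 1, 0, -1, 0],
    ![0, 0, 0, 1, 0, -1],
    ![1, 0, -1, -1, 1, 1]]

/-- the polynomial -/
def c : Fin 6 → ℤ := ![-1, 0, 1, 0, -1, 0]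

/-- the representatives of the orbits of `θ` on the roots -/
def R : Fin 9 → Fin 6 → ℤ := ![![-1, -2, -2, -3, -2, -1],
    ![-1, -1, -2, -2, -1, 0],
    ![-1, -1, -1, -1, -1, 0],
    ![0, 0, -1, 0, 0, 0],
    ![0, -1, -1, -1, -1, 0],
    ![0, -1, -1, -1, 0, 0],
    ![0, 1, 0, 1, 1, 1],
    ![0, 0, 0, 1, 1, 1],
    ![1, 1, 1, 2, 2, 1]]

/-- the values of the functional on the representatives -/
def G : Fin 9 → Fin 6 → ℤ := ![![0, -1, -1, 0, 0, 0],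
    ![1, 0, -1, -1, 0, 0],
    ![0, -1, 0, 0, 0, 0],
    ![1, 1, 0, -1, -1, 0],
    ![1, 0, -1, -1, 0, 1],
    ![1, 0, -1, 0, 0, 0],
    ![1, 1, 0, -1, 0, 0],
    ![1, 0, 0, 0, 0, 0],
    ![1, 1, 0, 0, 0, 0]]

/-- predecessor -/
def prv (r : ℕ) : ℕ := Nat.mod (Nat.shiftRight 0x4247464537003f313c29264436342d24403e303b2825001d1c154335332c002f2e3a27390e200d19180a00141204322b2a0f00000c170907231a13110321000b1608060002010000 (8 * r)) 256

/-- depth -/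
def dep (r : ℕ) : ℕ := Nat.mod (Nat.shiftRight 0x10203040300070106010705030505070202020404040001020104030504000302060306030705060707000107010506050500000306010704020402040600050606070003020100 (8 * r)) 256

theorem hA : ∀ i j, Am i j = cartanOf chevE6 6 i j :=
  H129.RootF.cE6

theorem chainOK : ChainOK Am chain :=
  H129.ChainF.ok H129.ChainF.i6 H129.ChainF.m6 (H129.ChainF.c6 <| H129.ChainF.c6 <| H129.ChainF.c6 <| H129.ChainF.nil) (by decide +kernel)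

theorem hd_pi : ∀ j, hd chain (pi j) = Th j := by decide +kernel

theorem cycOK : CycOK 6 Th V B c :=
  H129.RootF.cyc H129.ChainF.i6 H129.RootF.t6 H129.ChainF.m6 H129.RootF.t6 H129.ChainF.m6 H129.RootF.t6 H129.RootF.r6 (by decide +kernel)

theorem rootOK : RootOK chevE6 6 Th R prv dep :=
  H129.RootF.ok H129.RootF.t6 (H129.RootF.mc H129.RootF.r6 <| H129.RootF.mc H129.RootF.r6 <| H129.RootF.mc H129.RootF.r6 <| H129.RootF.mc H129.RootF.r6 <| H129.RootF.mc H129.RootF.r6 <| H129.RootF.mc H129.RootF.r6 <| H129.RootF.mc H129.RootF.r6 <| H129.RootF.mc H129.RootF.r6 <| H129.RootF.mc H129.RootF.r6 <| H129.RootF.m0) (by decide +kernel)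

theorem coefOK : ∀ s i, ∑ j, R s j * B j i = G s i := by decide +kernel

/-- a word for the power `θ ^ 2` -/
def chain2 : List (Fin 6 × Mat 6) := [
    (1, ![![1, 1, 1, 2, 1, 0],
      ![0, 0, 0, 0, 1, 0],
      ![0, -1, -1, -2, -1, 0],
      ![0, 1, 1, 1, 0, 0],
      ![0, -1, 0, 0, 0, 0],
      ![0, 1, 0, 1, 1, 1]]),
    (3, ![![1, 1, 1, 2, 1, 0],
      ![0, 0, 0, 0, 1, 0],
      ![0, -1, -1, -2, -1, 0],
      ![0, 0, 1, 1, 0, 0],
      ![0, 1, 0, 0, 0, 0],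
      ![0, 0, 0, 1, 1, 1]]),
    (4, ![![1, 1, 1, 1, 1, 0],
      ![0, 0, 0, 1, 1, 0],
      ![0, -1, -1, -1, -1, 0],
      ![0, 0, 1, 0, 0, 0],
      ![0, 1, 0, 1, 0, 0],
      ![0, 0, 0, 0, 1, 1]]),
    (1, ![![1, 1, 1, 1, 0, 0],
      ![0, 0, 0, 1, 0, 0],
      ![0, -1, -1, -1, 0, 0],
      ![0, 0, 1, 0, 0, 0],
      ![0, 1, 0, 1, 1, 0],
      ![0, 0, 0, 0, 0, 1]]),
    (3, ![![1, 0, 1, 1, 0, 0],
      ![0, 1, 0, 1, 0, 0],
      ![0, 0, -1, -1, 0, 0],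
      ![0, 0, 1, 0, 0, 0],
      ![0, 0, 0, 1, 1, 0],
      ![0, 0, 0, 0, 0, 1]]),
    (2, ![![1, 0, 1, 0, 0, 0],
      ![0, 1, 0, 0, 0, 0],
      ![0, 0, -1, 0, 0, 0],
      ![0, 0, 1, 1, 0, 0],
      ![0, 0, 0, 0, 1, 0],
      ![0, 0, 0, 0, 0, 1]])]

theorem chain2OK : ChainOK Am chain2 :=
  H129.ChainF.ok H129.ChainF.i6 H129.ChainF.m6 (H129.ChainF.c6 <| H129.ChainF.c6 <| H129.ChainF.c6 <| H129.ChainF.c6 <| H129.ChainF.c6 <| H129.ChainF.c6 <| H129.ChainF.nil) (by decide +kernel)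

theorem hd2_eq : ∀ j m, hd chain2 j m = ∑ a, Th j a * Th a m := by decide +kernel

theorem fN_eq (x : ℤ) : fN c x = -1 + x ^ 2 - x ^ 4 + x ^ 6 := by
  unfold fN c
  simp [Fin.sum_univ_succ]
  ring

theorem G_0 (x : ℤ) : Gq B x (R 0) = -x - x ^ 2 := by
  rw [Gq_coef B x (R 0) (G 0) (coefOK 0)]
  unfold G
  simp [Fin.sum_univ_succ]
  try ring

theorem bez_0 (x : ℤ) : (2 + x) * (1 + x ^ 4) + (1 - x + x ^ 2 + x ^ 3) * (-x - x ^ 2) = 2 := by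
  ring

theorem G_1 (x : ℤ) : Gq B x (R 1) = 1 - x ^ 2 - x ^ 3 := by
  rw [Gq_coef B x (R 1) (G 1) (coefOK 1)]
  unfold G
  simp [Fin.sum_univ_succ]
  try ring

theorem bez_1 (x : ℤ) : (x) * (1 + x ^ 4) + (1 - x + x ^ 2) * (1 - x ^ 2 - x ^ 3) = 1 := by
  ring

theorem G_2 (x : ℤ) : Gq B x (R 2) = -x := by
  rw [Gq_coef B x (R 2) (G 2) (coefOK 2)]
  unfold G
  simp [Fin.sum_univ_succ]
  try ring

theorem bez_2 (x : ℤ) : (1) * (1 + x ^ 4) + (x ^ 3) * (-x) = 1 := by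
  ring

theorem G_3 (x : ℤ) : Gq B x (R 3) = 1 + x - x ^ 3 - x ^ 4 := by
  rw [Gq_coef B x (R 3) (G 3) (coefOK 3)]
  unfold G
  simp [Fin.sum_univ_succ]
  try ring

theorem bez_3 (x : ℤ) : (-x + x ^ 2 + x ^ 3) * (1 + x ^ 4) + (2 - x + x ^ 3) * (1 + x - x ^ 3 - x ^ 4) = 2 := by
  ring

theorem G_4 (x : ℤ) : Gq B x (R 4) = 1 - x ^ 2 - x ^ 3 + x ^ 5 := by
  rw [Gq_coef B x (R 4) (G 4) (coefOK 4)]
  unfold G
  simp [Fin.sum_univ_succ]
  try ring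

theorem bez_4 (x : ℤ) : (1 + x ^ 2 - x ^ 4) * (1 + x ^ 4) + (1 + x ^ 3) * (1 - x ^ 2 - x ^ 3 + x ^ 5) = 2 := by
  ring

theorem G_5 (x : ℤ) : Gq B x (R 5) = 1 - x ^ 2 := by
  rw [Gq_coef B x (R 5) (G 5) (coefOK 5)]
  unfold G
  simp [Fin.sum_univ_succ]
  try ring

theorem bez_5 (x : ℤ) : (1) * (1 + x ^ 4) + (1 + x ^ 2) * (1 - x ^ 2) = 2 := by
  ring

theorem G_6 (x : ℤ) : Gq B x (R 6) = 1 + x - x ^ 3 := by
  rw [Gq_coef B x (R 6) (G 6) (coefOK 6)]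
  unfold G
  simp [Fin.sum_univ_succ]
  try ring

theorem bez_6 (x : ℤ) : (2 - x ^ 2) * (1 + x ^ 4) + (-1 + x - x ^ 3) * (1 + x - x ^ 3) = 1 := by
  ring

theorem G_7 (x : ℤ) : Gq B x (R 7) = 1 := by
  rw [Gq_coef B x (R 7) (G 7) (coefOK 7)]
  unfold G
  simp [Fin.sum_univ_succ]
  try ring

theorem bez_7 (x : ℤ) : (0) * (1 + x ^ 4) + (1) * (1) = 1 := by
  ring

theorem G_8 (x : ℤ) : Gq B x (R 8) = 1 + x := by
  rw [Gq_coef B x (R 8) (G 8) (coefOK 8)]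
  unfold G
  simp [Fin.sum_univ_succ]
  try ring

theorem bez_8 (x : ℤ) : (1) * (1 + x ^ 4) + (1 - x + x ^ 2 - x ^ 3) * (1 + x) = 2 := by
  ring

/-- Common divisors of `f(x)` and the value of `Gq` on a representative. -/
theorem dvd_of_G {x r : ℤ} (h : r ∣ 1 + x ^ 4) (s : Fin 9) (hs : r ∣ Gq B x (R s)) :
    r ∣ 1 ∨ r ∣ 2 := by
  have key : ∀ {a b g y : ℤ}, a * (1 + x ^ 4) + b * g = y → r ∣ g → r ∣ y := fun e hg => by
    rw [← e]
    exact dvd_add (h.mul_left _) (hg.mul_left _)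
  fin_cases s
  · exact Or.inr (key (bez_0 x) (by rw [← G_0]; exact hs))
  · exact Or.inl (key (bez_1 x) (by rw [← G_1]; exact hs))
  · exact Or.inl (key (bez_2 x) (by rw [← G_2]; exact hs))
  · exact Or.inr (key (bez_3 x) (by rw [← G_3]; exact hs))
  · exact Or.inr (key (bez_4 x) (by rw [← G_4]; exact hs))
  · exact Or.inr (key (bez_5 x) (by rw [← G_5]; exact hs))
  · exact Or.inl (key (bez_6 x) (by rw [← G_6]; exact hs))
  · exact Or.inl (key (bez_7 x) (by rw [← G_7]; exact hs))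
  · exact Or.inr (key (bez_8 x) (by rw [← G_8]; exact hs))

end Cfsg.Agent.H129.DataTE6e
end

-- part: H129/CycT2
section
prune_inst 0x1000010064000000000000000000020020000002000000016140000409088040800000000200011000441080104400000000000000000000000030000002000000060800843c0c00200000000000000000000000000000000000000000000000000000000
set_option linter.all false
open scoped Cfsg.Agent.FastGrp

/-!
# Isolated cyclic tori of `E₇`, `E₈`, `³D₄`, `²E₆` (helper129)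
-/

set_option autoImplicit false
set_option linter.unusedSectionVars false

namespace Cfsg.Agent.H129.CycT

open CoxeterSystem Cfsg Cfsg.Lie Cfsg.Lie.ChevalleyDatum
open Cfsg.Agent.ChevalleyStructure Cfsg.Agent.ChevalleyStructure.Elts Cfsg.Agent.ChevalleyStructure.CoxeterGeom
  Cfsg.Agent.ChevalleyStructure.CoxeterGeomTypes Cfsg.Agent.ChevalleyStructure.NPerm
open Cfsg.Agent.Tits.Roots Cfsg.Agent.Tits.Core Cfsg.Agent.Nodes Cfsg.Agent.Nodes.Reps Cfsg.Agent.Nodes.BNOf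
  Cfsg.Agent.Nodes.RGDChev Cfsg.Agent.Nodes.Bruhat Cfsg.Agent.Nodes.SubComb Cfsg.Agent.Nodes.Coroot
open Cfsg.Agent.H129 Cfsg.Agent.H129.TorusChar Cfsg.Agent.H129.TorusTw Cfsg.Agent.H129.WData Cfsg.Agent.H129.TorAct
  Cfsg.Agent.H129.RealT

universe u

variable {F : Type u} [Field F] [Fintype F] {q : ℕ}

/-! ### `E₇` -/

theorem typeE7 : IsType Cfsg.Lie.chevE7 7 CoxeterMatrix.E₇ := by simp

theorem finite_W7 : Finite CoxeterMatrix.E₇.Group := Nat.finite_of_card_ne_zero (by rw [cardW_E7]; norm_num)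

theorem primes_7 {N : ℕ} (hN : (N : ℤ) = 1 + (q : ℤ) + (q : ℤ) ^ 2 + (q : ℤ) ^ 3 + (q : ℤ) ^ 4 + (q : ℤ) ^ 5 +
    (q : ℤ) ^ 6) {r : ℕ} (hrN : r ∣ N) : r ≠ 2 ∧ r ≠ 3 ∧ r ≠ 5 := by
  have hz : ∀ n : ℕ, n ∣ N → (1 + (q : ZMod n) + (q : ZMod n) ^ 2 + (q : ZMod n) ^ 3 + (q : ZMod n) ^ 4 +
      (q : ZMod n) ^ 5 + (q : ZMod n) ^ 6 = 0) := by
    intro n h
    have := zmod_of_dvd hN h
    push_cast at this
    exact this
  refine ⟨?_, ?_, ?_⟩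
  · rintro rfl
    have h3 := hz 2 hrN
    generalize (q : ZMod 2) = x at h3; revert h3; revert x; decide
  · rintro rfl
    have h3 := hz 3 hrN
    generalize (q : ZMod 3) = x at h3; revert h3; revert x; decide
  · rintro rfl
    have h3 := hz 5 hrN
    generalize (q : ZMod 5) = x at h3; revert h3; revert x; decide

theorem good_E7_7 {N : ℕ} (hN : (N : ℤ) = 1 + (q : ℤ) + (q : ℤ) ^ 2 + (q : ℤ) ^ 3 + (q : ℤ) ^ 4 + (q : ℤ) ^ 5 +
    (q : ℤ) ^ 6) {r : ℕ} (hr : r.Prime) (hrN : r ∣ N) (hr7 : r ≠ 7) :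
    ¬ r ∣ Nat.card CoxeterMatrix.E₇.Group ∧ ∀ s, ¬ (r : ℤ) ∣ Gq DataE7s.B (q : ℤ) (DataE7s.R s) := by
  obtain ⟨h2, h3, h5⟩ := primes_7 hN hrN
  refine ⟨not_dvd_W7 hr h2 h3 h5 hr7, fun s hs => ?_⟩
  rcases DataE7s.dvd_of_G (cast_dvd hN hrN) s hs with h | h | h
  · exact not_one hr h
  · exact not_prime hr Nat.prime_two h2 h
  · exact not_prime hr (by norm_num : (7 : ℕ).Prime) hr7 h

theorem good_E7_9 {N : ℕ} (hN : (N : ℤ) = 1 + (q : ℤ) ^ 3 + (q : ℤ) ^ 6) {r : ℕ} (hr : r.Prime) (hrN : r ∣ N)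
    (hr3 : r ≠ 3) :
    ¬ r ∣ Nat.card CoxeterMatrix.E₇.Group ∧ ∀ s, ¬ (r : ℤ) ∣ Gq DataE7n.B (q : ℤ) (DataE7n.R s) := by
  obtain ⟨h2, h5, h7⟩ := (primes_9 hN).2 hrN
  refine ⟨not_dvd_W7 hr h2 hr3 h5 h7, fun s hs => ?_⟩
  rcases DataE7n.dvd_of_G (cast_dvd hN hrN) s hs with h | h
  · exact not_one hr h
  · exact not_prime hr Nat.prime_three hr3 h

theorem fN_7 (hq2 : 2 ≤ q) {N : ℕ} (hN : (N : ℤ) = 1 + (q : ℤ) + (q : ℤ) ^ 2 + (q : ℤ) ^ 3 + (q : ℤ) ^ 4 +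
    (q : ℤ) ^ 5 + (q : ℤ) ^ 6) : fN DataE7s.c (q : ℤ) = (((q - 1) * N : ℕ) : ℤ) ∧ q.Coprime ((q - 1) * N) := by
  have h1 : (((q - 1) * N : ℕ) : ℤ) = -1 + (q : ℤ) ^ 7 := by
    push_cast [Nat.cast_sub (show 1 ≤ q by omega)]
    rw [hN]; ring
  exact ⟨by rw [DataE7s.fN_eq, h1], coprime_of_neg (a := (q : ℤ) ^ 6) (by rw [h1]; ring)⟩

theorem fN_9 (hq2 : 2 ≤ q) {N : ℕ} (hN : (N : ℤ) = 1 + (q : ℤ) ^ 3 + (q : ℤ) ^ 6) :
    fN DataE7n.c (q : ℤ) = (((q - 1) * N : ℕ) : ℤ) ∧ q.Coprime ((q - 1) * N) := by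
  have h1 : (((q - 1) * N : ℕ) : ℤ) =
      -1 + (q : ℤ) - (q : ℤ) ^ 3 + (q : ℤ) ^ 4 - (q : ℤ) ^ 6 + (q : ℤ) ^ 7 := by
    push_cast [Nat.cast_sub (show 1 ≤ q by omega)]
    rw [hN]; ring
  exact ⟨by rw [DataE7n.fN_eq, h1],
    coprime_of_neg (a := 1 - (q : ℤ) ^ 2 + (q : ℤ) ^ 3 - (q : ℤ) ^ 5 + (q : ℤ) ^ 6) (by rw [h1]; ring)⟩

theorem at_E7_7 (hq : Fintype.card F = q) {N : ℕ} (hN : (N : ℤ) = 1 + (q : ℤ) + (q : ℤ) ^ 2 + (q : ℤ) ^ 3 +
    (q : ℤ) ^ 4 + (q : ℤ) ^ 5 + (q : ℤ) ^ 6) {r : ℕ} (hr : r.Prime) (hrN : r ∣ N) (hr7 : r ≠ 7) :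
    CycAt ↥(chevE7.group F) r := by
  have := finite_W7
  have hq2 : 2 ≤ q := by rw [← hq]; exact Fintype.one_lt_card
  obtain ⟨h1, h2⟩ := fN_7 hq2 hN
  exact at_untw typeE7 CoxeterMatrix.E₇.toCoxeterSystem (by norm_num) hq TorusChar.invC_E7 (by norm_num) DataE7s.hA
    DataE7s.chainOK DataE7s.cycOK DataE7s.rootOK h1 h2 hr (hrN.mul_left _)
    (fun h => (primes_7 hN hrN).1 ((Nat.prime_dvd_prime_iff_eq hr Nat.prime_two).1 h)) (good_E7_7 hN hr hrN hr7).1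
    (good_E7_7 hN hr hrN hr7).2

theorem at_E7_9 (hq : Fintype.card F = q) {N : ℕ} (hN : (N : ℤ) = 1 + (q : ℤ) ^ 3 + (q : ℤ) ^ 6) {r : ℕ}
    (hr : r.Prime) (hrN : r ∣ N) (hr3 : r ≠ 3) : CycAt ↥(chevE7.group F) r := by
  have := finite_W7
  have hq2 : 2 ≤ q := by rw [← hq]; exact Fintype.one_lt_card
  obtain ⟨h1, h2⟩ := fN_9 hq2 hN
  exact at_untw typeE7 CoxeterMatrix.E₇.toCoxeterSystem (by norm_num) hq TorusChar.invC_E7 (by norm_num) DataE7n.hA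
    DataE7n.chainOK DataE7n.cycOK DataE7n.rootOK h1 h2 hr (hrN.mul_left _)
    (fun h => ((primes_9 hN).2 hrN).1 ((Nat.prime_dvd_prime_iff_eq hr Nat.prime_two).1 h)) (good_E7_9 hN hr hrN hr3).1
    (good_E7_9 hN hr hrN hr3).2

/-- **`E₇(2)`, `E₇(3)`, `Φ₇`**: order `127` or `1093`. -/
theorem exact_E7_7 (hq : Fintype.card F = q) (hq3 : q ≤ 3) {N : ℕ} (hN : (N : ℤ) = 1 + (q : ℤ) + (q : ℤ) ^ 2 +
    (q : ℤ) ^ 3 + (q : ℤ) ^ 4 + (q : ℤ) ^ 5 + (q : ℤ) ^ 6) : CycExact ↥(chevE7.group F) N := by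
  have := finite_W7
  have hq2 : 2 ≤ q := by rw [← hq]; exact Fintype.one_lt_card
  obtain ⟨h1, h2⟩ := fN_7 hq2 hN
  have hne : ∀ r : ℕ, r.Prime → r ∣ N → r ≠ 7 := by
    rintro r - hrN rfl
    have h3 := zmod_of_dvd hN hrN
    interval_cases q
    · revert h3; decide
    · revert h3; decide
  interval_cases q
  · have h3 := exact_untw typeE7 CoxeterMatrix.E₇.toCoxeterSystem (by norm_num) hq TorusChar.invC_E7 (by norm_num)
      DataE7s.hA DataE7s.chainOK DataE7s.cycOK DataE7s.rootOK h1 h2 (d := 1)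
      (Or.inr ⟨rfl, sq_surj hq (by norm_num)⟩) (Nat.coprime_one_right _) (fun r hr hrN => by
        rw [show (2 - 1) * N = N by ring] at hrN
        exact good_E7_7 hN hr hrN (hne r hr hrN))
    rwa [show (2 - 1) * N = N by ring] at h3
  · obtain ⟨T, h3, h4, h5, -⟩ := HalfT.half_E7 hq (by decide) typeE7 DataE7s.hA DataE7s.chainOK DataE7s.cycOK
      DataE7s.rootOK h1 h2
    exact exact_of h3 (m := N) (by omega) fun r hr hrN y hy hyr =>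
      h5 r hr (good_E7_7 hN hr hrN (hne r hr hrN)).1 (good_E7_7 hN hr hrN (hne r hr hrN)).2 y hy hyr

/-- **`E₇(2)`, `E₇(3)`, `Φ₉`**: order `73` or `757`. -/
theorem exact_E7_9 (hq : Fintype.card F = q) (hq3 : q ≤ 3) {N : ℕ} (hN : (N : ℤ) = 1 + (q : ℤ) ^ 3 + (q : ℤ) ^ 6) :
    CycExact ↥(chevE7.group F) N := by
  have := finite_W7
  have hq2 : 2 ≤ q := by rw [← hq]; exact Fintype.one_lt_card
  obtain ⟨h1, h2⟩ := fN_9 hq2 hN
  have hne : ∀ r : ℕ, r.Prime → r ∣ N → r ≠ 3 := by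
    rintro r - hrN rfl
    have h3 := zmod_of_dvd hN hrN
    interval_cases q
    · revert h3; decide
    · revert h3; decide
  interval_cases q
  · have h3 := exact_untw typeE7 CoxeterMatrix.E₇.toCoxeterSystem (by norm_num) hq TorusChar.invC_E7 (by norm_num)
      DataE7n.hA DataE7n.chainOK DataE7n.cycOK DataE7n.rootOK h1 h2 (d := 1)
      (Or.inr ⟨rfl, sq_surj hq (by norm_num)⟩) (Nat.coprime_one_right _) (fun r hr hrN => by
        rw [show (2 - 1) * N = N by ring] at hrN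
        exact good_E7_9 hN hr hrN (hne r hr hrN))
    rwa [show (2 - 1) * N = N by ring] at h3
  · obtain ⟨T, h3, h4, h5, -⟩ := HalfT.half_E7 hq (by decide) typeE7 DataE7n.hA DataE7n.chainOK DataE7n.cycOK
      DataE7n.rootOK h1 h2
    exact exact_of h3 (m := N) (by omega) fun r hr hrN y hy hyr =>
      h5 r hr (good_E7_9 hN hr hrN (hne r hr hrN)).1 (good_E7_9 hN hr hrN (hne r hr hrN)).2 y hy hyr

/-! ### `E₈` -/

theorem typeE8 : IsType Cfsg.Lie.chevE8 8 CoxeterMatrix.E₈ := by simp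

theorem cardW_E8 : Nat.card CoxeterMatrix.E₈.Group = 696729600 :=
  Cfsg.Agent.S1093.result (⟨8, CoxeterMatrix.E₈⟩, 696729600) (by simp)

theorem finite_W8 : Finite CoxeterMatrix.E₈.Group := Nat.finite_of_card_ne_zero (by rw [cardW_E8]; norm_num)

theorem not_dvd_W8 {r : ℕ} (hr : r.Prime) (h2 : r ≠ 2) (h3 : r ≠ 3) (h5 : r ≠ 5) (h7 : r ≠ 7) :
    ¬ r ∣ Nat.card CoxeterMatrix.E₈.Group := by
  rw [cardW_E8, show (696729600 : ℕ) = 2 ^ 14 * 3 ^ 5 * 5 ^ 2 * 7 ^ 1 by norm_num]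
  exact not_dvd_of hr h2 h3 h5 h7

theorem good_E8_30 {N : ℕ}
    (hN : (N : ℤ) = 1 + (q : ℤ) - (q : ℤ) ^ 3 - (q : ℤ) ^ 4 - (q : ℤ) ^ 5 + (q : ℤ) ^ 7 + (q : ℤ) ^ 8)
    {r : ℕ} (hr : r.Prime) (hrN : r ∣ N) :
    ¬ r ∣ Nat.card CoxeterMatrix.E₈.Group ∧ ∀ s, ¬ (r : ℤ) ∣ Gq DataE8.B (q : ℤ) (DataE8.R s) := by
  have hz : (1 + (q : ZMod r) - (q : ZMod r) ^ 3 - (q : ZMod r) ^ 4 - (q : ZMod r) ^ 5 + (q : ZMod r) ^ 7 +
      (q : ZMod r) ^ 8 = 0) := by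
    have := zmod_of_dvd hN hrN
    push_cast at this
    exact this
  refine ⟨not_dvd_W8 hr ?_ ?_ ?_ ?_, fun s hs => not_one hr (DataE8.dvd_of_G (cast_dvd hN hrN) s hs)⟩
  · rintro rfl
    generalize (q : ZMod 2) = x at hz; revert hz; revert x; decide
  · rintro rfl
    generalize (q : ZMod 3) = x at hz; revert hz; revert x; decide
  · rintro rfl
    generalize (q : ZMod 5) = x at hz; revert hz; revert x; decide
  · rintro rfl
    generalize (q : ZMod 7) = x at hz; revert hz; revert x; decide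

theorem good_E8_15 {N : ℕ}
    (hN : (N : ℤ) = 1 - (q : ℤ) + (q : ℤ) ^ 3 - (q : ℤ) ^ 4 + (q : ℤ) ^ 5 - (q : ℤ) ^ 7 + (q : ℤ) ^ 8)
    {r : ℕ} (hr : r.Prime) (hrN : r ∣ N) :
    ¬ r ∣ Nat.card CoxeterMatrix.E₈.Group ∧ ∀ s, ¬ (r : ℤ) ∣ Gq DataE8a.B (q : ℤ) (DataE8a.R s) := by
  have hz : (1 - (q : ZMod r) + (q : ZMod r) ^ 3 - (q : ZMod r) ^ 4 + (q : ZMod r) ^ 5 - (q : ZMod r) ^ 7 +
      (q : ZMod r) ^ 8 = 0) := by
    have := zmod_of_dvd hN hrN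
    push_cast at this
    exact this
  refine ⟨not_dvd_W8 hr ?_ ?_ ?_ ?_, fun s hs => not_one hr (DataE8a.dvd_of_G (cast_dvd hN hrN) s hs)⟩
  · rintro rfl
    generalize (q : ZMod 2) = x at hz; revert hz; revert x; decide
  · rintro rfl
    generalize (q : ZMod 3) = x at hz; revert hz; revert x; decide
  · rintro rfl
    generalize (q : ZMod 5) = x at hz; revert hz; revert x; decide
  · rintro rfl
    generalize (q : ZMod 7) = x at hz; revert hz; revert x; decide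

theorem good_E8_24 {N : ℕ} (hN : (N : ℤ) = 1 - (q : ℤ) ^ 4 + (q : ℤ) ^ 8) {r : ℕ} (hr : r.Prime) (hrN : r ∣ N) :
    ¬ r ∣ Nat.card CoxeterMatrix.E₈.Group ∧ ∀ s, ¬ (r : ℤ) ∣ Gq DataE8c.B (q : ℤ) (DataE8c.R s) := by
  have hz : (1 - (q : ZMod r) ^ 4 + (q : ZMod r) ^ 8 = 0) := by
    have := zmod_of_dvd hN hrN
    push_cast at this
    exact this
  have h2 : r ≠ 2 := by
    rintro rfl
    generalize (q : ZMod 2) = x at hz; revert hz; revert x; decide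
  have h3 : r ≠ 3 := by
    rintro rfl
    generalize (q : ZMod 3) = x at hz; revert hz; revert x; decide
  refine ⟨not_dvd_W8 hr h2 h3 ?_ ?_, fun s hs => ?_⟩
  · rintro rfl
    generalize (q : ZMod 5) = x at hz; revert hz; revert x; decide
  · rintro rfl
    generalize (q : ZMod 7) = x at hz; revert hz; revert x; decide
  · rcases DataE8c.dvd_of_G (cast_dvd hN hrN) s hs with h | h | h
    · exact not_one hr h
    · exact not_prime hr Nat.prime_two h2 h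
    · exact not_prime hr Nat.prime_three h3 h

theorem good_E8_20 {N : ℕ} (hN : (N : ℤ) = 1 - (q : ℤ) ^ 2 + (q : ℤ) ^ 4 - (q : ℤ) ^ 6 + (q : ℤ) ^ 8) {r : ℕ}
    (hr : r.Prime) (hrN : r ∣ N) (h5 : r ≠ 5) :
    ¬ r ∣ Nat.card CoxeterMatrix.E₈.Group ∧ ∀ s, ¬ (r : ℤ) ∣ Gq DataE8b.B (q : ℤ) (DataE8b.R s) := by
  have hz : (1 - (q : ZMod r) ^ 2 + (q : ZMod r) ^ 4 - (q : ZMod r) ^ 6 + (q : ZMod r) ^ 8 = 0) := by
    have := zmod_of_dvd hN hrN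
    push_cast at this
    exact this
  refine ⟨not_dvd_W8 hr ?_ ?_ h5 ?_, fun s hs => ?_⟩
  · rintro rfl
    generalize (q : ZMod 2) = x at hz; revert hz; revert x; decide
  · rintro rfl
    generalize (q : ZMod 3) = x at hz; revert hz; revert x; decide
  · rintro rfl
    generalize (q : ZMod 7) = x at hz; revert hz; revert x; decide
  · rcases DataE8b.dvd_of_G (cast_dvd hN hrN) s hs with h | h
    · exact not_one hr h
    · exact not_prime hr Nat.prime_five h5 h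

/-- **`E₈(q)`, `Φ₃₀`**. -/
theorem exact_E8_30 (hq : Fintype.card F = q) {N : ℕ}
    (hN : (N : ℤ) = 1 + (q : ℤ) - (q : ℤ) ^ 3 - (q : ℤ) ^ 4 - (q : ℤ) ^ 5 + (q : ℤ) ^ 7 + (q : ℤ) ^ 8) :
    CycExact ↥(chevE8.group F) N := by
  have := finite_W8
  exact exact_untw typeE8 CoxeterMatrix.E₈.toCoxeterSystem (by norm_num) hq TorusChar.invC_E8 one_ne_zero DataE8.hA
    DataE8.chainOK DataE8.cycOK DataE8.rootOK (by rw [DataE8.fN_eq, hN])
    (UntwData.coprime_of_eq (a := 1 - (q : ℤ) ^ 2 - (q : ℤ) ^ 3 - (q : ℤ) ^ 4 + (q : ℤ) ^ 6 + (q : ℤ) ^ 7)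
      (by rw [hN]; ring)) (d := 1) (Or.inl rfl) (Nat.coprime_one_right _) fun r hr hrN => good_E8_30 hN hr hrN

/-- **`E₈(q)`, `Φ₁₅`**. -/
theorem exact_E8_15 (hq : Fintype.card F = q) {N : ℕ}
    (hN : (N : ℤ) = 1 - (q : ℤ) + (q : ℤ) ^ 3 - (q : ℤ) ^ 4 + (q : ℤ) ^ 5 - (q : ℤ) ^ 7 + (q : ℤ) ^ 8) :
    CycExact ↥(chevE8.group F) N := by
  have := finite_W8
  exact exact_untw typeE8 CoxeterMatrix.E₈.toCoxeterSystem (by norm_num) hq TorusChar.invC_E8 one_ne_zero DataE8a.hA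
    DataE8a.chainOK DataE8a.cycOK DataE8a.rootOK (by rw [DataE8a.fN_eq, hN])
    (UntwData.coprime_of_eq (a := -1 + (q : ℤ) ^ 2 - (q : ℤ) ^ 3 + (q : ℤ) ^ 4 - (q : ℤ) ^ 6 + (q : ℤ) ^ 7)
      (by rw [hN]; ring)) (d := 1) (Or.inl rfl) (Nat.coprime_one_right _) fun r hr hrN => good_E8_15 hN hr hrN

/-- **`E₈(q)`, `Φ₂₄`**. -/
theorem exact_E8_24 (hq : Fintype.card F = q) {N : ℕ} (hN : (N : ℤ) = 1 - (q : ℤ) ^ 4 + (q : ℤ) ^ 8) :
    CycExact ↥(chevE8.group F) N := by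
  have := finite_W8
  exact exact_untw typeE8 CoxeterMatrix.E₈.toCoxeterSystem (by norm_num) hq TorusChar.invC_E8 one_ne_zero DataE8c.hA
    DataE8c.chainOK DataE8c.cycOK DataE8c.rootOK (by rw [DataE8c.fN_eq, hN])
    (UntwData.coprime_of_eq (a := -(q : ℤ) ^ 3 + (q : ℤ) ^ 7) (by rw [hN]; ring)) (d := 1) (Or.inl rfl)
    (Nat.coprime_one_right _) fun r hr hrN => good_E8_24 hN hr hrN

theorem at_E8_20 (hq : Fintype.card F = q) {N : ℕ}
    (hN : (N : ℤ) = 1 - (q : ℤ) ^ 2 + (q : ℤ) ^ 4 - (q : ℤ) ^ 6 + (q : ℤ) ^ 8) {r : ℕ} (hr : r.Prime) (hrN : r ∣ N)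
    (h5 : r ≠ 5) : CycAt ↥(chevE8.group F) r := by
  have := finite_W8
  exact at_untw typeE8 CoxeterMatrix.E₈.toCoxeterSystem (by norm_num) hq TorusChar.invC_E8 one_ne_zero DataE8b.hA
    DataE8b.chainOK DataE8b.cycOK DataE8b.rootOK (by rw [DataE8b.fN_eq, hN])
    (UntwData.coprime_of_eq (a := -(q : ℤ) + (q : ℤ) ^ 3 - (q : ℤ) ^ 5 + (q : ℤ) ^ 7) (by rw [hN]; ring)) hr hrN
    (fun h => hr.one_lt.ne' (Nat.dvd_one.1 h)) (good_E8_20 hN hr hrN h5).1 (good_E8_20 hN hr hrN h5).2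

/-! ### `³D₄` -/

theorem primes_12 {N : ℕ} (hN : (N : ℤ) = 1 - (q : ℤ) ^ 2 + (q : ℤ) ^ 4) {r : ℕ} (hrN : r ∣ N) : r ≠ 2 ∧ r ≠ 3 := by
  have hz : (1 - (q : ZMod r) ^ 2 + (q : ZMod r) ^ 4 = 0) := by
    have := zmod_of_dvd hN hrN
    push_cast at this
    exact this
  constructor
  · rintro rfl
    generalize (q : ZMod 2) = x at hz; revert hz; revert x; decide
  · rintro rfl
    generalize (q : ZMod 3) = x at hz; revert hz; revert x; decide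

/-- **`³D₄(q)`, `Φ₁₂`**: order `q⁴ - q² + 1`. -/
theorem exact_tD4_12 (hq : IsPrimePow q) (hK : Fintype.card F = q ^ 3) {N : ℕ}
    (hN : (N : ℤ) = 1 - (q : ℤ) ^ 2 + (q : ℤ) ^ 4) : CycExact ↥(twistedD4 F q) N := by
  obtain ⟨T, h1, h3, h5, -⟩ := TwT.tri_T hq hK DataD4C.hA DataD4C.chainOK DataD4C.hd_pi DataD4C.cycOK DataD4C.rootOK
    DataD4C.chain2OK DataD4C.hd2_eq (N := N)
    (by rw [DataD4C.fN_eq, hN]) (UntwData.coprime_of_eq (a := -(q : ℤ) + (q : ℤ) ^ 3) (by rw [hN]; ring))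
  refine exact_of h1 h3 fun r hr hrN y hy hyr => ?_
  obtain ⟨h2, h3⟩ := primes_12 hN hrN
  exact h5 r hr (TwD4Cyc.not_dvd_W hr h2 h3)
    (fun s hs => not_one hr (DataD4C.dvd_of_G (cast_dvd hN hrN) s hs)) y hy hyr

/-! ### `²E₆` -/

theorem primes_18 {N : ℕ} (hN : (N : ℤ) = 1 - (q : ℤ) ^ 3 + (q : ℤ) ^ 6) :
    ¬ 9 ∣ N ∧ ∀ {r : ℕ}, r ∣ N → r ≠ 2 ∧ r ≠ 5 ∧ r ≠ 7 := by
  have hz : ∀ n : ℕ, n ∣ N → (1 - (q : ZMod n) ^ 3 + (q : ZMod n) ^ 6 = 0) := by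
    intro n h
    have := zmod_of_dvd hN h
    push_cast at this
    exact this
  refine ⟨fun h => ?_, fun {r} hrN => ⟨?_, ?_, ?_⟩⟩
  · have h3 := hz 9 h
    generalize (q : ZMod 9) = x at h3; revert h3; revert x; decide
  · rintro rfl
    have h3 := hz 2 hrN
    generalize (q : ZMod 2) = x at h3; revert h3; revert x; decide
  · rintro rfl
    have h3 := hz 5 hrN
    generalize (q : ZMod 5) = x at h3; revert h3; revert x; decide
  · rintro rfl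
    have h3 := hz 7 hrN
    generalize (q : ZMod 7) = x at h3; revert h3; revert x; decide

theorem good_tE6_18 {N : ℕ} (hN : (N : ℤ) = 1 - (q : ℤ) ^ 3 + (q : ℤ) ^ 6) {r : ℕ} (hr : r.Prime) (hrN : r ∣ N)
    (hr3 : r ≠ 3) :
    ¬ r ∣ Nat.card CoxeterMatrix.E₆.Group ∧ ∀ s, ¬ (r : ℤ) ∣ Gq DataTE6n.B (q : ℤ) (DataTE6n.R s) := by
  obtain ⟨h2, h5, -⟩ := (primes_18 hN).2 hrN
  refine ⟨not_dvd_W_E6 hr h2 hr3 h5, fun s hs => ?_⟩
  rcases DataTE6n.dvd_of_G (cast_dvd hN hrN) s hs with h | h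
  · exact not_one hr h
  · exact not_prime hr Nat.prime_three hr3 h

/-- the torus for `Φ₁₈` -/
theorem torus_tE6_18 (hq : IsPrimePow q) (hK : Fintype.card F = q ^ 2) {N : ℕ}
    (hN : (N : ℤ) = 1 - (q : ℤ) ^ 3 + (q : ℤ) ^ 6) :
    ∃ T : Subgroup ↥(twistedE6 F q), IsCyclic ↥T ∧ Nat.card ↥T ∣ N ∧ N ∣ Nat.gcd 3 (q + 1) * Nat.card ↥T ∧
      ∀ r : ℕ, r.Prime → r ∣ N → r ≠ 3 → ∀ y ∈ T, orderOf y = r → Subgroup.centralizer {y} ≤ T := by
  obtain ⟨T, h1, h3, h4, h5, -⟩ := TwT.flip_T hq hK DataTE6n.hA DataTE6n.chainOK DataTE6n.hd_pi DataTE6n.cycOK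
    DataTE6n.rootOK DataTE6n.chain2OK DataTE6n.hd2_eq (N := N) (by rw [DataTE6n.fN_eq, hN])
    (UntwData.coprime_of_eq (a := -(q : ℤ) ^ 2 + (q : ℤ) ^ 5) (by rw [hN]; ring))
  exact ⟨T, h1, h3, h4, fun r hr hrN hr3 => h5 r hr (good_tE6_18 hN hr hrN hr3).1 (good_tE6_18 hN hr hrN hr3).2⟩

theorem not_dvd_gcd3 {r n : ℕ} (hr : r.Prime) (hr3 : r ≠ 3) : ¬ r ∣ Nat.gcd 3 n := fun h =>
  hr3 ((Nat.prime_dvd_prime_iff_eq hr Nat.prime_three).1 (h.trans (Nat.gcd_dvd_left _ _)))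

theorem at_tE6_18 (hq : IsPrimePow q) (hK : Fintype.card F = q ^ 2) {N : ℕ}
    (hN : (N : ℤ) = 1 - (q : ℤ) ^ 3 + (q : ℤ) ^ 6) {r : ℕ} (hr : r.Prime) (hrN : r ∣ N) (hr3 : r ≠ 3) :
    CycAt ↥(twistedE6 F q) r := by
  obtain ⟨T, h1, -, h4, h5⟩ := torus_tE6_18 hq hK hN
  exact ⟨T, h1, dvd_of_dvd_mul hr hrN (not_dvd_gcd3 hr hr3) h4, h5 r hr hrN hr3⟩

/-- the torus `Φ₁₂ Φ₆` -/
theorem at_tE6_12 (hq : IsPrimePow q) (hK : Fintype.card F = q ^ 2) {N : ℕ}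
    (hN : (N : ℤ) = 1 - (q : ℤ) ^ 2 + (q : ℤ) ^ 4) {r : ℕ} (hr : r.Prime) (hrN : r ∣ N) (hr5 : r ≠ 5) :
    CycAt ↥(twistedE6 F q) r := by
  obtain ⟨h2, h3⟩ := primes_12 hN hrN
  have hle : q ≤ q ^ 2 := by nlinarith [hq.two_le]
  have hM : ((N * (q ^ 2 - q + 1) : ℕ) : ℤ) = 1 - (q : ℤ) + (q : ℤ) ^ 3 - (q : ℤ) ^ 5 + (q : ℤ) ^ 6 := by
    push_cast [Nat.cast_sub hle]; rw [hN]; ring
  obtain ⟨T, h1, -, h4, h5, -⟩ := TwT.flip_T hq hK DataTE6c.hA DataTE6c.chainOK DataTE6c.hd_pi DataTE6c.cycOK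
    DataTE6c.rootOK DataTE6c.chain2OK DataTE6c.hd2_eq (N := N * (q ^ 2 - q + 1)) (by rw [DataTE6c.fN_eq, hM])
    (UntwData.coprime_of_eq (a := -1 + (q : ℤ) ^ 2 - (q : ℤ) ^ 4 + (q : ℤ) ^ 5) (by rw [hM]; ring))
  refine ⟨T, h1, dvd_of_dvd_mul hr (hrN.mul_right _) (not_dvd_gcd3 hr h3) h4, h5 r hr (not_dvd_W_E6 hr h2 h3 hr5)
    fun s hs => ?_⟩
  rcases DataTE6c.dvd_of_G (cast_dvd hN hrN) s hs with h | h
  · exact not_one hr h
  · exact not_prime hr Nat.prime_two h2 h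

/-- the torus `Φ₈ (q² - 1)` -/
theorem at_tE6_8 (hq : IsPrimePow q) (hK : Fintype.card F = q ^ 2) {N : ℕ}
    (hN : (N : ℤ) = 1 + (q : ℤ) ^ 4) {r : ℕ} (hr : r.Prime) (hrN : r ∣ N) (hr2 : r ≠ 2) :
    CycAt ↥(twistedE6 F q) r := by
  have hz : (1 + (q : ZMod r) ^ 4 = 0) := by
    have := zmod_of_dvd hN hrN
    push_cast at this
    exact this
  have h3 : r ≠ 3 := by
    rintro rfl
    generalize (q : ZMod 3) = x at hz; revert hz; revert x; decide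
  have hr5 : r ≠ 5 := by
    rintro rfl
    generalize (q : ZMod 5) = x at hz; revert hz; revert x; decide
  have hle : 1 ≤ q ^ 2 := Nat.one_le_pow _ _ hq.pos
  have hM : ((N * (q ^ 2 - 1) : ℕ) : ℤ) = -1 + (q : ℤ) ^ 2 - (q : ℤ) ^ 4 + (q : ℤ) ^ 6 := by
    push_cast [Nat.cast_sub hle]; rw [hN]; ring
  obtain ⟨T, h1, -, h4, h5, -⟩ := TwT.flip_T hq hK DataTE6e.hA DataTE6e.chainOK DataTE6e.hd_pi DataTE6e.cycOK
    DataTE6e.rootOK DataTE6e.chain2OK DataTE6e.hd2_eq (N := N * (q ^ 2 - 1)) (by rw [DataTE6e.fN_eq, hM])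
    (coprime_of_neg (a := (q : ℤ) - (q : ℤ) ^ 3 + (q : ℤ) ^ 5) (by rw [hM]; ring))
  refine ⟨T, h1, dvd_of_dvd_mul hr (hrN.mul_right _) (not_dvd_gcd3 hr h3) h4, h5 r hr (not_dvd_W_E6 hr hr2 h3 hr5)
    fun s hs => ?_⟩
  rcases DataTE6e.dvd_of_G (cast_dvd hN hrN) s hs with h | h
  · exact not_one hr h
  · exact not_prime hr Nat.prime_two hr2 h

end Cfsg.Agent.H129.CycT
end

-- part: H129/CycRow
section
prune_inst 0x500000000000000040000200000000000000000110000004080e900000000000402009020000008000040000000000000000000000000000000000000002000000340c00200000000002000000000000000000000000000000041000000000000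
set_option linter.all false
open scoped Cfsg.Agent.FastGrp

/-!
# Isolated cyclic tori: conjugation, subgroups, `²E₆(q)` (helper129)

* `CycAt.isCyclic` : the centraliser of every element of order `r` is cyclic;
* `CycAt.hasCyc` : together with `HasCC` it gives `HasCyc`;
* `HasCyc.of_injective` : `HasCyc` for subgroups;
* `exact_tE6_18` : `²E₆(q)`, order `(q⁶ - q³ + 1)/(3, q + 1)`.
-/

set_option autoImplicit false
set_option linter.unusedSectionVars false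

namespace Cfsg.Agent.H129.CycT

open Cfsg Cfsg.Lie Subgroup
open Cfsg.Agent.H94.PG Cfsg.Agent.H182.Cent Cfsg.Agent.H129 Cfsg.Agent.H129.RealT

universe u

section Abs

variable {G : Type*} [Group G] [Finite G]

/-- the centralisers of the elements of order `r` are conjugate to `T` -/
theorem centralizer_conj {T : Subgroup G} (hc : IsCyclic ↥T) {r : ℕ} (hr : r.Prime) (hrT : r ∣ Nat.card ↥T)
    (hcent : ∀ y ∈ T, orderOf y = r → Subgroup.centralizer {y} ≤ T) {x : G} (hx : orderOf x = r) :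
    ∃ g : G, g * x * g⁻¹ ∈ T ∧ ∀ z, z ∈ Subgroup.centralizer {x} ↔ g * z * g⁻¹ ∈ T := by
  have : Fact r.Prime := ⟨hr⟩
  have heq : ∀ y ∈ T, orderOf y = r → Subgroup.centralizer {y} = T := fun y hy hyr =>
    le_antisymm (hcent y hy hyr) (le_centralizer_of_cyclic hc hy)
  obtain ⟨⟨y, hy⟩, hyr⟩ := exists_prime_orderOf_dvd_card' (G := ↥T) r hrT
  rw [Subgroup.orderOf_mk] at hyr
  have hpy : IsPGroup r ↥(Subgroup.zpowers y) := by
    rw [IsPGroup.iff_card]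
    exact ⟨1, by rw [Nat.card_zpowers, hyr, pow_one]⟩
  obtain ⟨P, hP⟩ := hpy.exists_le_sylow
  have hyP : y ∈ (P : Subgroup G) := hP (Subgroup.mem_zpowers y)
  have hnt : Nontrivial ↥(P : Subgroup G) := by
    refine ⟨⟨⟨y, hyP⟩, 1, fun h => ?_⟩⟩
    have h1 : y = 1 := congrArg Subtype.val h
    rw [h1, orderOf_one] at hyr
    exact hr.one_lt.ne hyr
  have hZ : Nontrivial ↥(Subgroup.center ↥(P : Subgroup G)) := P.2.center_nontrivial
  have hZp : IsPGroup r ↥(Subgroup.center ↥(P : Subgroup G)) := P.2.to_subgroup _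
  obtain ⟨z, hz⟩ : ∃ z : ↥(Subgroup.center ↥(P : Subgroup G)), orderOf z = r := by
    refine exists_prime_orderOf_dvd_card' r ?_
    obtain ⟨n, hn0, hn⟩ := (hZp.nontrivial_iff_card).1 hZ
    rw [hn]
    exact dvd_pow_self r hn0.ne'
  have hzr : orderOf ((z : ↥(P : Subgroup G)) : G) = r := by
    rw [Subgroup.orderOf_coe, Subgroup.orderOf_coe, hz]
  have hzc : ∀ p ∈ (P : Subgroup G), p * ((z : ↥(P : Subgroup G)) : G) = ((z : ↥(P : Subgroup G)) : G) * p := by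
    intro p hp
    exact congrArg Subtype.val (Subgroup.mem_center_iff.1 z.2 ⟨p, hp⟩)
  have hzT : ((z : ↥(P : Subgroup G)) : G) ∈ T := by
    rw [← heq y hy hyr, Subgroup.mem_centralizer_singleton_iff]
    exact (hzc y hyP).symm
  have hPT : (P : Subgroup G) ≤ T := by
    intro p hp
    rw [← heq _ hzT hzr, Subgroup.mem_centralizer_singleton_iff]
    exact hzc p hp
  have hpx : IsPGroup r ↥(Subgroup.zpowers x) := by
    rw [IsPGroup.iff_card]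
    exact ⟨1, by rw [Nat.card_zpowers, hx, pow_one]⟩
  obtain ⟨Q, hQ⟩ := hpx.exists_le_sylow
  obtain ⟨g, hg⟩ := MulAction.exists_smul_eq G Q P
  have h1 : g * x * g⁻¹ ∈ T := by
    apply hPT
    rw [← hg, Sylow.coe_subgroup_smul]
    exact ⟨x, hQ (Subgroup.mem_zpowers x), rfl⟩
  have h2 : orderOf (g * x * g⁻¹) = r := by
    rw [← hx]
    exact orderOf_injective (MulAut.conj g).toMonoidHom (MulAut.conj g).injective x
  refine ⟨g, h1, fun z => ?_⟩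
  rw [← heq _ h1 h2, Subgroup.mem_centralizer_singleton_iff, Subgroup.mem_centralizer_singleton_iff]
  constructor
  · intro h
    calc g * z * g⁻¹ * (g * x * g⁻¹) = g * (z * x) * g⁻¹ := by group
      _ = g * (x * z) * g⁻¹ := by rw [h]
      _ = g * x * g⁻¹ * (g * z * g⁻¹) := by group
  · intro h
    have h3 : g * (z * x) * g⁻¹ = g * (x * z) * g⁻¹ := by
      calc g * (z * x) * g⁻¹ = g * z * g⁻¹ * (g * x * g⁻¹) := by group
        _ = g * x * g⁻¹ * (g * z * g⁻¹) := h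
        _ = _ := by group
    exact mul_left_cancel (mul_right_cancel h3)

/-- the map of the centraliser into `T` -/
theorem exists_hom {T : Subgroup G} (hc : IsCyclic ↥T) {r : ℕ} (hr : r.Prime) (hrT : r ∣ Nat.card ↥T)
    (hcent : ∀ y ∈ T, orderOf y = r → Subgroup.centralizer {y} ≤ T) {x : G} (hx : orderOf x = r) :
    ∃ f : ↥(Subgroup.centralizer {x}) →* ↥T, Function.Bijective f := by
  obtain ⟨g, -, hg⟩ := centralizer_conj hc hr hrT hcent hx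
  refine ⟨{ toFun := fun z => ⟨g * z * g⁻¹, (hg z).1 z.2⟩, map_one' := Subtype.ext (by simp),
            map_mul' := fun a b => Subtype.ext (by
              show g * ((a : G) * b) * g⁻¹ = g * a * g⁻¹ * (g * b * g⁻¹)
              group) }, ?_, ?_⟩
  · intro a b h
    have h1 : g * (a : G) * g⁻¹ = g * b * g⁻¹ := congrArg Subtype.val h
    exact Subtype.ext (mul_left_cancel (mul_right_cancel h1))
  · rintro ⟨t, ht⟩
    refine ⟨⟨g⁻¹ * t * g, (hg _).2 ?_⟩, Subtype.ext ?_⟩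
    · have e : g * (g⁻¹ * t * g) * g⁻¹ = t := by group
      rwa [e]
    · show g * (g⁻¹ * t * g) * g⁻¹ = t
      group

/-- **The centraliser of every element of order `r` is cyclic.** -/
theorem CycAt.isCyclic {r : ℕ} (hr : r.Prime) (h : CycAt G r) {x : G} (hx : orderOf x = r) :
    IsCyclic ↥(Subgroup.centralizer {x}) := by
  obtain ⟨T, h1, h2, h3⟩ := h
  obtain ⟨f, hf⟩ := exists_hom h1 hr h2 h3 hx
  exact isCyclic_of_injective f hf.1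

theorem CycExact.card_centralizer {m r : ℕ} (hr : r.Prime) (hrm : r ∣ m) (h : CycExact G m) {x : G}
    (hx : orderOf x = r) : Nat.card ↥(Subgroup.centralizer {x}) = m := by
  obtain ⟨T, h1, h2, h3⟩ := h
  obtain ⟨f, hf⟩ := exists_hom h1 hr (h2 ▸ hrm) (fun y hy hyr => (h3 y hy (by
    rintro rfl
    rw [orderOf_one] at hyr
    exact hr.one_lt.ne hyr)).le) hx
  rw [Nat.card_congr (Equiv.ofBijective f hf), h2]

/-- **A cyclic centraliser of an element of order `r` and `HasCC` give `HasCyc`.** -/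
theorem CycAt.hasCyc {r : ℕ} (hr : r.Prime) (h : CycAt G r) (hcc : HasCC G r) : HasCyc G r := by
  have : Fact r.Prime := ⟨hr⟩
  obtain ⟨T, h1, h2, h3⟩ := hcc
  obtain ⟨⟨x, hxT⟩, hx⟩ := exists_prime_orderOf_dvd_card' (G := ↥T) r h1
  rw [Subgroup.orderOf_mk] at hx
  have hx1 : x ≠ 1 := by
    rintro rfl
    rw [orderOf_one] at hx
    exact hr.one_lt.ne hx
  have h4 : Subgroup.centralizer {x} = T := le_antisymm (h3 x hxT hx1) fun z hz => by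
    rw [Subgroup.mem_centralizer_singleton_iff]
    exact (h2 z hz x hxT).eq
  refine ⟨T, h1, ?_, h3⟩
  rw [← h4]
  exact h.isCyclic hr hx

/-- `HasCyc` for subgroups -/
theorem hasCyc_of_injective {H : Type*} [Group H] (ι : H →* G) (hι : Function.Injective ι) {r : ℕ} (hr : r.Prime)
    (hrH : r ∣ Nat.card H) (h : HasCyc G r) : HasCyc H r := by
  have : Fact r.Prime := ⟨hr⟩
  have : Finite H := Finite.of_injective ι hι
  obtain ⟨T, h1, h2, h3⟩ := h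
  obtain ⟨x, hx⟩ := exists_prime_orderOf_dvd_card' (G := H) r hrH
  obtain ⟨g, hg⟩ := exists_conj_mem h3 hr h1 (u := ι x) (k := 1) (by rw [orderOf_injective ι hι, hx, pow_one])
  let φ : H →* G := (MulAut.conj g).toMonoidHom.comp ι
  have hφ : Function.Injective φ := (MulAut.conj g).injective.comp hι
  refine ⟨T.comap φ, ?_, ?_, ?_⟩
  · have hxT : x ∈ T.comap φ := hg
    rw [← hx]
    have := orderOf_dvd_natCard (⟨x, hxT⟩ : ↥(T.comap φ))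
    rwa [Subgroup.orderOf_mk] at this
  · have hf : Function.Injective ((φ.comp (T.comap φ).subtype).codRestrict T fun z => z.2) := by
      intro a b hab
      have h4 : φ a = φ b := congrArg Subtype.val hab
      exact Subtype.ext (hφ h4)
    exact isCyclic_of_injective _ hf
  · intro y hy hy1 z hz
    rw [Subgroup.mem_centralizer_singleton_iff] at hz
    refine h3 (φ y) hy (fun h => hy1 (hφ (h.trans (map_one φ).symm))) ?_
    rw [Subgroup.mem_centralizer_singleton_iff, ← map_mul, ← map_mul, hz]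

end Abs

variable {F : Type u} [Field F] [Fintype F] {q : ℕ}

/-- **`²E₆(q)`, `Φ₁₈`**: order `(q⁶ - q³ + 1)/(3, q + 1)`. -/
theorem exact_tE6_18 (hq : IsPrimePow q) (hK : Fintype.card F = q ^ 2) {N : ℕ}
    (hN : (N : ℤ) = 1 - (q : ℤ) ^ 3 + (q : ℤ) ^ 6) : CycExact ↥(twistedE6 F q) (N / Nat.gcd 3 (q + 1)) := by
  have hq2 : 2 ≤ q := hq.two_le
  obtain ⟨T, h1, h2, h3, h4⟩ := torus_tE6_18 hq hK hN
  have h8 : 8 ≤ q ^ 3 := by
    calc 8 = 2 ^ 3 := by norm_num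
      _ ≤ q ^ 3 := Nat.pow_le_pow_left hq2 3
  have hN3 : 3 < N := by
    have h5 : (8 : ℤ) ≤ (q : ℤ) ^ 3 := by exact_mod_cast h8
    have h6 : (N : ℤ) = 1 + (q : ℤ) ^ 3 * ((q : ℤ) ^ 3 - 1) := by rw [hN]; ring
    have h7 : (3 : ℤ) < N := by rw [h6]; nlinarith
    exact_mod_cast h7
  have h2N : ¬ 2 ∣ N := fun h => ((primes_18 hN).2 h).1 rfl
  by_cases hd : 3 ∣ q + 1
  · rw [Nat.gcd_eq_left hd] at h3 ⊢
    have hq3 : (q : ZMod 3) = 2 := by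
      have h7 := (ZMod.natCast_eq_zero_iff (q + 1) 3).2 hd
      push_cast at h7
      rw [eq_neg_of_add_eq_zero_left h7]
      decide
    have h3N : 3 ∣ N := by
      rw [← ZMod.natCast_eq_zero_iff]
      have h7 : ((N : ℤ) : ZMod 3) = 0 := by
        rw [hN]
        push_cast
        rw [hq3]
        decide
      exact_mod_cast h7
    obtain ⟨r, hr, hrN, -, hr3⟩ := exists_prime_of h2N (primes_18 hN).1 hN3
    -- the group `E₆(q²)`
    have hne : Nat.card ↥T ≠ N := by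
      intro hTN
      have : Fact r.Prime := ⟨hr⟩
      obtain ⟨⟨x, hxT⟩, hx⟩ := exists_prime_orderOf_dvd_card' (G := ↥T) r (by rw [hTN]; exact hrN)
      rw [Subgroup.orderOf_mk] at hx
      obtain ⟨N', hN'⟩ : ∃ N' : ℕ, (N' : ℤ) = 1 + (q : ℤ) ^ 3 + (q : ℤ) ^ 6 := ⟨1 + q ^ 3 + q ^ 6, by push_cast; rfl⟩
      have hN9 : ((N * N' : ℕ) : ℤ) = 1 + ((q ^ 2 : ℕ) : ℤ) ^ 3 + ((q ^ 2 : ℕ) : ℤ) ^ 6 := by
        push_cast; rw [hN, hN']; ring
      have hE := exact_E6_9 hK hN9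
      have h3q : 3 ∣ q ^ 2 - 1 := by
        have e : q ^ 2 - 1 = (q + 1) * (q - 1) := by
          have := Nat.sq_sub_sq q 1
          simpa using this
        rw [e]
        exact hd.mul_right _
      rw [Nat.gcd_eq_left h3q] at hE
      obtain ⟨N₁, rfl⟩ := h3N
      have e1 : 3 * N₁ * N' / 3 = N₁ * N' := by
        rw [mul_assoc, Nat.mul_div_cancel_left _ (by norm_num)]
      rw [e1] at hE
      have hrN1 : r ∣ N₁ := ((Nat.Prime.dvd_mul hr).1 hrN).resolve_left fun h =>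
        hr3 ((Nat.prime_dvd_prime_iff_eq hr Nat.prime_three).1 h)
      let ι : ↥(twistedE6 F q) →* ↥(chevE6.group F) := Subgroup.inclusion (TwE6Fr.tw_le hq hK)
      have hι : Function.Injective ι := Subgroup.inclusion_injective _
      have hιx : orderOf (ι x) = r := by rw [orderOf_injective ι hι, hx]
      have hcard := hE.card_centralizer hr (hrN1.mul_right N') hιx
      have hle : T.map ι ≤ Subgroup.centralizer {ι x} := by
        rintro _ ⟨t, ht, rfl⟩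
        rw [Subgroup.mem_centralizer_singleton_iff, ← map_mul, ← map_mul,
          Subgroup.mem_centralizer_singleton_iff.1 (le_centralizer_of_cyclic h1 hxT ht)]
      have h5 := Subgroup.card_dvd_of_le hle
      rw [Subgroup.card_map_of_injective hι, hTN, hcard] at h5
      have hN10 : 0 < N₁ := Nat.pos_of_ne_zero (by rintro rfl; omega)
      have h6 : 3 ∣ N' := by
        rw [mul_comm 3 N₁] at h5
        exact Nat.dvd_of_mul_dvd_mul_left hN10 h5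
      have h7 := zmod_of_dvd hN' h6
      push_cast at h7
      rw [hq3] at h7
      revert h7
      decide
    have h6 := eq_of_index Nat.prime_three (by omega) h2 h3 hne
    refine exact_of h1 h6 fun r hr hrN y hy hyr => ?_
    have hrN' : r ∣ N := hrN.trans (Nat.div_dvd_of_dvd h3N)
    have hr3 : r ≠ 3 := by
      rintro rfl
      apply (primes_18 hN).1
      obtain ⟨m, hm⟩ := hrN
      refine ⟨m, ?_⟩
      have := Nat.mul_div_cancel' h3N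
      rw [← this, hm]
      ring
    exact h4 r hr hrN' hr3 y hy hyr
  · rw [(Nat.Prime.coprime_iff_not_dvd Nat.prime_three).2 hd] at h3 ⊢
    rw [Nat.div_one]
    rw [one_mul] at h3
    have h3N : ¬ 3 ∣ N := by
      intro h
      have h3 : (1 - (q : ZMod 3) ^ 3 + (q : ZMod 3) ^ 6 = 0) := by
        have := zmod_of_dvd hN h
        push_cast at this
        exact this
      have h4 : (q : ZMod 3) = 2 := by
        generalize (q : ZMod 3) = x at h3 ⊢; revert h3; revert x; decide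
      apply hd
      rw [← ZMod.natCast_eq_zero_iff, Nat.cast_add, h4]
      decide
    exact exact_of h1 (Nat.dvd_antisymm h2 h3) fun r hr hrN => h4 r hr hrN (by rintro rfl; exact h3N hrN)

end Cfsg.Agent.H129.CycT
end
end
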