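import Cfsg.Agent.H129.StCover
import Cfsg.Agent.H129.FE.Lace
import Cfsg.Agent.H129.TwE6Idx
import Cfsg.Agent.ChevFast.E6
import Cfsg.Agent.ChevFast.Lin
import Cfsg.Agent.H129.RealE7_m3
import Cfsg.Agent.H129.PhiE
import Cfsg.Agent.H129.CycCard
import Cfsg.Agent.H129.CycRow
import Cfsg.Agent.H129.RealT_m3
import Cfsg.Agent.FastGrp
import Cfsg.Agent.Prune
set_option linter.all false

section
prune_inst 0x7f00000000000000000000000000000000000000000000000000000000000000000000000000000000000000000000000000000000000000000000000000000000000000000000000000000000000000003fffffffffffffffffffffffffffbeffbdffffffff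

-- part: H129/StTw
section
set_option linter.all false
open scoped Cfsg.Agent.FastGrp

/-!
# The twisted Frobenius map on the Steinberg group of type E₆ (helper129)

* `comm_rho` : the commutator table is compatible with the graph symmetry;
* `stSg φ` : `x̄_r(t) ↦ x̄_{ρ r}(ε_r φ(t))` on the presented group; `stSg_sth`, `theta_stSg`, `stSg_phi`;
* `lift_tw` : the elements of `²E₆(q)` lift to fixed elements.
-/

set_option autoImplicit false
set_option linter.unusedSectionVars false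

namespace Cfsg.Agent.H129.StTw

open Cfsg Cfsg.Lie Cfsg.Lie.ChevalleyDatum
open Cfsg.Agent.ChevalleyStructure Cfsg.Agent.ChevalleyStructure.Elts Cfsg.Agent.ChevalleyStructure.NPerm
open Cfsg.Agent.Nodes Cfsg.Agent.Nodes.RGDChev Cfsg.Agent.KFacts.RgdChevCoord Cfsg.Agent.BpExc.EmbInst
open Cfsg.Agent.ChevalleyStructure.StBasic Cfsg.Agent.ChevalleyStructure.StTheta Cfsg.Agent.H129.StCover
open Cfsg.Agent.ChevalleyStructure.TwE6Basic (sg rho rho_rho)

universe u v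

/-- the graph symmetry on numbers -/
def rhoN (n : ℕ) : ℕ := if h : n < 72 then (rho ⟨n, h⟩).val else n

/-- the signs on numbers -/
def epN (n : ℕ) : ℤ := if h : n < 72 then ep ⟨n, h⟩ else 1

theorem rhoN_of (r : Fin 72) : rhoN r.val = (rho r).val := dif_pos r.2

theorem epN_of (r : Fin 72) : epN r.val = ep r := dif_pos r.2

theorem rhoN_lt {n : ℕ} (h : n < 72) : rhoN n < 72 := by
  have := rhoN_of ⟨n, h⟩
  rw [show n = (⟨n, h⟩ : Fin 72).val from rfl, this]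
  exact (rho ⟨n, h⟩).2

theorem rhoN_rhoN {n : ℕ} (h : n < 72) : rhoN (rhoN n) = n := by
  have h1 := rhoN_of ⟨n, h⟩
  have h2 := rhoN_of (rho ⟨n, h⟩)
  rw [rho_rho] at h2
  have h3 : rhoN n = (rho ⟨n, h⟩).val := h1
  rw [h3, h2]

theorem chevE6_neg_lt : ∀ r : Fin 72, chevE6.neg r.val < 72 := by (rewrite [Cfsg.Agent.ChevFast.E6.neg]; decide +kernel)

theorem neg_rho : ∀ r : Fin 72, chevE6.neg (rho r).val = rhoN (chevE6.neg r.val) := by (delta Cfsg.Agent.ChevalleyStructure.GraphSymm.symmE6 Cfsg.Agent.ChevalleyStructure.SignedSymm.Tables.check Cfsg.Agent.ChevalleyStructure.SignedSymm.Tables.sigma Cfsg.Agent.ChevalleyStructure.SignedSymm.Tables.sigma0 Cfsg.Agent.ChevalleyStructure.SignedSymm.Tables.toSymm Cfsg.Agent.ChevalleyStructure.SignedSymm.chainL Cfsg.Agent.ChevalleyStructure.TwE6Basic.rho Cfsg.Agent.H129.StTw.rhoN; rewrite [Cfsg.Agent.ChevFast.E6.neg]; decide +kernel)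

theorem ep_neg : ∀ r : Fin 72, epN (chevE6.neg r.val) = ep r := by decide +kernel

theorem chain_E6 : ∀ r < 72, ∀ e ∈ (chevE6.chain.getD r #[]).toList, e.2.toList.length ≤ 1 := by (rewrite [Cfsg.Agent.ChevFast.E6.chain]; decide +kernel)

theorem terms_E6 (r s : Fin 72) : chevE6.commTerms r.val s.val =
    (chevE6.chainEntry r.val s.val).map fun q => (q.1, q.2, 1, 1) :=
  Cfsg.Agent.H129.FE.laced_of chain_E6 r.val r.2 s.val s.2

theorem entry_rho : ∀ r s : Fin 72, chevE6.chainEntry (rho r).val (rho s).val =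
    (chevE6.chainEntry r.val s.val).map fun q => (rhoN q.1, epN q.1 * ep r * ep s * q.2) := by
  (delta Cfsg.Agent.BpExc.EmbInst.ep Cfsg.Agent.ChevalleyStructure.GraphSymm.symmE6 Cfsg.Agent.ChevalleyStructure.SignedSymm.Tables.check Cfsg.Agent.ChevalleyStructure.SignedSymm.Tables.sigma Cfsg.Agent.ChevalleyStructure.SignedSymm.Tables.sigma0 Cfsg.Agent.ChevalleyStructure.SignedSymm.Tables.toSymm Cfsg.Agent.ChevalleyStructure.SignedSymm.chainL Cfsg.Agent.ChevalleyStructure.TwE6Basic.epsE Cfsg.Agent.ChevalleyStructure.TwE6Basic.rho Cfsg.Agent.H129.StTw.epN Cfsg.Agent.H129.StTw.rhoN; rewrite [Cfsg.Agent.ChevFast.E6.chainEntry]; open scoped Cfsg.Agent.ChevFast.Lin in decide +kernel)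

theorem comm_rho : ∀ r s : Fin 72, chevE6.commTerms (rho r).val (rho s).val =
    (chevE6.commTerms r.val s.val).map fun c => (rhoN c.1, epN c.1 * ep r * ep s * c.2.1, c.2.2) := by
  intro r s
  rw [terms_E6, terms_E6, entry_rho, List.map_map, List.map_map]
  rfl

theorem entry_lt : ∀ r < 72, ∀ e ∈ (chevE6.chain.getD r #[]).toList, ∀ q ∈ e.2.toList, q.1 < 72 := by decide +kernel

theorem comm_one : ∀ r s : Fin 72, ∀ c ∈ chevE6.commTerms r.val s.val, c.1 < 72 ∧ c.2.2 = (1, 1) := by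
  intro r s c hc
  rw [terms_E6, List.mem_map] at hc
  obtain ⟨q, hq, rfl⟩ := hc
  refine ⟨?_, rfl⟩
  unfold chainEntry at hq
  split at hq
  · exact absurd hq List.not_mem_nil
  · rename_i e he
    exact entry_lt r.val r.2 e (List.mem_of_find?_eq_some he) q hq

theorem ep_mul_self (r : Fin 72) : ep r * ep r = 1 := eps_sq r

section Def

variable {k : Type u} [Field k]

theorem epF_mul_self (r : Fin 72) : ((ep r : ℤ) : k) * ((ep r : ℤ) : k) = 1 := by
  rw [← Int.cast_mul, ep_mul_self, Int.cast_one]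

theorem epF_ne (r : Fin 72) : ((ep r : ℤ) : k) ≠ 0 := fun h => by
  have := epF_mul_self (k := k) r
  rw [h, zero_mul] at this
  exact zero_ne_one this

theorem epF_inv (r : Fin 72) : ((ep r : ℤ) : k)⁻¹ = ((ep r : ℤ) : k) :=
  inv_eq_of_mul_eq_one_right (epF_mul_self r)

/-- the images of the generators -/
def fSg (φ : k →+* k) (r : ℕ) (t : k) : chevE6.SteinbergGroup k :=
  chevE6.stGen k (rhoN r) (((epN r : ℤ) : k) * φ t)

theorem fSg_fin (φ : k →+* k) (r : Fin 72) (t : k) :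
    fSg φ r.val t = chevE6.stGen k (rho r).val (((ep r : ℤ) : k) * φ t) := by
  unfold fSg
  rw [rhoN_of, epN_of]

theorem fSg_neg (φ : k →+* k) (r : Fin 72) (t : k) :
    fSg φ (chevE6.neg r.val) t = chevE6.stGen k (chevE6.neg (rho r).val) (((ep r : ℤ) : k) * φ t) := by
  unfold fSg
  rw [← neg_rho, ep_neg]

theorem fSg_h (φ : k →+* k) (r : Fin 72) {t : k} (ht : t ≠ 0) :
    ((chevE6.hWord r.val t).map fun p => fSg φ p.1 p.2).prod = sth chevE6 (rho r).val (φ t) := by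
  have h1 : ((chevE6.hWord r.val t).map fun p => fSg φ p.1 p.2).prod =
      stn chevE6 (rho r).val (((ep r : ℤ) : k) * φ t) * stn chevE6 (rho r).val (-((ep r : ℤ) : k)) := by
    show ([fSg φ r.val t, fSg φ (chevE6.neg r.val) (-t⁻¹), fSg φ r.val t, fSg φ r.val (-1),
      fSg φ (chevE6.neg r.val) (-(-1)⁻¹), fSg φ r.val (-1)] : List _).prod = _
    simp only [List.prod_cons, List.prod_nil, mul_one]
    rw [fSg_fin, fSg_neg, fSg_fin, fSg_neg, stn_eq, stn_eq]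
    have e1 : ((ep r : ℤ) : k) * φ (-t⁻¹) = -(((ep r : ℤ) : k) * φ t)⁻¹ := by
      rw [map_neg, map_inv₀, mul_inv, epF_inv, mul_neg]
    have e2 : ((ep r : ℤ) : k) * φ (-1) = -((ep r : ℤ) : k) := by rw [map_neg, map_one, mul_neg, mul_one]
    have e3 : ((ep r : ℤ) : k) * φ (-(-1)⁻¹) = -(-((ep r : ℤ) : k))⁻¹ := by
      rw [inv_neg, inv_one, neg_neg, map_one, mul_one, inv_neg, epF_inv, neg_neg]
    rw [e1, e2, e3]
    simp only [mul_assoc]
  have h2 : ∀ c : k, stn chevE6 (rho r).val c = sth chevE6 (rho r).val c * stn chevE6 (rho r).val 1 := fun c => by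
    rw [sth_eq, inv_mul_cancel_right]
  have h3 : (rho r).val < chevE6.nroots := (rho r).2
  rw [h1, stn_neg, h2 (((ep r : ℤ) : k) * φ t), h2 ((ep r : ℤ) : k), mul_inv_rev, ← mul_assoc, mul_inv_cancel_right,
    ← sth_mul chevE6 h3 (epF_ne r) ((map_ne_zero φ).2 ht), ← div_eq_mul_inv]
  have h4 : Commute (sth chevE6 (rho r).val ((ep r : ℤ) : k)) (sth chevE6 (rho r).val (φ t)) := by
    show _ * _ = _ * _
    rw [sth_mul chevE6 h3 (epF_ne r) ((map_ne_zero φ).2 ht), sth_mul chevE6 h3 ((map_ne_zero φ).2 ht) (epF_ne r),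
      mul_comm]
  rw [h4.eq, mul_div_assoc, div_self', mul_one]

/-- **The twisted map on the presented group.** -/
def stSg (φ : k →+* k) : chevE6.SteinbergGroup k →* chevE6.SteinbergGroup k :=
  StBasic.lift chevE6 (fSg φ) (fun r t h => stGen_of_not_lt chevE6 (by
      show ¬ rhoN r < 72
      have h' : ¬ r < 72 := h
      unfold rhoN
      rwa [dif_neg h']) _)
    (fun r t₁ t₂ _ => by
      unfold fSg
      rw [stGen_mul, ← mul_add, map_add])
    (fun r s t u' hr hs hne hneg => by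
      have hr' : r < 72 := hr
      have hs' : s < 72 := hs
      have h1 : (rho ⟨s, hs'⟩).val ≠ (rho ⟨r, hr'⟩).val := fun h => hne (by
        have h2 := congrArg rho (Fin.ext h)
        rw [rho_rho, rho_rho] at h2
        exact congrArg Fin.val h2)
      have h2 : (rho ⟨s, hs'⟩).val ≠ chevE6.neg (rho ⟨r, hr'⟩).val := fun h => hneg (by
        rw [neg_rho] at h
        have h3 := congrArg rhoN h
        rw [rhoN_rhoN (chevE6_neg_lt ⟨r, hr'⟩), ← rhoN_of, rhoN_rhoN hs'] at h3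
        exact h3)
      have e1 := fSg_fin φ ⟨r, hr'⟩ t
      have e2 := fSg_fin φ ⟨s, hs'⟩ u'
      simp only at e1 e2
      rw [e1, e2, stGen_comm chevE6 (rho ⟨r, hr'⟩).2 (rho ⟨s, hs'⟩).2 h1 h2]
      rw [← MonoidHom.id_apply (chevE6.SteinbergGroup k) (wd chevE6 _), map_wd]
      unfold ChevalleyDatum.commWord
      rw [comm_rho, List.map_map, List.map_map, List.map_map]
      congr 1
      refine List.map_congr_left fun c hc => ?_
      obtain ⟨hc1, hc2⟩ := comm_one ⟨r, hr'⟩ ⟨s, hs'⟩ c hc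
      simp only [Function.comp_apply, MonoidHom.id_apply]
      unfold fSg
      rw [hc2]
      congr 1
      push_cast
      simp only [pow_one, map_mul, map_neg, map_intCast]
      have e3 := epF_mul_self (k := k) ⟨r, hr'⟩
      have e4 := epF_mul_self (k := k) ⟨s, hs'⟩
      linear_combination (-(epN c.1 : k) * (c.2.1 : k) * φ t * φ u') *
        (((ep ⟨s, hs'⟩ : ℤ) : k) * ((ep ⟨s, hs'⟩ : ℤ) : k)) * e3 - ((epN c.1 : k) * (c.2.1 : k) * φ t * φ u') * e4)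
    (fun r t₁ t₂ hr h₁ h₂ => by
      have hr' : r < 72 := hr
      have e1 := fSg_h φ ⟨r, hr'⟩ h₁
      have e2 := fSg_h φ ⟨r, hr'⟩ h₂
      have e3 := fSg_h φ ⟨r, hr'⟩ (mul_ne_zero h₁ h₂)
      simp only at e1 e2 e3
      rw [e1, e2, e3, map_mul]
      exact sth_mul chevE6 (rho ⟨r, hr'⟩).2 ((map_ne_zero φ).2 h₁) ((map_ne_zero φ).2 h₂))

theorem stSg_stGen (φ : k →+* k) (r : Fin 72) (t : k) :
    stSg φ (chevE6.stGen k r.val t) = chevE6.stGen k (rho r).val (((ep r : ℤ) : k) * φ t) := by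
  exact (lift_stGen chevE6 (fSg φ) _ _ _ _ r.val t).trans (fSg_fin φ r t)

theorem stSg_fSg (φ : k →+* k) {r : ℕ} (_hr : r < 72) (t : k) : stSg φ (chevE6.stGen k r t) = fSg φ r t :=
  (lift_stGen chevE6 (fSg φ) _ _ _ _ r t)

theorem stSg_sth (φ : k →+* k) (r : Fin 72) {t : k} (ht : t ≠ 0) :
    stSg φ (sth chevE6 r.val t) = sth chevE6 (rho r).val (φ t) := by
  rw [← fSg_h φ r ht]
  show stSg φ (wd chevE6 (chevE6.hWord r.val t)) = _
  rw [map_wd]
  congr 1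
  refine List.map_congr_left fun p hp => ?_
  refine stSg_fSg φ ?_ _
  have h1 : p.1 = r.val ∨ p.1 = chevE6.neg r.val := by
    have h2 : p ∈ [(r.val, t), (chevE6.neg r.val, -t⁻¹), (r.val, t), (r.val, -1), (chevE6.neg r.val, -(-1)⁻¹),
      (r.val, -1)] := hp
    simp only [List.mem_cons, List.not_mem_nil, or_false] at h2
    rcases h2 with rfl | rfl | rfl | rfl | rfl | rfl
    · exact Or.inl rfl
    · exact Or.inr rfl
    · exact Or.inl rfl
    · exact Or.inl rfl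
    · exact Or.inr rfl
    · exact Or.inl rfl
  rcases h1 with h1 | h1 <;> rw [h1]
  · exact r.2
  · exact chevE6_neg_lt r

end Def

section Theta

variable {k : Type u} [Field k]

theorem coe_theta_stGen (r : Fin 72) (t : k) :
    ((theta RGDTwE6.hp.inList k (chevE6.stGen k r.val t) : ↥(chevE6.group k)) : GL chevE6.Idx k) =
      xG RGDTwE6.hp.inList r.val t := by
  rw [coe_theta, thetaGL_stGen]

theorem theta_stSg_coe (φ : k →+* k) (x : chevE6.SteinbergGroup k) :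
    ((theta RGDTwE6.hp.inList k (stSg φ x) : ↥(chevE6.group k)) : GL chevE6.Idx k) =
      sg φ (theta RGDTwE6.hp.inList k x : ↥(chevE6.group k)) := by
  have h : ((chevE6.group k).subtype.comp (theta RGDTwE6.hp.inList k)).comp (stSg φ) =
      (sg φ).comp ((chevE6.group k).subtype.comp (theta RGDTwE6.hp.inList k)) := by
    apply hom_ext
    intro r hr t
    have hr' : r < 72 := hr
    show ((theta RGDTwE6.hp.inList k (stSg φ (chevE6.stGen k (⟨r, hr'⟩ : Fin 72).val t)) : ↥(chevE6.group k)) :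
      GL chevE6.Idx k) = sg φ ((theta RGDTwE6.hp.inList k (chevE6.stGen k (⟨r, hr'⟩ : Fin 72).val t) :
      ↥(chevE6.group k)) : GL chevE6.Idx k)
    rw [stSg_stGen, coe_theta_stGen, coe_theta_stGen]
    exact (sg_ep φ ⟨r, hr'⟩ t).symm
  exact DFunLike.congr_fun h x

/-- the permutation of the nodes -/
def nod : Fin 6 → Fin 6 := ![5, 1, 4, 3, 2, 0]

theorem rho_simple : ∀ i : Fin 6, ∀ h : chevE6.simple i.val < 72,
    (rho ⟨chevE6.simple i.val, h⟩).val = chevE6.simple (nod i).val := by decide +kernel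

theorem nod_nod : ∀ i : Fin 6, nod (nod i) = i := by decide +kernel

variable {Φ : (Fin chevE6.rank → kˣ) →* chevE6.SteinbergGroup k} (hΦ : IsPhi Φ)

/-- `nod` on `Fin chevE6.rank` -/
def nodR (i : Fin chevE6.rank) : Fin chevE6.rank := nod i

theorem nodR_nodR (i : Fin chevE6.rank) : nodR (nodR i) = i := nod_nod i

include hΦ in
theorem stSg_phi (φ : k →+* k) (b : Fin chevE6.rank → kˣ) :
    stSg φ (Φ b) = Φ (fun i => Units.map (φ : k →* k) (b (nodR i))) := by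
  let S : (Fin chevE6.rank → kˣ) →* (Fin chevE6.rank → kˣ) :=
    { toFun := fun c i => Units.map (φ : k →* k) (c (nodR i))
      map_one' := by funext i; simp
      map_mul' := fun a b => by funext i; simp }
  have h : (stSg φ).comp Φ = Φ.comp S := by
    apply MonoidHom.pi_ext
    intro j x
    show stSg φ (Φ (Pi.mulSingle j x)) = Φ (S (Pi.mulSingle j x))
    have e : S (Pi.mulSingle j x) = Pi.mulSingle (nodR j) (Units.map (φ : k →* k) x) := by
      funext m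
      show Units.map (φ : k →* k) ((Pi.mulSingle j x : Fin chevE6.rank → kˣ) (nodR m)) = _
      by_cases hm : m = nodR j
      · subst hm; rw [nodR_nodR, Pi.mulSingle_eq_same, Pi.mulSingle_eq_same]
      · have hm' : nodR m ≠ j := fun h => hm (by rw [← h, nodR_nodR])
        rw [Pi.mulSingle_eq_of_ne hm', Pi.mulSingle_eq_of_ne hm, map_one]
    have hs : chevE6.simple j < 72 := simple_lt RGDTwE6.hp.inList j.2
    have h1 := stSg_sth φ ⟨chevE6.simple j, hs⟩ x.ne_zero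
    simp only at h1
    rw [hΦ.single, h1, e, hΦ.single]
    have h2 := rho_simple j hs
    rw [h2]
    rfl
  exact DFunLike.congr_fun h b

end Theta

end Cfsg.Agent.H129.StTw
end

-- part: H129/StTwT
section
set_option linter.all false
open scoped Cfsg.Agent.FastGrp

/-!
# The cyclic tori of `²E₆(q)`, `3 ∣ q + 1`: exact orders (helper129)

* `not_mem_range'` : the generator of a twisted torus does not lie in the image of the finite group;
* `lift_tw` : the elements of `²E₆(q)` lift to fixed elements of the Steinberg group;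
* `flip_Td` : the torus of `²E₆(q)` has index 3 in the torus of the algebraic group.
-/

set_option autoImplicit false
set_option linter.unusedSectionVars false

namespace Cfsg.Agent.H129.StTwT

open CoxeterSystem Cfsg Cfsg.Lie Cfsg.Lie.ChevalleyDatum
open Cfsg.Agent.ChevalleyStructure Cfsg.Agent.ChevalleyStructure.Elts Cfsg.Agent.ChevalleyStructure.CoxeterGeom
  Cfsg.Agent.ChevalleyStructure.CoxeterGeomTypes Cfsg.Agent.ChevalleyStructure.NPerm
open Cfsg.Agent.Tits.Roots Cfsg.Agent.Tits.Core Cfsg.Agent.Nodes Cfsg.Agent.Nodes.Reps Cfsg.Agent.Nodes.BNOf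
  Cfsg.Agent.Nodes.RGDChev Cfsg.Agent.Nodes.Bruhat Cfsg.Agent.Nodes.SubComb Cfsg.Agent.Nodes.Coroot
open Cfsg.Agent.KFacts.RgdField Cfsg.Agent.KFacts.RgdChevCoord Cfsg.Agent.BpExc.TorCent Cfsg.Agent.BpExc.TorChev
open Cfsg.Agent.GpExc.Field Cfsg.Agent.BpExc.Tow Cfsg.Agent.BpExc.TowChev Cfsg.Agent.BpExc.Fr
  Cfsg.Agent.BpExc.LangFr Cfsg.Agent.LangThm Cfsg.Agent.BpExc Cfsg.Agent.H129.TorusChar Cfsg.Agent.H129.TorusCent
  Cfsg.Agent.H129.TorusTw Cfsg.Agent.H129.TorusMain Cfsg.Agent.H129.TorusUntw Cfsg.Agent.H129.TorAct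
  Cfsg.Agent.H129.WData Cfsg.Agent.H129.StCover Cfsg.Agent.H129.StTw Cfsg.Agent.BpExc.EmbInst
open Cfsg.Agent.ChevalleyStructure.StBasic Cfsg.Agent.ChevalleyStructure.StTheta
open Cfsg.Agent.ChevalleyStructure.TwE6Basic (sg rho rho_rho)
open Cfsg.Agent.ChevalleyStructure.StTorus (eval_eq_one)

universe u v

/-! ### the theorem -/

section Main

variable {D : ChevalleyDatum} {l : ℕ} {M : CoxeterMatrix (Fin l)} (hp : IsType D l M) {k : Type u} [Field k]
  [IsAlgClosed k] {W : Type*} [Group W] (cs : CoxeterSystem M W)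
  {Φ : (Fin D.rank → kˣ) →* D.SteinbergGroup k} (hΦ : IsPhi Φ)

include hp cs hΦ in
/-- **The generator of a twisted torus does not lie in the image of the finite group** (`Ψ` lifts `σ` to the Steinberg
group and is trivial on its centre, which is not trivial; the elements of the finite group lift to fixed elements). -/
theorem not_mem_range' {G0 : Type*} [Group G0] (e0 : G0 →* ↥(D.group k)) (σ : MulAut ↥(D.group k))
    (Ψ : D.SteinbergGroup k →* D.SteinbergGroup k) (hθΨ : ∀ x, theta hp.inList k (Ψ x) = σ (theta hp.inList k x))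
    {P : Matrix (Fin D.rank) (Fin D.rank) ℤ} {q : ℕ} (hq2 : 2 ≤ q)
    (hΨ : ∀ b, Ψ (Φ b) = Φ (mAct P (fun i => b i ^ q)))
    (hcen : ∀ κ ∈ Subgroup.center (D.SteinbergGroup k), Ψ κ = κ)
    (hlift : ∀ x : G0, ∃ x', Ψ x' = x' ∧ theta hp.inList k x' = e0 x)
    {c : Fin D.rank → kˣ} (hc : ∀ s < D.nroots, ∏ i : Fin D.rank, c i ^ D.cartan i s = 1) (hc1 : c ≠ 1)
    {hN : NSys M (TT D k) (nc hp k)} {w : W} {n z t : ↥(D.group k)} (hn : Rp cs hN w n)
    (hz : n = z⁻¹ * σ z)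
    (hgen : ∀ s ∈ TT D k, n * σ s * n⁻¹ = s → s ∈ Subgroup.zpowers t) :
    z * t * z⁻¹ ∉ e0.range := by
  intro hmem
  have hD := hp.inList
  -- the representative
  obtain ⟨ω, rfl⟩ := cs.wordProd_surjective w
  have hrp : Rp cs hN (cs.wordProd ω) (theta hD k (nW D k ω)) := by
    clear hn
    induction ω with
    | nil =>
      rw [wordProd_nil]
      have : theta hD k (nW D k ([] : List (Fin l))) = 1 := by simp [nW]
      rw [this]
      exact rp_one
    | cons i ω ih =>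
      rw [wordProd_cons, nW_cons, map_mul, theta_stn_simple hp]
      exact (rp_simple cs hN i).mul ih
  have ht0 : (theta hD k (nW D k ω))⁻¹ * n ∈ TT D k := hrp.unique hn
  obtain ⟨A, hA⟩ := exists_matrix hD hΦ (lt_rank hp) ω
  -- the solution
  obtain ⟨b, hb⟩ := exists_solution (A * P) hq2 c
  rw [mAct_mul] at hb
  have hσb : Ψ (Φ b) = Φ (mAct P (fun i => b i ^ q)) := hΨ b
  have hτ : nW D k ω * Ψ (Φ b) * (nW D k ω)⁻¹ = Φ b * Φ c := by
    rw [hσb, hA, hb, map_mul]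
  have hcc : Φ c ∈ Subgroup.center (D.SteinbergGroup k) := (hΦ.mem_iff c).2 hc
  have hθc : theta hD k (Φ c) = 1 := by
    rw [← MonoidHom.mem_ker, ker_theta hD]; exact hcc
  -- the element `s`
  have hs : theta hD k (Φ b) ∈ TT D k := theta_phi_mem hD hΦ b
  have hσs : σ (theta hD k (Φ b)) ∈ TT D k := by
    rw [← hθΨ, hσb]
    exact theta_phi_mem hD hΦ _
  have hns : n * σ (theta hD k (Φ b)) * n⁻¹ = theta hD k (Φ b) := by
    have h1 := congrArg (theta hD k) hτ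
    rw [map_mul, map_mul, map_inv, map_mul, hθc, mul_one, hθΨ] at h1
    have h2 : n = theta hD k (nW D k ω) * ((theta hD k (nW D k ω))⁻¹ * n) := by group
    have h3 := Cfsg.Agent.BpExc.TorChev.TT_comm hp _ ht0 _ hσs
    rw [h2]
    calc theta hD k (nW D k ω) * ((theta hD k (nW D k ω))⁻¹ * n) * σ (theta hD k (Φ b)) *
          (theta hD k (nW D k ω) * ((theta hD k (nW D k ω))⁻¹ * n))⁻¹
        = theta hD k (nW D k ω) * ((((theta hD k (nW D k ω))⁻¹ * n) * σ (theta hD k (Φ b))) *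
          ((theta hD k (nW D k ω))⁻¹ * n)⁻¹) * (theta hD k (nW D k ω))⁻¹ := by group
      _ = theta hD k (nW D k ω) * σ (theta hD k (Φ b)) * (theta hD k (nW D k ω))⁻¹ := by
        rw [h3]; group
      _ = _ := h1
  obtain ⟨m, hm⟩ := hgen _ hs hns
  have hm' : t ^ m = theta hD k (Φ b) := hm
  -- its conjugate lies in the image
  have hzs : z * theta hD k (Φ b) * z⁻¹ ∈ e0.range := by
    rw [← hm', ← conj_zpow]
    exact zpow_mem hmem m
  obtain ⟨x, hx⟩ := hzs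
  obtain ⟨E, hEfix, hE⟩ := hlift x
  obtain ⟨z', rfl⟩ := theta_surjective hD z
  have hθE : theta hD k E = theta hD k (z' * Φ b * z'⁻¹) := by
    rw [hE, hx, map_mul, map_mul, map_inv]
  have key : ∀ {x y : D.SteinbergGroup k}, theta hD k x = theta hD k y →
      ∃ κ ∈ Subgroup.center (D.SteinbergGroup k), y = x * κ := by
    intro x y hxy
    refine ⟨x⁻¹ * y, ?_, by group⟩
    rw [← ker_theta hD, MonoidHom.mem_ker, map_mul, map_inv, hxy, inv_mul_cancel]
  obtain ⟨κ, hκ, h1⟩ := key hθE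
  -- the lift of `z`
  obtain ⟨a, ha⟩ := exists_theta_phi hΦ hp ht0
  have hθn : theta hD k (nW D k ω * Φ a) = theta hD k (z'⁻¹ * Ψ z') := by
    rw [map_mul, ha, map_mul, map_inv, hθΨ, ← hz]
    group
  obtain ⟨κ', hκ', h2⟩ := key hθn
  have h3 : Ψ z' = z' * (nW D k ω * Φ a * κ') := by rw [← h2]; group
  have hκc : ∀ x : D.SteinbergGroup k, κ' * x * κ'⁻¹ = x := fun x => by
    rw [← Subgroup.mem_center_iff.1 hκ' x, mul_inv_cancel_right]
  have h4 : Ψ (z' * Φ b * z'⁻¹) = z' * (Φ b * Φ c) * z'⁻¹ := by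
    rw [map_mul, map_mul, map_inv, h3, ← hτ]
    have h5 : Φ a * Ψ (Φ b) * (Φ a)⁻¹ = Ψ (Φ b) := by
      rw [hσb, ← map_mul, ← map_inv, ← map_mul]
      congr 1
      exact mul_inv_cancel_comm _ _
    calc z' * (nW D k ω * Φ a * κ') * Ψ (Φ b) * (z' * (nW D k ω * Φ a * κ'))⁻¹
        = z' * (nW D k ω * (Φ a * (κ' * Ψ (Φ b) * κ'⁻¹) * (Φ a)⁻¹) * (nW D k ω)⁻¹) * z'⁻¹ := by group
      _ = z' * (nW D k ω * Ψ (Φ b) * (nW D k ω)⁻¹) * z'⁻¹ := by rw [hκc, h5]
  rw [h1, map_mul, hEfix, hcen κ hκ, ← h1] at h4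
  have h5 : Φ c = 1 := by
    have h6 : z' * Φ b * z'⁻¹ = z' * Φ b * Φ c * z'⁻¹ := by rw [h4]; group
    have h7 := mul_right_cancel h6
    exact (mul_eq_left.1 h7.symm)
  exact hc1 (hΦ.inj (by rw [h5, map_one]))

end Main

/-! ### lifts of the elements of the twisted group -/

section Lift

variable {k : Type u} [Field k] [IsAlgClosed k] {p e : ℕ} [Fact p.Prime] [CharP k p]

theorem theta_stSg (x : chevE6.SteinbergGroup k) :
    theta RGDTwE6.hp.inList k (stSg (iterateFrobenius k p e) x) = TwE6Fr.tau k p e (theta RGDTwE6.hp.inList k x) := by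
  apply Subtype.ext
  rw [theta_stSg_coe, TwE6Fr.coe_tau]

theorem ep_simple : ∀ r ∈ ([46, 25, 39, 32, 56, 36, 15, 35, 42, 37, 29, 34] : List (Fin 72)), ep r = 1 := by
  decide +kernel

theorem rho_fix : ∀ r ∈ ([46, 25, 39, 32] : List (Fin 72)), rho r = r := by decide +kernel

/-- the pairs -/
def pA : Fin 4 → Fin 72 := ![56, 15, 42, 29]

/-- the pairs -/
def pB : Fin 4 → Fin 72 := ![36, 35, 37, 34]

theorem pair_ep : ∀ i : Fin 4, ep (pA i) = 1 ∧ ep (pB i) = 1 := by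
  decide +kernel

theorem pair_rho : ∀ i : Fin 4, rho (pA i) = pB i ∧ rho (pB i) = pA i ∧ (pB i).val ≠ (pA i).val := by
  decide +kernel

theorem pair_neg : ∀ i : Fin 4, (pB i).val ≠ chevE6.neg (pA i).val := by
  decide +kernel

theorem pair_comm : ∀ i : Fin 4, chevE6.commTerms (pA i).val (pB i).val = [] := by
  decide +kernel

/-- the elements of the twisted group lift to fixed elements -/
theorem lift_tw {F : Type u} [Field F] [Fintype F] (f : F →+* k) {q : ℕ} (hqe : q = p ^ e) (hq : IsPrimePow q)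
    (hF : Fintype.card F = q ^ 2) (x : ↥(twistedE6 F q)) :
    ∃ x', stSg (iterateFrobenius k p e) x' = x' ∧ theta RGDTwE6.hp.inList k x' = TwE6Fr.embT f hq hF x := by
  set Ψ := stSg (iterateFrobenius k p e) with hΨ
  set θ := theta RGDTwE6.hp.inList k with hθ
  have hφ : ∀ t, iterateFrobenius k p e t = t ^ q := TwE6Fr.frob_apply hqe
  let L : Subgroup (GL chevE6.Idx k) :=
    ((Ψ.eqLocus (MonoidHom.id _)).map θ).map (chevE6.group k).subtype
  have hL : twistedE6 F q ≤ L.comap (glMap chevE6 f) := by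
    rw [TwE6Basic.twisted_le_iff]
    constructor
    · intro t ht r hr
      have hft : iterateFrobenius k p e (f t) = f t := by rw [hφ, ← map_pow, ht]
      have hr' : ∃ s ∈ ([46, 25, 39, 32] : List (Fin 72)), s.val = r := by
        simp only [List.mem_cons, List.not_mem_nil, or_false] at hr
        rcases hr with rfl | rfl | rfl | rfl
        · exact ⟨46, by simp, rfl⟩
        · exact ⟨25, by simp, rfl⟩
        · exact ⟨39, by simp, rfl⟩
        · exact ⟨32, by simp, rfl⟩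
      obtain ⟨s, hs, rfl⟩ := hr'
      have h1 : ep s = 1 := ep_simple s (by
        simp only [List.mem_cons, List.not_mem_nil, or_false] at hs ⊢
        rcases hs with rfl | rfl | rfl | rfl <;> simp)
      refine ⟨θ (chevE6.stGen k s.val (f t)), ⟨_, ?_, rfl⟩, ?_⟩
      · show Ψ _ = _
        rw [hΨ, stSg_stGen, rho_fix s hs, h1, Int.cast_one, one_mul, hft]
        rfl
      · show ((θ (chevE6.stGen k s.val (f t)) : ↥(chevE6.group k)) : GL chevE6.Idx k) = _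
        rw [hθ, coe_theta_stGen]
        exact (glMap_xG RGDTwE6.hp.inList f s.val t).symm
    · intro t rs hr
      have hft : iterateFrobenius k p e (f t) = f (t ^ q) := by rw [hφ, ← map_pow]
      have hft2 : iterateFrobenius k p e (f (t ^ q)) = f t := by
        rw [hφ, ← map_pow, ← pow_mul, ← sq, ← hF, FiniteField.pow_card]
      have hr' : ∃ i : Fin 4, rs = ((pA i).val, (pB i).val) := by
        simp only [List.mem_cons, List.not_mem_nil, or_false] at hr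
        rcases hr with rfl | rfl | rfl | rfl
        · exact ⟨0, rfl⟩
        · exact ⟨1, rfl⟩
        · exact ⟨2, rfl⟩
        · exact ⟨3, rfl⟩
      obtain ⟨i, rfl⟩ := hr'
      obtain ⟨h1, h2⟩ := pair_ep i
      obtain ⟨h3, h4, h5⟩ := pair_rho i
      have h6 := pair_neg i
      have h7 := pair_comm i
      refine ⟨θ (chevE6.stGen k (pA i).val (f t) * chevE6.stGen k (pB i).val (f (t ^ q))), ⟨_, ?_, rfl⟩, ?_⟩
      · show Ψ _ = _
        rw [hΨ, map_mul, stSg_stGen, stSg_stGen, h3, h4, h1, h2, Int.cast_one, one_mul, one_mul, hft, hft2]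
        have h8 := stGen_mul_stGen chevE6 (pA i).2 (pB i).2 h5 h6 (f t) (f (t ^ q))
        have h9 : chevE6.commWord k (pA i).val (pB i).val (f t) (f (t ^ q)) = [] := by
          unfold ChevalleyDatum.commWord
          rw [h7]
          rfl
        rw [h9, wd_nil, mul_one] at h8
        exact h8
      · show ((θ (chevE6.stGen k (pA i).val (f t) * chevE6.stGen k (pB i).val (f (t ^ q))) : ↥(chevE6.group k)) :
          GL chevE6.Idx k) = _
        rw [map_mul, Subgroup.coe_mul, hθ, coe_theta_stGen, coe_theta_stGen, map_mul]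
        congr 1
        · exact (glMap_xG RGDTwE6.hp.inList f (pA i).val t).symm
        · exact (glMap_xG RGDTwE6.hp.inList f (pB i).val (t ^ q)).symm
  obtain ⟨y, ⟨x', hx', rfl⟩, hy⟩ := hL x.2
  refine ⟨x', hx', Subtype.ext ?_⟩
  rw [TwE6Fr.coe_embT]
  exact hy

end Lift

/-! ### the centre -/

section Cen

variable {k : Type u} [Field k] [IsAlgClosed k]

/-- the permutation matrix -/
def Pm : Matrix (Fin chevE6.rank) (Fin chevE6.rank) ℤ := Matrix.of fun i j => if j = nodR i then 1 else 0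

theorem mAct_Pm (c : Fin chevE6.rank → kˣ) (i : Fin chevE6.rank) : mAct Pm c i = c (nodR i) := by
  unfold mAct Pm
  rw [Finset.prod_eq_single (nodR i)]
  · rw [Matrix.of_apply, if_pos rfl, zpow_one]
  · intro b _ hb
    rw [Matrix.of_apply, if_neg hb, zpow_zero]
  · intro hj
    exact absurd (Finset.mem_univ _) hj

/-- three times the inverse of the Cartan matrix -/
def Bc6 : Fin chevE6.rank → Fin chevE6.rank → ℤ :=
  ![![4, 3, 5, 6, 4, 2], ![3, 6, 6, 9, 6, 3], ![5, 6, 10, 12, 8, 4],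
    ![6, 9, 12, 18, 12, 6], ![4, 6, 8, 12, 10, 5], ![2, 3, 4, 6, 5, 4]]

theorem bc6 : ∀ i m : Fin chevE6.rank, ∑ j : Fin chevE6.rank, chevE6.cartan i (chevE6.simple j) * Bc6 j m =
    if i = m then ((3 : ℕ) : ℤ) else 0 := by decide +kernel

/-- the coordinates of the sums of weights -/
def Bd6 : Fin chevE6.rank → Fin chevE6.rank → ℤ :=
  ![![2, 2, 3, 4, 3, 2], ![2, 4, 4, 6, 4, 2], ![3, 4, 6, 8, 6, 3],
    ![4, 6, 8, 12, 8, 4], ![3, 4, 6, 8, 6, 3], ![2, 2, 3, 4, 3, 2]]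

theorem bd6 : ∀ i m : Fin chevE6.rank, ∑ j : Fin chevE6.rank, chevE6.cartan m (chevE6.simple j) * Bd6 i j =
    (if m = i then 1 else 0) + if m = nodR i then 1 else 0 := by decide +kernel

theorem cen_cube {a : Fin chevE6.rank → kˣ}
    (ha : ∀ s < chevE6.nroots, ∏ i : Fin chevE6.rank, a i ^ chevE6.cartan i s = 1) (i : Fin chevE6.rank) :
    a i ^ 3 = 1 := by
  have h1 := eval_eq_one (fun i j : Fin chevE6.rank => chevE6.cartan i (chevE6.simple j)) (fun j => Bc6 j i)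
    (fun m => if m = i then ((3 : ℕ) : ℤ) else 0) (fun m => bc6 m i) a
    (fun j => ha (chevE6.simple j) (simple_lt RGDTwE6.hp.inList j.2))
  rw [Finset.prod_eq_single i] at h1
  · rwa [if_pos rfl, zpow_natCast] at h1
  · intro j _ hj; rw [if_neg hj, zpow_zero]
  · intro hi; exact absurd (Finset.mem_univ _) hi

theorem cen_nod {a : Fin chevE6.rank → kˣ}
    (ha : ∀ s < chevE6.nroots, ∏ i : Fin chevE6.rank, a i ^ chevE6.cartan i s = 1) (i : Fin chevE6.rank) :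
    a i * a (nodR i) = 1 := by
  have h1 := eval_eq_one (fun i j : Fin chevE6.rank => chevE6.cartan i (chevE6.simple j)) (fun j => Bd6 i j)
    (fun m => (if m = i then (1 : ℤ) else 0) + if m = nodR i then 1 else 0) (fun m => bd6 i m) a
    (fun j => ha (chevE6.simple j) (simple_lt RGDTwE6.hp.inList j.2))
  simp only [zpow_add, Finset.prod_mul_distrib] at h1
  have h2 : ∀ n : Fin chevE6.rank, ∏ m : Fin chevE6.rank, a m ^ (if m = n then (1 : ℤ) else 0) = a n := by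
    intro n
    rw [Finset.prod_eq_single n]
    · rw [if_pos rfl, zpow_one]
    · intro j _ hj; rw [if_neg hj, zpow_zero]
    · intro hi; exact absurd (Finset.mem_univ _) hi
  rwa [h2, h2] at h1

theorem cen_fix {q : ℕ} (hq : 3 ∣ q + 1) {a : Fin chevE6.rank → kˣ}
    (ha : ∀ s < chevE6.nroots, ∏ i : Fin chevE6.rank, a i ^ chevE6.cartan i s = 1) (i : Fin chevE6.rank) :
    a (nodR i) ^ q = a i := by
  obtain ⟨m, hm⟩ := hq
  have h1 : a (nodR i) ^ (q + 1) = 1 := by rw [hm, pow_mul, cen_cube ha, one_pow]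
  rw [pow_succ, mul_eq_one_iff_eq_inv] at h1
  rw [h1]
  exact inv_eq_of_mul_eq_one_left (cen_nod ha i)

/-- the coordinates of the centre -/
def kv : Fin chevE6.rank → ℤ := ![1, 0, 2, 0, 1, 2]

theorem kv6 : ∀ s : Fin 72, ((3 : ℕ) : ℤ) ∣ ∑ i : Fin chevE6.rank, kv i * chevE6.cartan i s.val := by
  decide +kernel

theorem cen_of {ω : kˣ} (hωd : ω ^ 3 = 1) : ∀ s < chevE6.nroots, ∏ i : Fin chevE6.rank,
      (ω ^ kv i) ^ chevE6.cartan i s = 1 := by
  intro s hs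
  obtain ⟨a, ha⟩ := kv6 ⟨s, hs⟩
  simp only at ha
  have e : ∏ i : Fin chevE6.rank, (ω ^ kv i) ^ chevE6.cartan i s =
      ω ^ ∑ i : Fin chevE6.rank, kv i * chevE6.cartan i s := by
    rw [← prod_zpow_sum]
    exact Finset.prod_congr rfl fun i _ => (zpow_mul ω _ _).symm
  rw [e, ha, zpow_mul, zpow_natCast, hωd, one_zpow]

theorem cen_ne {ω : kˣ} (hω : ω ≠ 1) : (fun i => ω ^ kv i : Fin chevE6.rank → kˣ) ≠ 1 := by
  intro h1
  have h2 : ω ^ kv ⟨0, by decide⟩ = 1 := congrFun h1 ⟨0, by decide⟩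
  have h3 : kv ⟨0, by decide⟩ = 1 := rfl
  rw [h3, zpow_one] at h2
  exact hω h2

end Cen

/-! ### the tori -/

/-- **The cyclic tori of `²E₆(q)`, `3 ∣ q + 1`.** -/
theorem flip_Td {K : Type u} [Field K] [Fintype K] {q : ℕ} (hq : IsPrimePow q) (hK : Fintype.card K = q ^ 2)
    (h3 : 3 ∣ q + 1) {A : Mat 6} (hA : ∀ i j, A i j = cartanOf chevE6 6 i j)
    {L : List (Fin 6 × Mat 6)} (hL : ChainOK A L) {Th : Mat 6}
    (hT : ∀ j, hd L ((![5, 1, 4, 3, 2, 0] : Fin 6 → Fin 6) j) = Th j)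
    {V B : Mat 6} {c : Fin 6 → ℤ} (hcyc : CycOK 6 Th V B c) {m : ℕ} {R : Fin m → Fin 6 → ℤ}
    {prv dep : ℕ → ℕ} (hR : RootOK chevE6 6 Th R prv dep) {N : ℕ} (hfN : fN c (q : ℤ) = N)
    (hqN : q.Coprime N) :
    ∃ T : Subgroup ↥(twistedE6 K q), IsCyclic ↥T ∧ Nat.card ↥T ∣ N ∧ N ∣ 3 * Nat.card ↥T ∧ Nat.card ↥T ≠ N ∧
      (∀ r : ℕ, r.Prime → ¬ r ∣ Nat.card CoxeterMatrix.E₆.Group → (∀ s, ¬ (r : ℤ) ∣ Gq B (q : ℤ) (R s)) →
        ∀ y ∈ T, orderOf y = r → Subgroup.centralizer {y} ≤ T) := by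
  have := TwT.finite_W6
  obtain ⟨p, e', hpF, hpc, hpk, -, hpe, hk⟩ := exists_closure hK
  obtain ⟨p', e, hp', he, hqe'⟩ := id hq
  have hpp : p' = p := by
    have h1 : p' ∣ p ^ e' := by
      rw [← hpe, ← hqe']
      exact dvd_pow (dvd_pow_self p' he.ne') (by norm_num)
    exact (Nat.prime_dvd_prime_iff_eq hp'.nat_prime hpF.out).1 (hp'.nat_prime.dvd_of_dvd_pow h1)
  subst hpp
  obtain rfl : q = p' ^ e := hqe'.symm
  have hpN : ¬ p' ∣ N := fun h1 => by
    have h2 : p' ∣ Nat.gcd (p' ^ e) N := Nat.dvd_gcd (dvd_pow_self p' he.ne') h1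
    rw [hqN] at h2
    exact hpF.out.one_lt.ne' (Nat.dvd_one.1 h2)
  have hlin := TwT.lin_flip CoxeterMatrix.E₆.toCoxeterSystem hA hL hT
  have hc := cyc_of hlin hcyc
  obtain ⟨T, h1, h2, h3', h4, -, h6⟩ := exists_T (k := AlgebraicClosure K) (hp := RGDTwE6.hp)
    (cs := CoxeterMatrix.E₆.toCoxeterSystem) (by norm_num) hk
    (hN := nsys_of_locFin RGDTwE6.hp CoxeterMatrix.E₆.toCoxeterSystem hk p') he TwE6Fr.isFrob_tau
    (TwE6Fr.fr_tau CoxeterMatrix.E₆.toCoxeterSystem) TorusChar.invC_E6 (by norm_num)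
    (w := CoxeterMatrix.E₆.toCoxeterSystem.wordProd (L.map Prod.fst)) hc hfN hpN
    (e0 := TwE6Fr.embT (algebraMap K (AlgebraicClosure K)) hq hK) (TwE6Fr.embT_injective _ hq hK)
    (TwE6Fr.tau_embT _ rfl hq hK) (d := Nat.gcd 3 (p' ^ e + 1)) (fun y hy => TwE6Fr.tau_pow _ rfl hq hK hy)
  rw [Nat.gcd_eq_left h3] at h3'
  have hgood : ∀ r : ℕ, r.Prime → r ∣ N → (∀ s, ¬ (r : ℤ) ∣ Gq B ((p' ^ e : ℕ) : ℤ) (R s)) →
      ∀ a, IsRoot CoxeterMatrix.E₆.toCoxeterSystem RGDTwE6.hp.isCartan a →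
        ¬ (r : ℤ) ∣ Gq B ((p' ^ e : ℕ) : ℤ) a :=
    fun r hr hrN hG a ha => not_dvd_G RGDTwE6.hp CoxeterMatrix.E₆.toCoxeterSystem hlin hc hR hfN hr hrN hqN hG ha
  -- the centre
  have hp3 : ¬ p' ∣ 3 := fun h => by
    have h7 : p' ∣ p' ^ e + 1 := h.trans h3
    have h8 : p' ∣ 1 := (Nat.dvd_add_right (dvd_pow_self p' he.ne')).1 h7
    exact hpF.out.one_lt.ne' (Nat.dvd_one.1 h8)
  have hdk : ((3 : ℕ) : AlgebraicClosure K) ≠ 0 := by
    rw [Ne, CharP.cast_eq_zero_iff (AlgebraicClosure K) p']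
    exact hp3
  have : NeZero ((3 : ℕ) : AlgebraicClosure K) := ⟨hdk⟩
  obtain ⟨ζ, hζ⟩ := HasEnoughRootsOfUnity.exists_primitiveRoot (AlgebraicClosure K) 3
  have hζ0 : ζ ≠ 0 := hζ.ne_zero (by norm_num)
  set ω : (AlgebraicClosure K)ˣ := Units.mk0 ζ hζ0 with hω
  have hωd : ω ^ 3 = 1 := Units.ext (by rw [Units.val_pow_eq_pow_val]; exact hζ.pow_eq_one)
  have hω1 : ω ≠ 1 := by
    intro h1
    have h3 : ζ = 1 := congrArg Units.val h1
    rw [h3] at hζ
    exact absurd (hζ.eq_orderOf.trans orderOf_one) (by norm_num)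
  obtain ⟨Φ, hΦ⟩ := PhiE.isPhi_E6 (AlgebraicClosure K)
  have hΨ : ∀ b : Fin chevE6.rank → (AlgebraicClosure K)ˣ,
      stSg (iterateFrobenius (AlgebraicClosure K) p' e) (Φ b) = Φ (mAct Pm (fun i => b i ^ p' ^ e)) := by
    intro b
    rw [stSg_phi hΦ]
    refine congrArg Φ (funext fun i => Units.ext ?_)
    rw [mAct_Pm, Units.val_pow_eq_pow_val]
    exact iterateFrobenius_def _ _ _
  refine ⟨T, h1, h2, h3', h6 ?_, ?_⟩
  · intro n z t u X
    refine not_mem_range' RGDTwE6.hp CoxeterMatrix.E₆.toCoxeterSystem hΦ _ (TwE6Fr.tau (AlgebraicClosure K) p' e)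
      (stSg (iterateFrobenius (AlgebraicClosure K) p' e)) theta_stSg (P := Pm) (q := p' ^ e) hq.two_le hΨ ?_
      (lift_tw (algebraMap K (AlgebraicClosure K)) rfl hq hK) (cen_of hωd) (cen_ne hω1) X.hn X.hz fun s hs hs' => X.hgen s hs hs'
    intro κ hκ
    obtain ⟨a, rfl⟩ := hΦ.center_le hκ
    have h2 := cen_fix h3 ((hΦ.mem_iff a).1 hκ)
    rw [hΨ]
    refine congrArg Φ (funext fun i => ?_)
    rw [mAct_Pm]
    exact h2 i
  · intro r hr hrW hG y hy hyr
    have hrN : r ∣ N := by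
      rw [← hyr]
      refine dvd_trans ?_ h2
      have := orderOf_dvd_natCard (⟨y, hy⟩ : ↥T)
      rwa [Subgroup.orderOf_mk] at this
    exact h4 r hr hrW (hgood r hr hrN hG) y hy hyr

end Cfsg.Agent.H129.StTwT
end

-- part: H129/ExactZ
section
set_option linter.all false
open scoped Cfsg.Agent.FastGrp

-- part: H129/ExactD
section
/-!
# Exact orders of the cyclic tori of `E₆(q)`, `3 ∣ q - 1`, and `²E₆(q)`, `3 ∣ q + 1` (helper129, for S3480, S3481)

* `CycCard.dvd_of` : the element orders divisible by `r` divide `m`;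
* `card_E6_12'`, `card_E6_8'`, `card_tE6_12'`, `card_tE6_8'` : the tori have order `m / 3`;
* `no_E6_8`, `no_tE6_8` : no elements of order `3^a r`, `r` a prime divisor of `q⁴ + 1`, `3^a` the 3-part of `q ∓ 1`.
-/

set_option autoImplicit false
set_option linter.unusedSectionVars false

namespace Cfsg.Agent.H129.ExactD

open Cfsg Cfsg.Lie Cfsg.Lie.ChevalleyDatum Cfsg.Agent.H129 Cfsg.Agent.H129.CycT Cfsg.Agent.H129.CycCard
  Cfsg.Agent.H129.TorusChar Cfsg.Agent.H129.StTwT Cfsg.Agent.H129.RealT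

universe u

section Abs

variable {G : Type*} [Group G] [Finite G]

/-- the element orders divisible by `r` divide `m` -/
theorem CycCard.dvd_of {r m d : ℕ} (h : CycCard G r m d) (hr : r.Prime) {x : G} (hx : r ∣ orderOf x) :
    orderOf x ∣ m := by
  obtain ⟨T, h1, h2, -, h4, h5⟩ := h
  have hx0 : orderOf x ≠ 0 := (orderOf_pos x).ne'
  obtain ⟨n, hn⟩ := hx
  have hn0 : n ≠ 0 := by rintro rfl; rw [mul_zero] at hn; exact hx0 hn
  have ho : orderOf (x ^ n) = r := by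
    rw [orderOf_pow' x hn0, hn, Nat.gcd_eq_right (Dvd.intro_left r rfl), Nat.mul_div_cancel _ (Nat.pos_of_ne_zero hn0)]
  obtain ⟨g, -, hg⟩ := centralizer_conj h1 hr h4 h5 ho
  have h6 : g * x * g⁻¹ ∈ T := (hg x).1 (by
    rw [Subgroup.mem_centralizer_singleton_iff]
    exact (Commute.refl x).pow_right n)
  have h7 : orderOf (g * x * g⁻¹) = orderOf x :=
    orderOf_injective (MulAut.conj g).toMonoidHom (MulAut.conj g).injective x
  rw [← h7]
  refine dvd_trans ?_ h2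
  have := orderOf_dvd_natCard (⟨g * x * g⁻¹, h6⟩ : ↥T)
  rwa [Subgroup.orderOf_mk] at this

theorem of_index {r N m : ℕ} {T : Subgroup G} (hm : 3 * m = N) (hN0 : N ≠ 0) (hr : r.Prime) (hr3 : r ≠ 3)
    (hrN : r ∣ N) (h1 : IsCyclic ↥T) (h2 : Nat.card ↥T ∣ N) (h3 : N ∣ 3 * Nat.card ↥T) (h4 : Nat.card ↥T ≠ N)
    (h5 : ∀ y ∈ T, orderOf y = r → Subgroup.centralizer {y} ≤ T) : CycCard G r m 1 := by
  have h6 := eq_of_index Nat.prime_three hN0 h2 h3 h4
  have h7 : Nat.card ↥T = m := by rw [h6, ← hm, Nat.mul_div_cancel_left _ (by norm_num)]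
  refine ⟨T, h1, h7.dvd, by rw [one_mul, h7], ?_, h5⟩
  rw [h7]
  rw [← hm] at hrN
  exact ((Nat.Prime.dvd_mul hr).1 hrN).resolve_left fun h =>
    hr3 ((Nat.prime_dvd_prime_iff_eq hr Nat.prime_three).1 h)

end Abs

section Rows

variable {F : Type u} [Field F] [Fintype F] {q : ℕ}

/-- `E₆(q)`, `Φ₈ (q² - 1)`, `3 ∣ q - 1` -/
theorem card_E6_8' (hq : Fintype.card F = q) (h3q : 3 ∣ q - 1) {m : ℕ}
    (hm : (3 : ℤ) * m = (1 + (q : ℤ) ^ 4) * ((q : ℤ) ^ 2 - 1)) {r : ℕ}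
    (hr : r.Prime) (h : (r : ℤ) ∣ 1 + (q : ℤ) ^ 4) (hr2 : r ≠ 2) : CycCard ↥(chevE6.group F) r m 1 := by
  have := TwT.finite_W6
  obtain ⟨hr3, hr5⟩ := ne_8 h
  have hN : ((3 * m : ℕ) : ℤ) = (1 + (q : ℤ) ^ 4) * ((q : ℤ) ^ 2 - 1) := by
    push_cast; exact hm
  have hqN : q.Coprime (3 * m) := coprime_of_neg (a := (q : ℤ) - (q : ℤ) ^ 3 + (q : ℤ) ^ 5) (by rw [hN]; ring)
  have hN0 : 3 * m ≠ 0 := by
    intro h0
    rw [h0, Nat.coprime_zero_right] at hqN
    have : 2 ≤ q := by rw [← hq]; exact Fintype.one_lt_card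
    omega
  obtain ⟨T, h1, h2, h3, h4, h5⟩ := Cfsg.Agent.H150.untw_Td typeE6 CoxeterMatrix.E₆.toCoxeterSystem (by norm_num) hq
    Nat.prime_three TorusChar.invC_E6 h3q (PhiE.isPhi_E6 _) (kv := ![1, 0, 2, 0, 1, 2]) (i0 := ⟨0, by decide⟩) rfl
    (by decide +kernel)
    (Bc := ![![4, 3, 5, 6, 4, 2], ![3, 6, 6, 9, 6, 3], ![5, 6, 10, 12, 8, 4],
      ![6, 9, 12, 18, 12, 6], ![4, 6, 8, 12, 10, 5], ![2, 3, 4, 6, 5, 4]]) (by decide +kernel)
    DataE6e.hA DataE6e.chainOK DataE6e.cycOK DataE6e.rootOK (N := 3 * m) (by rw [DataE6e.fN_eq, hN]; ring) hqN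
  refine of_index rfl hN0 hr hr3 (dvd_of_int h hN) h1 h2 h3 h4 (h5 r hr (not_dvd_W_E6 hr hr2 hr3 hr5) fun s hs => ?_)
  rcases DataE6e.dvd_of_G h s hs with h | h
  · exact not_one hr h
  · exact not_prime hr Nat.prime_two hr2 h

/-- `²E₆(q)`, `Φ₈ (q² - 1)`, `3 ∣ q + 1` -/
theorem card_tE6_8' (hq : IsPrimePow q) (hK : Fintype.card F = q ^ 2) (h3q : 3 ∣ q + 1) {m : ℕ}
    (hm : (3 : ℤ) * m = (1 + (q : ℤ) ^ 4) * ((q : ℤ) ^ 2 - 1)) {r : ℕ} (hr : r.Prime)
    (h : (r : ℤ) ∣ 1 + (q : ℤ) ^ 4) (hr2 : r ≠ 2) : CycCard ↥(twistedE6 F q) r m 1 := by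
  obtain ⟨hr3, hr5⟩ := ne_8 h
  have hN : ((3 * m : ℕ) : ℤ) = (1 + (q : ℤ) ^ 4) * ((q : ℤ) ^ 2 - 1) := by
    push_cast; exact hm
  have hqN : q.Coprime (3 * m) := coprime_of_neg (a := (q : ℤ) - (q : ℤ) ^ 3 + (q : ℤ) ^ 5) (by rw [hN]; ring)
  have hN0 : 3 * m ≠ 0 := by
    intro h0
    rw [h0, Nat.coprime_zero_right] at hqN
    have := hq.two_le
    omega
  obtain ⟨T, h1, h2, h3, h4, h5⟩ := flip_Td hq hK h3q DataTE6e.hA DataTE6e.chainOK DataTE6e.hd_pi DataTE6e.cycOK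
    DataTE6e.rootOK (N := 3 * m) (by rw [DataTE6e.fN_eq, hN]; ring) hqN
  refine of_index rfl hN0 hr hr3 (dvd_of_int h hN) h1 h2 h3 h4 (h5 r hr (not_dvd_W_E6 hr hr2 hr3 hr5) fun s hs => ?_)
  rcases DataTE6e.dvd_of_G h s hs with h | h
  · exact not_one hr h
  · exact not_prime hr Nat.prime_two hr2 h

end Rows

/-! ### element orders -/

section Orders

variable {F : Type u} [Field F] [Fintype F] {q : ℕ}

/-- the 3-part of `(q⁴ + 1)(q² - 1) / 3` -/
theorem not_dvd_of {q m a : ℕ} {ε : ℤ} (hε : ε = 1 ∨ ε = -1) (h3 : (3 : ℤ) ∣ q - ε)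
    (ha : ¬ (3 : ℤ) ^ (a + 1) ∣ q - ε) (hm : (3 : ℤ) * m = (1 + (q : ℤ) ^ 4) * ((q : ℤ) ^ 2 - 1)) :
    ¬ 3 ^ a ∣ m := by
  intro h
  have h1 : ((3 ^ (a + 1) : ℕ) : ℤ) ∣ (1 + (q : ℤ) ^ 4) * ((q : ℤ) + ε) * (q - ε) := by
    have e : (1 + (q : ℤ) ^ 4) * ((q : ℤ) + ε) * (q - ε) = 3 * m := by
      rw [hm]
      rcases hε with rfl | rfl <;> ring
    rw [e, pow_succ]
    push_cast
    rw [mul_comm]
    exact mul_dvd_mul_left 3 (by exact_mod_cast Int.natCast_dvd_natCast.2 h)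
  obtain ⟨b, hb⟩ := h3
  have hq : (q : ℤ) = ε + 3 * b := by linarith
  have h2 : IsCoprime (3 : ℤ) ((1 + (q : ℤ) ^ 4) * ((q : ℤ) + ε)) := by
    rw [(Int.prime_three).coprime_iff_not_dvd]
    intro h4
    rcases Int.prime_three.dvd_or_dvd h4 with h5 | h5
    · have h6 : (3 : ℤ) ∣ 2 := by
        have e : (2 : ℤ) = (1 + (q : ℤ) ^ 4) - 3 * (4 * ε ^ 3 * b + 18 * ε ^ 2 * b ^ 2 + 36 * ε * b ^ 3 + 27 * b ^ 4) -
            (ε ^ 4 - 1) := by rw [hq]; ring
        have e' : ε ^ 4 - 1 = 0 := by rcases hε with rfl | rfl <;> norm_num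
        rw [e, e', sub_zero]
        exact dvd_sub h5 (dvd_mul_right _ _)
      norm_num at h6
    · have h6 : (3 : ℤ) ∣ 2 * ε := by
        have e : 2 * ε = ((q : ℤ) + ε) - 3 * b := by rw [hq]; ring
        rw [e]
        exact dvd_sub h5 (dvd_mul_right _ _)
      rcases hε with rfl | rfl <;> norm_num at h6
  apply ha
  have h3 : IsCoprime ((3 : ℤ) ^ (a + 1)) ((1 + (q : ℤ) ^ 4) * ((q : ℤ) + ε)) := h2.pow_left
  have h4 : (3 : ℤ) ^ (a + 1) ∣ (1 + (q : ℤ) ^ 4) * ((q : ℤ) + ε) * (q - ε) := by exact_mod_cast h1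
  exact h3.dvd_of_dvd_mul_left h4

/-- **`E₆(q)`, `3 ∣ q - 1`**: no element of order `3^a r`, `r` an odd prime divisor of `q⁴ + 1`, `3^a` the 3-part of
`q - 1`. -/
theorem no_E6_8 (hq : Fintype.card F = q) (h3q : (3 : ℤ) ∣ q - 1) {a : ℕ} (ha : ¬ (3 : ℤ) ^ (a + 1) ∣ q - 1) {r : ℕ}
    (hr : r.Prime) (hr2 : r ≠ 2) (h : r ∣ q ^ 4 + 1) (x : ↥(chevE6.group F)) : ¬ 3 ^ a * r ∣ orderOf x := by
  intro hx
  have hq2 : 2 ≤ q := by rw [← hq]; exact Fintype.one_lt_card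
  have h3 : (3 : ℤ) ∣ (1 + (q : ℤ) ^ 4) * ((q : ℤ) ^ 2 - 1) := by
    have e : (1 + (q : ℤ) ^ 4) * ((q : ℤ) ^ 2 - 1) = ((1 + (q : ℤ) ^ 4) * ((q : ℤ) + 1)) * (q - 1) := by ring
    rw [e]
    exact h3q.mul_left _
  obtain ⟨m', hm'⟩ := h3
  have hm0 : 0 ≤ m' := by
    have h4 : (0 : ℤ) ≤ 3 * m' := by
      rw [← hm']
      have : (2 : ℤ) ≤ q := by exact_mod_cast hq2
      have h5 : (0 : ℤ) ≤ (q : ℤ) ^ 2 - 1 := by nlinarith
      positivity
    omega
  obtain ⟨m, rfl⟩ := Int.eq_ofNat_of_zero_le hm0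
  have h3q' : 3 ∣ q - 1 := by
    have h5 : ((q - 1 : ℕ) : ℤ) = (q : ℤ) - 1 := by push_cast [Nat.cast_sub (by omega : 1 ≤ q)]; ring
    rw [← h5] at h3q
    exact_mod_cast h3q
  have hrz : (r : ℤ) ∣ 1 + (q : ℤ) ^ 4 := by
    have : ((q ^ 4 + 1 : ℕ) : ℤ) = 1 + (q : ℤ) ^ 4 := by push_cast; ring
    rw [← this]
    exact Int.natCast_dvd_natCast.2 h
  have h6 := CycCard.dvd_of (card_E6_8' hq h3q' hm'.symm hr hrz hr2) hr ((Dvd.intro_left _ rfl).trans hx)
  exact not_dvd_of (Or.inl rfl) h3q ha hm'.symm ((Dvd.intro _ rfl).trans (hx.trans h6))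

/-- **`²E₆(q)`, `3 ∣ q + 1`**: no element of order `3^a r`, `r` an odd prime divisor of `q⁴ + 1`, `3^a` the 3-part of
`q + 1`. -/
theorem no_tE6_8 (hq : IsPrimePow q) (hK : Fintype.card F = q ^ 2) (h3q : (3 : ℤ) ∣ q + 1) {a : ℕ}
    (ha : ¬ (3 : ℤ) ^ (a + 1) ∣ q + 1) {r : ℕ}
    (hr : r.Prime) (hr2 : r ≠ 2) (h : r ∣ q ^ 4 + 1) (x : ↥(twistedE6 F q)) : ¬ 3 ^ a * r ∣ orderOf x := by
  intro hx
  have hq2 : 2 ≤ q := hq.two_le
  have h3 : (3 : ℤ) ∣ (1 + (q : ℤ) ^ 4) * ((q : ℤ) ^ 2 - 1) := by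
    have e : (1 + (q : ℤ) ^ 4) * ((q : ℤ) ^ 2 - 1) = ((1 + (q : ℤ) ^ 4) * ((q : ℤ) - 1)) * (q + 1) := by ring
    rw [e]
    exact h3q.mul_left _
  obtain ⟨m', hm'⟩ := h3
  have hm0 : 0 ≤ m' := by
    have h4 : (0 : ℤ) ≤ 3 * m' := by
      rw [← hm']
      have : (2 : ℤ) ≤ q := by exact_mod_cast hq2
      have h5 : (0 : ℤ) ≤ (q : ℤ) ^ 2 - 1 := by nlinarith
      positivity
    omega
  obtain ⟨m, rfl⟩ := Int.eq_ofNat_of_zero_le hm0
  have h3q' : 3 ∣ q + 1 := by exact_mod_cast h3q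
  have hrz : (r : ℤ) ∣ 1 + (q : ℤ) ^ 4 := by
    have : ((q ^ 4 + 1 : ℕ) : ℤ) = 1 + (q : ℤ) ^ 4 := by push_cast; ring
    rw [← this]
    exact Int.natCast_dvd_natCast.2 h
  have : Finite ↥(twistedE6 F q) := inferInstance
  have h6 := CycCard.dvd_of (card_tE6_8' hq hK h3q' hm'.symm hr hrz hr2) hr ((Dvd.intro_left _ rfl).trans hx)
  refine not_dvd_of (ε := -1) (Or.inr rfl) ?_ ?_ hm'.symm ((Dvd.intro _ rfl).trans (hx.trans h6))
  · rw [sub_neg_eq_add]; exact h3q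
  · rw [sub_neg_eq_add]; exact ha

end Orders

end Cfsg.Agent.H129.ExactD
end

-- part: H129/ExactZ
section
/-!
# Element orders meeting `Φ₁₂`, `Φ₈` in `E₆(q)`, `²E₆(q)` (helper129, for S3480, S3481)

* `Z8_E6`, `Z12_E6`, `Z8_tE6`, `Z12_tE6` : the orders divisible by a prime divisor of `q⁴ + 1`, `q⁴ - q² + 1`;
* `h8_E6`, `h3r_E6`, `h8_tE6`, `h3r_tE6` : consequences.
-/

set_option autoImplicit false

namespace Cfsg.Agent.H129.ExactZ

open Cfsg Cfsg.Lie Cfsg.Lie.ChevalleyDatum Cfsg.Agent.H129 Cfsg.Agent.H129.CycT Cfsg.Agent.H129.CycCard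
  Cfsg.Agent.H129.ExactD

universe u

theorem cast8 {q : ℕ} (h1 : 1 ≤ q) : (((q ^ 4 + 1) * (q ^ 2 - 1) : ℕ) : ℤ) = (1 + (q : ℤ) ^ 4) * ((q : ℤ) ^ 2 - 1) := by
  have : 1 ≤ q ^ 2 := Nat.one_le_pow _ _ h1
  push_cast [Nat.cast_sub this]
  ring

theorem cast12 {q : ℕ} (h1 : 1 ≤ q) : ((q ^ 4 - q ^ 2 + 1 : ℕ) : ℤ) = 1 - (q : ℤ) ^ 2 + (q : ℤ) ^ 4 := by
  have : q ^ 2 ≤ q ^ 4 := Nat.pow_le_pow_right h1 (by norm_num)
  push_cast [Nat.cast_sub this]
  ring

theorem dvd8 {q r : ℕ} (h : r ∣ q ^ 4 + 1) : (r : ℤ) ∣ 1 + (q : ℤ) ^ 4 := by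
  have : ((q ^ 4 + 1 : ℕ) : ℤ) = 1 + (q : ℤ) ^ 4 := by push_cast; ring
  rw [← this]
  exact Int.natCast_dvd_natCast.2 h

theorem dvd12 {q r : ℕ} (h1 : 1 ≤ q) (h : r ∣ q ^ 4 - q ^ 2 + 1) : (r : ℤ) ∣ 1 - (q : ℤ) ^ 2 + (q : ℤ) ^ 4 := by
  rw [← cast12 h1]
  exact Int.natCast_dvd_natCast.2 h

theorem not3 {q n : ℕ} (h3 : 3 ∣ q) (h1 : 1 ≤ q) (h : n ∣ (q ^ 4 + 1) * (q ^ 2 - 1)) : ¬ 3 ∣ n := by
  intro h4
  have h5 : ((3 : ℕ) : ℤ) ∣ (1 + (q : ℤ) ^ 4) * ((q : ℤ) ^ 2 - 1) := by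
    rw [← cast8 h1]
    exact Int.natCast_dvd_natCast.2 (h4.trans h)
  obtain ⟨b, rfl⟩ := h3
  have h6 : ((3 : ℕ) : ℤ) ∣ 1 := by
    have e : (1 : ℤ) = 3 * (3 * b ^ 2 * (1 + ((3 * b : ℕ) : ℤ) ^ 4) - 27 * b ^ 4) -
        (1 + ((3 * b : ℕ) : ℤ) ^ 4) * (((3 * b : ℕ) : ℤ) ^ 2 - 1) := by push_cast; ring
    rw [e]
    exact dvd_sub (dvd_mul_right _ _) h5
  norm_num at h6

section E

variable {F : Type u} [Field F] [Finite F]

/-- **`E₆(q)`**: the element orders meeting `q⁴ + 1` in an odd prime divide `(q⁴ + 1)(q² - 1)`. -/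
theorem Z8_E6 (x : ↥(chevE6.group F)) {r : ℕ} (hr : r.Prime) (hr2 : r ≠ 2) (h : r ∣ Nat.card F ^ 4 + 1)
    (hx : r ∣ orderOf x) : orderOf x ∣ (Nat.card F ^ 4 + 1) * (Nat.card F ^ 2 - 1) := by
  have := Fintype.ofFinite F
  have hq : Fintype.card F = Nat.card F := (Nat.card_eq_fintype_card).symm
  have h1 : 1 ≤ Nat.card F := Nat.card_pos
  exact CycCard.dvd_of (card_E6_8 hq (cast8 h1) hr (dvd8 h) hr2) hr hx

/-- **`E₆(q)`**: the element orders meeting `q⁴ - q² + 1` divide `(q⁴ - q² + 1)(q² + q + 1)`. -/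
theorem Z12_E6 (x : ↥(chevE6.group F)) {r : ℕ} (hr : r.Prime) (h : r ∣ Nat.card F ^ 4 - Nat.card F ^ 2 + 1)
    (hx : r ∣ orderOf x) :
    orderOf x ∣ (Nat.card F ^ 4 - Nat.card F ^ 2 + 1) * (Nat.card F ^ 2 + Nat.card F + 1) := by
  have := Fintype.ofFinite F
  have hq : Fintype.card F = Nat.card F := (Nat.card_eq_fintype_card).symm
  have h1 : 1 ≤ Nat.card F := Nat.card_pos
  refine CycCard.dvd_of (card_E6_12 hq ?_ hr (dvd12 h1 h)) hr hx
  rw [Nat.cast_mul, cast12 h1]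
  push_cast
  ring

/-- (E1) -/
theorem h8_E6 (h3 : 3 ∣ Nat.card F) (x : ↥(chevE6.group F)) (r : ℕ) (hr : r.Prime) (hr2 : r ≠ 2)
    (h : r ∣ Nat.card F ^ 4 + 1) (hx : r ∣ orderOf x) : ¬ 3 ∣ orderOf x :=
  not3 h3 Nat.card_pos (Z8_E6 x hr hr2 h hx)

end E

section T

variable {K : Type u} [Field K] [Finite K] {q : ℕ}

/-- **`²E₆(q)`**: the element orders meeting `q⁴ + 1` in an odd prime divide `(q⁴ + 1)(q² - 1)`. -/
theorem Z8_tE6 (hq : IsPrimePow q) (hK : Nat.card K = q ^ 2) (x : ↥(twistedE6 K q)) {r : ℕ} (hr : r.Prime)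
    (hr2 : r ≠ 2) (h : r ∣ q ^ 4 + 1) (hx : r ∣ orderOf x) : orderOf x ∣ (q ^ 4 + 1) * (q ^ 2 - 1) := by
  have := Fintype.ofFinite K
  have hK' : Fintype.card K = q ^ 2 := by rw [← hK, Nat.card_eq_fintype_card]
  have : Finite ↥(twistedE6 K q) := inferInstance
  have h1 : 1 ≤ q := by have := hq.two_le; omega
  exact CycCard.dvd_of (card_tE6_8 hq hK' (cast8 h1) hr (dvd8 h) hr2) hr hx

/-- **`²E₆(q)`**: the element orders meeting `q⁴ - q² + 1` divide `(q⁴ - q² + 1)(q² - q + 1)`. -/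
theorem Z12_tE6 (hq : IsPrimePow q) (hK : Nat.card K = q ^ 2) (x : ↥(twistedE6 K q)) {r : ℕ} (hr : r.Prime)
    (h : r ∣ q ^ 4 - q ^ 2 + 1) (hx : r ∣ orderOf x) : orderOf x ∣ (q ^ 4 - q ^ 2 + 1) * (q ^ 2 - q + 1) := by
  have := Fintype.ofFinite K
  have hK' : Fintype.card K = q ^ 2 := by rw [← hK, Nat.card_eq_fintype_card]
  have : Finite ↥(twistedE6 K q) := inferInstance
  have h1 : 1 ≤ q := by have := hq.two_le; omega
  refine CycCard.dvd_of (card_tE6_12 hq hK' ?_ hr (dvd12 h1 h)) hr hx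
  rw [Nat.cast_mul, cast12 h1]
  have h2 : q ≤ q ^ 2 := by nlinarith
  push_cast [Nat.cast_sub h2]
  ring

end T

end Cfsg.Agent.H129.ExactZ
end
end
end
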