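import Cfsg.Agent.H129.TorusUntw
import Cfsg.Agent.S1079
set_option linter.all false

/-!
# The Steinberg group over an algebraically closed field (helper129)

* `stMap` : functoriality of the presented group in the field, `theta_stMap`;
* `IsPhi` : the torus homomorphism `Φ : (Kˣ)^rank → Γ`; `conj_phi`, `stMap_phi`;
* `exists_solution` : `b ↦ K (b ^ q) * b⁻¹` is surjective on `(kˣ)^m`;
* `not_mem_range` : the generator of a twisted torus does not lie in the image of `D.group F`.
-/

set_option autoImplicit false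
set_option linter.unusedSectionVars false

namespace Cfsg.Agent.H129.StCover

open CoxeterSystem Cfsg Cfsg.Lie Cfsg.Lie.ChevalleyDatum
open Cfsg.Agent.ChevalleyStructure Cfsg.Agent.ChevalleyStructure.Elts Cfsg.Agent.ChevalleyStructure.CoxeterGeom
  Cfsg.Agent.ChevalleyStructure.CoxeterGeomTypes Cfsg.Agent.ChevalleyStructure.NPerm
open Cfsg.Agent.Tits.Roots Cfsg.Agent.Tits.Core Cfsg.Agent.Nodes Cfsg.Agent.Nodes.Reps Cfsg.Agent.Nodes.BNOf
  Cfsg.Agent.Nodes.RGDChev
open Cfsg.Agent.KFacts.RgdChevCoord Cfsg.Agent.GpExc.Field Cfsg.Agent.H129.TorusUntw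
open Cfsg.Agent.ChevalleyStructure.StBasic Cfsg.Agent.ChevalleyStructure.StTheta

universe u v

/-! ### functoriality -/

section Map

variable (D : ChevalleyDatum) {F : Type u} {K : Type v} [Field F] [Field K] (f : F →+* K)

theorem commWord_map (r s : ℕ) (t u' : F) :
    D.commWord K r s (f t) (f u') = (D.commWord F r s t u').map fun p => (p.1, f p.2) := by
  unfold ChevalleyDatum.commWord
  rw [List.map_map]
  refine List.map_congr_left fun c _ => ?_
  simp

theorem hWord_map (r : ℕ) (t : F) : D.hWord r (f t) = (D.hWord r t).map fun p => (p.1, f p.2) := by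
  unfold ChevalleyDatum.hWord ChevalleyDatum.nWord
  simp

/-- The homomorphism of presented groups given by a homomorphism of fields. -/
def stMap : D.SteinbergGroup F →* D.SteinbergGroup K :=
  StBasic.lift D (fun r t => D.stGen K r (f t)) (fun r t h => stGen_of_not_lt D h _)
    (fun r t₁ t₂ _ => by rw [stGen_mul, map_add])
    (fun r s t u' hr hs hne hneg => by
      rw [stGen_comm D hr hs hne hneg, commWord_map]
      rw [← MonoidHom.id_apply (D.SteinbergGroup K) (wd D _), map_wd, List.map_map]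
      rfl)
    (fun r t₁ t₂ hr h₁ h₂ => by
      have key : ∀ t : F, ((D.hWord r t).map fun p => D.stGen K p.1 (f p.2)).prod = sth D r (f t) := by
        intro t
        show _ = wd D (D.hWord r (f t))
        rw [hWord_map, ← MonoidHom.id_apply (D.SteinbergGroup K) (wd D _), map_wd, List.map_map]
        rfl
      rw [key, key, key, map_mul]
      exact sth_mul D hr ((map_ne_zero f).2 h₁) ((map_ne_zero f).2 h₂))

theorem stMap_stGen (r : ℕ) (t : F) : stMap D f (D.stGen F r t) = D.stGen K r (f t) := by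
  unfold stMap
  exact lift_stGen D _ _ _ _ _ r t

theorem stMap_stn (r : ℕ) (t : F) : stMap D f (stn D r t) = stn D r (f t) := by
  rw [stn_eq, stn_eq, map_mul, map_mul, stMap_stGen, stMap_stGen, map_neg, map_inv₀]

theorem stMap_sth (r : ℕ) (t : F) : stMap D f (sth D r t) = sth D r (f t) := by
  rw [sth_eq, sth_eq, map_mul, map_inv, stMap_stn, stMap_stn, map_one]

variable {D}

theorem hom_ext {G : Type*} [Group G] {φ ψ : D.SteinbergGroup F →* G}
    (h : ∀ r < D.nroots, ∀ t, φ (D.stGen F r t) = ψ (D.stGen F r t)) : φ = ψ := by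
  apply PresentedGroup.ext
  rintro ⟨⟨r, hr⟩, t⟩
  have := h r hr t
  rwa [stGen_of_lt D hr] at this

theorem stMap_comp {L : Type*} [Field L] (g : K →+* L) (x : D.SteinbergGroup F) :
    stMap D g (stMap D f x) = stMap D (g.comp f) x := by
  have h : (stMap D g).comp (stMap D f) = stMap D (g.comp f) := by
    apply hom_ext
    intro r _ t
    rw [MonoidHom.comp_apply, stMap_stGen, stMap_stGen, stMap_stGen]
    rfl
  exact DFunLike.congr_fun h x

theorem theta_stMap (hD : InList D) (x : D.SteinbergGroup F) :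
    theta hD K (stMap D f x) = emb hD f (theta hD F x) := by
  have h : (theta hD K).comp (stMap D f) = (emb hD f).comp (theta hD F) := by
    apply hom_ext
    intro r _ t
    rw [MonoidHom.comp_apply, MonoidHom.comp_apply, stMap_stGen]
    apply Subtype.ext
    rw [coe_emb, coe_theta, coe_theta, thetaGL_stGen, thetaGL_stGen, glMap_xG]
  exact DFunLike.congr_fun h x

end Map

/-! ### the torus of the presented group -/

section Torus

variable {D : ChevalleyDatum} (hD : InList D) {K : Type u} [Field K]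

/-- The torus homomorphism. -/
structure IsPhi (Φ : (Fin D.rank → Kˣ) →* D.SteinbergGroup K) : Prop where
  single : ∀ (i : Fin D.rank) (x : Kˣ), Φ (Pi.mulSingle i x) = sth D (D.simple i) (x : K)
  center_le : Subgroup.center (D.SteinbergGroup K) ≤ Φ.range
  mem_iff : ∀ t, Φ t ∈ Subgroup.center (D.SteinbergGroup K) ↔
    ∀ s < D.nroots, ∏ i : Fin D.rank, t i ^ D.cartan i s = 1
  inj : Function.Injective Φ

include hD in
theorem h_conj (i s : ℕ) (hi : i < D.rank) (hs : s < D.nroots) {c : K} (hc : c ≠ 0) (t : K) :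
    sth D (D.simple i) c * D.stGen K s t * (sth D (D.simple i) c)⁻¹ = D.stGen K s (c ^ D.cartan i s * t) := by
  have h := StPres.h_conj (K := K) hD (thetaGL hD K) (fun r t _ => by rw [thetaGL_stGen, coe_xG]) i s hi hs c hc t
  have h' : sth D (D.simple i) c * D.stGen K s t = D.stGen K s (c ^ D.cartan i s * t) * sth D (D.simple i) c := h
  rw [h', mul_inv_cancel_right]

include hD in
theorem h_conj_n (j i : ℕ) (hj : j < D.rank) (hi : i < D.rank) {c : K} (hc : c ≠ 0) (t : K) :
    sth D (D.simple j) c * stn D (D.simple i) t * (sth D (D.simple j) c)⁻¹ =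
      stn D (D.simple i) (c ^ D.cartan j (D.simple i) * t) := by
  have hi' := simple_lt hD hi
  have e : sth D (D.simple j) c * stn D (D.simple i) t * (sth D (D.simple j) c)⁻¹ =
      (sth D (D.simple j) c * D.stGen K (D.simple i) t * (sth D (D.simple j) c)⁻¹) *
      (sth D (D.simple j) c * D.stGen K (D.neg (D.simple i)) (-t⁻¹) * (sth D (D.simple j) c)⁻¹) *
      (sth D (D.simple j) c * D.stGen K (D.simple i) t * (sth D (D.simple j) c)⁻¹) := by
    rw [stn_eq]; group
  rw [e, h_conj hD j _ hj hi' hc, h_conj hD j _ hj (neg_lt hD hi') hc, NBlock.cartan_neg hD j hi', stn_eq]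
  congr 3
  rw [zpow_neg, mul_inv, mul_neg]

include hD in
theorem n_conj_h (j i : ℕ) (hj : j < D.rank) (hi : i < D.rank) {c : K} (hc : c ≠ 0) :
    stn D (D.simple i) (1 : K) * sth D (D.simple j) c * (stn D (D.simple i) (1 : K))⁻¹ =
      (sth D (D.simple i) (c ^ D.cartan j (D.simple i)))⁻¹ * sth D (D.simple j) c := by
  have h1 := h_conj_n hD j i hj hi hc (1 : K)
  rw [mul_one] at h1
  rw [sth_eq D (D.simple i), ← h1]
  group

/-- The action of the `i`-th reflection on `(Kˣ)^rank`. -/
def sAct (D : ChevalleyDatum) (K : Type u) [Field K] (i : Fin D.rank) : (Fin D.rank → Kˣ) →* (Fin D.rank → Kˣ) where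
  toFun c j := if j = i then c j * (∏ m, c m ^ D.cartan m (D.simple i))⁻¹ else c j
  map_one' := by
    funext j
    simp
  map_mul' a b := by
    funext j
    simp only [Pi.mul_apply]
    split_ifs with h
    · simp only [mul_zpow, Finset.prod_mul_distrib, mul_inv]
      exact mul_mul_mul_comm _ _ _ _
    · rfl

variable {Φ : (Fin D.rank → Kˣ) →* D.SteinbergGroup K} (hΦ : IsPhi Φ)

include hD hΦ in
theorem conj_n_phi (i : Fin D.rank) (c : Fin D.rank → Kˣ) :
    stn D (D.simple i) (1 : K) * Φ c * (stn D (D.simple i) (1 : K))⁻¹ = Φ (sAct D K i c) := by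
  have h : (MulAut.conj (stn D (D.simple i) (1 : K))).toMonoidHom.comp Φ = Φ.comp (sAct D K i) := by
    apply MonoidHom.pi_ext
    intro j x
    show stn D (D.simple i) (1 : K) * Φ (Pi.mulSingle j x) * (stn D (D.simple i) (1 : K))⁻¹ =
      Φ (sAct D K i (Pi.mulSingle j x))
    rw [hΦ.single, n_conj_h hD j i j.2 i.2 x.ne_zero]
    have e : sAct D K i (Pi.mulSingle j x) = (Pi.mulSingle i (x ^ D.cartan j (D.simple i)))⁻¹ * Pi.mulSingle j x := by
      funext m
      show (if m = i then _ else _) = _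
      have h1 : ∏ m' : Fin D.rank, (Pi.mulSingle j x : Fin D.rank → Kˣ) m' ^ D.cartan m' (D.simple i) =
          x ^ D.cartan j (D.simple i) := by
        rw [Finset.prod_eq_single j]
        · rw [Pi.mulSingle_eq_same]
        · intro b _ hb
          rw [Pi.mulSingle_eq_of_ne hb, one_zpow]
        · intro hj
          exact absurd (Finset.mem_univ j) hj
      rw [h1, Pi.mul_apply, Pi.inv_apply]
      by_cases hm : m = i
      · subst hm
        rw [if_pos rfl, Pi.mulSingle_eq_same, mul_comm]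
      · rw [if_neg hm, Pi.mulSingle_eq_of_ne hm, inv_one, one_mul]
    rw [e, map_mul, map_inv, hΦ.single, hΦ.single, Units.val_zpow_eq_zpow_val]
  exact DFunLike.congr_fun h c

/-- integer matrices acting on `(Kˣ)^m` -/
def mAct {m : ℕ} (A : Matrix (Fin m) (Fin m) ℤ) (c : Fin m → Kˣ) : Fin m → Kˣ := fun j => ∏ i, c i ^ A j i

theorem mAct_one {m : ℕ} (c : Fin m → Kˣ) : mAct 1 c = c := by
  funext j
  unfold mAct
  rw [Finset.prod_eq_single j]
  · rw [Matrix.one_apply_eq, zpow_one]
  · intro b _ hb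
    rw [Matrix.one_apply_ne (Ne.symm hb), zpow_zero]
  · intro hj
    exact absurd (Finset.mem_univ j) hj

theorem prod_zpow_sum {ι : Type*} (s : Finset ι) (f : ι → ℤ) (x : Kˣ) : ∏ i ∈ s, x ^ f i = x ^ ∑ i ∈ s, f i := by
  classical
  induction s using Finset.induction_on with
  | empty => simp
  | insert a s ha ih => rw [Finset.prod_insert ha, Finset.sum_insert ha, ih, zpow_add]

theorem mAct_mul {m : ℕ} (A B : Matrix (Fin m) (Fin m) ℤ) (c : Fin m → Kˣ) : mAct (A * B) c = mAct A (mAct B c) := by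
  funext j
  unfold mAct
  have h1 : ∀ i, (∏ n, c n ^ B i n) ^ A j i = ∏ n, c n ^ (A j i * B i n) := fun i => by
    rw [← Finset.prod_zpow]
    exact Finset.prod_congr rfl fun n _ => by rw [← zpow_mul, mul_comm]
  rw [Finset.prod_congr rfl fun i _ => h1 i, Finset.prod_comm]
  refine Finset.prod_congr rfl fun n _ => ?_
  rw [prod_zpow_sum, Matrix.mul_apply]

theorem mAct_add {m : ℕ} (A B : Matrix (Fin m) (Fin m) ℤ) (c : Fin m → Kˣ) : mAct (A + B) c = mAct A c * mAct B c := by
  funext j
  unfold mAct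
  rw [Pi.mul_apply, ← Finset.prod_mul_distrib]
  exact Finset.prod_congr rfl fun i _ => by rw [Matrix.add_apply, zpow_add]

/-- the matrix of `sAct` -/
def sMat (D : ChevalleyDatum) (i : Fin D.rank) : Matrix (Fin D.rank) (Fin D.rank) ℤ :=
  Matrix.of fun j m => (if j = m then 1 else 0) - if j = i then D.cartan m (D.simple i) else 0

theorem sAct_eq (i : Fin D.rank) (c : Fin D.rank → Kˣ) : sAct D K i c = mAct (sMat D i) c := by
  funext j
  show (if j = i then _ else _) = ∏ m, c m ^ ((if j = m then 1 else 0) - if j = i then D.cartan m (D.simple i) else 0)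
  have h1 : ∀ m, c m ^ ((if j = m then (1 : ℤ) else 0) - if j = i then D.cartan m (D.simple i) else 0) =
      (if j = m then c m else 1) * (if j = i then (c m ^ D.cartan m (D.simple i))⁻¹ else 1) := by
    intro m
    rw [zpow_sub]
    split_ifs <;> simp
  rw [Finset.prod_congr rfl fun m _ => h1 m, Finset.prod_mul_distrib, Finset.prod_ite_eq, if_pos (Finset.mem_univ _)]
  by_cases hj : j = i
  · simp only [if_pos hj]
    rw [Finset.prod_inv_distrib]
  · simp only [if_neg hj]
    rw [Finset.prod_const_one, mul_one]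

/-- the product of the `n̄_i` along a word -/
def nW (D : ChevalleyDatum) (K : Type u) [Field K] {l : ℕ} (ω : List (Fin l)) : D.SteinbergGroup K :=
  (ω.map fun i : Fin l => stn D (D.simple (i : ℕ)) (1 : K)).prod

theorem nW_cons {l : ℕ} (i : Fin l) (ω : List (Fin l)) :
    nW D K (i :: ω) = stn D (D.simple (i : ℕ)) (1 : K) * nW D K ω := by
  unfold nW
  rw [List.map_cons, List.prod_cons]

include hD hΦ in
/-- The action of a word on the torus. -/
theorem exists_matrix {l : ℕ} (hl : ∀ i : Fin l, (i : ℕ) < D.rank) (ω : List (Fin l)) :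
    ∃ A : Matrix (Fin D.rank) (Fin D.rank) ℤ, ∀ c, nW D K ω * Φ c * (nW D K ω)⁻¹ = Φ (mAct A c) := by
  induction ω with
  | nil => exact ⟨1, fun c => by rw [mAct_one]; simp [nW]⟩
  | cons i ω ih =>
    obtain ⟨A, hA⟩ := ih
    refine ⟨sMat D ⟨i, hl i⟩ * A, fun c => ?_⟩
    rw [nW_cons]
    have e : stn D (D.simple (i : ℕ)) (1 : K) * nW D K ω * Φ c * (stn D (D.simple (i : ℕ)) (1 : K) * nW D K ω)⁻¹ =
        stn D (D.simple (i : ℕ)) (1 : K) * (nW D K ω * Φ c * (nW D K ω)⁻¹) *
          (stn D (D.simple (i : ℕ)) (1 : K))⁻¹ := by group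
    rw [e, hA, mAct_mul, ← sAct_eq]
    exact conj_n_phi hD hΦ ⟨i, hl i⟩ _

include hΦ in
theorem stMap_phi {f : K →+* K} (c : Fin D.rank → Kˣ) :
    stMap D f (Φ c) = Φ (fun i => Units.map (f : K →* K) (c i)) := by
  let S : (Fin D.rank → Kˣ) →* (Fin D.rank → Kˣ) :=
    { toFun := fun c i => Units.map (f : K →* K) (c i)
      map_one' := by funext i; simp
      map_mul' := fun a b => by funext i; simp }
  have h : (stMap D f).comp Φ = Φ.comp S := by
    apply MonoidHom.pi_ext
    intro j x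
    show stMap D f (Φ (Pi.mulSingle j x)) = Φ (S (Pi.mulSingle j x))
    have e : S (Pi.mulSingle j x) = Pi.mulSingle j (Units.map (f : K →* K) x) := by
      funext m
      show Units.map (f : K →* K) ((Pi.mulSingle j x : Fin D.rank → Kˣ) m) = _
      by_cases hm : m = j
      · subst hm; rw [Pi.mulSingle_eq_same, Pi.mulSingle_eq_same]
      · rw [Pi.mulSingle_eq_of_ne hm, Pi.mulSingle_eq_of_ne hm, map_one]
    rw [hΦ.single, stMap_sth, e, hΦ.single]
    rfl
  exact DFunLike.congr_fun h c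

include hΦ in
theorem theta_phi_mem (c : Fin D.rank → Kˣ) : theta hD K (Φ c) ∈ TT D K := by
  have h : c ∈ ((TT D K).comap ((theta hD K).comp Φ)) := by
    rw [← Finset.univ_prod_mulSingle c]
    refine Subgroup.prod_mem _ fun i _ => ?_
    rw [Subgroup.mem_comap, MonoidHom.comp_apply, hΦ.single]
    have h2 : theta hD K (sth D (D.simple i) ((c i : Kˣ) : K)) =
        ⟨hG hD (D.simple i) ((c i : Kˣ) : K), hG_mem_group hD _ _⟩ := by
      apply Subtype.ext
      apply Units.ext
      rw [theta_sth (theta hD K) (fun r t _ => StTheta.theta_stGen hD r t)]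
      exact (coe_hG hD _ _).symm
    rw [h2]
    exact hG_mem_diagonal hD (simple_lt hD i.2) (c i).ne_zero
  exact h

/-- the kernel of `theta` is the centre -/
theorem ker_theta : (theta hD K).ker = Subgroup.center (D.SteinbergGroup K) := by
  obtain ⟨θ, -, h2, h3⟩ := Cfsg.Agent.S1077.result (K := K) D hD
  have h : θ = theta hD K := by
    apply hom_ext
    intro r hr t
    apply Subtype.ext
    apply Units.ext
    rw [h3 r t hr, StTheta.theta_stGen]
  rw [← h, h2]

include hΦ in
theorem exists_theta_phi {l : ℕ} {M : CoxeterMatrix (Fin l)} (hp : IsType D l M) {t : ↥(D.group K)}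
    (ht : t ∈ TT D K) : ∃ a, theta hp.inList K (Φ a) = t := by
  have h1 : t ∈ ((theta hp.inList K).comp Φ).range := by
    refine (Subgroup.closure_le _).2 ?_ (Cfsg.Agent.BpExc.TorChev.TT_le hp ht)
    rintro _ ⟨j, c, hc0, rfl⟩
    refine ⟨Pi.mulSingle ⟨j, lt_rank hp j⟩ (Units.mk0 c hc0), ?_⟩
    rw [MonoidHom.comp_apply, hΦ.single]
    apply Subtype.ext
    apply Units.ext
    rw [theta_sth (theta hp.inList K) (fun r t _ => StTheta.theta_stGen hp.inList r t)]
    exact (coe_hG hp.inList _ _).symm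
  exact h1

theorem theta_stn_simple {l : ℕ} {M : CoxeterMatrix (Fin l)} (hp : IsType D l M) (i : Fin l) :
    theta hp.inList K (stn D (D.simple (i : ℕ)) (1 : K)) = nc hp K i := by
  apply Subtype.ext
  apply Units.ext
  rw [theta_stn (theta hp.inList K) (fun r t _ => StTheta.theta_stGen hp.inList r t)]
  show _ = ((nG hp.inList (D.simple i) 1 : GL D.Idx K) : Matrix D.Idx D.Idx K)
  rw [coe_nG]

end Torus

/-! ### solving equations in the torus -/

theorem det_ne_zero {m : ℕ} (A : Matrix (Fin m) (Fin m) ℤ) {q : ℤ} (hq : 2 ≤ q) : (q • A - 1).det ≠ 0 := by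
  intro h
  obtain ⟨v, hv0, hv⟩ := Matrix.exists_mulVec_eq_zero_iff.2 h
  rw [Matrix.sub_mulVec, Matrix.one_mulVec, sub_eq_zero, Matrix.smul_mulVec] at hv
  -- `q • A v = v`
  have key : ∀ (n : ℕ) (v : Fin m → ℤ), q • A.mulVec v = v → ∀ j, q ^ n ∣ v j := by
    intro n
    induction n with
    | zero => intro v _ j; rw [pow_zero]; exact one_dvd _
    | succ n ih =>
      intro v hv j
      have h1 : q • A.mulVec (A.mulVec v) = A.mulVec v := by
        rw [← Matrix.mulVec_smul, hv]
      have h2 := ih _ h1 j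
      rw [← congrFun hv j, Pi.smul_apply, smul_eq_mul, pow_succ']
      exact mul_dvd_mul_left q h2
  apply hv0
  funext j
  by_contra hj
  have hj' : v j ≠ 0 := hj
  have h1 := key (v j).natAbs v hv j
  have h2 : (q ^ (v j).natAbs).natAbs ≤ (v j).natAbs := Int.natAbs_le_of_dvd_ne_zero h1 hj'
  rw [Int.natAbs_pow] at h2
  have h3 : (v j).natAbs < 2 ^ (v j).natAbs := Nat.lt_two_pow_self
  have h4 : 2 ^ (v j).natAbs ≤ q.natAbs ^ (v j).natAbs := Nat.pow_le_pow_left (by omega) _
  omega

theorem exists_zpow {k : Type u} [Field k] [IsAlgClosed k] {n : ℤ} (hn : n ≠ 0) (x : kˣ) : ∃ y : kˣ, y ^ n = x := by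
  obtain ⟨y, hy⟩ := IsAlgClosed.exists_pow_nat_eq (x : k) (n := n.natAbs) (Int.natAbs_pos.2 hn)
  have hy0 : y ≠ 0 := by
    rintro rfl
    rw [zero_pow (Int.natAbs_ne_zero.2 hn)] at hy
    exact x.ne_zero hy.symm
  have h1 : (Units.mk0 y hy0) ^ n.natAbs = x := Units.ext (by rw [Units.val_pow_eq_pow_val]; exact hy)
  rcases Int.natAbs_eq n with e | e
  · exact ⟨Units.mk0 y hy0, by rw [e, zpow_natCast, h1]⟩
  · exact ⟨(Units.mk0 y hy0)⁻¹, by rw [e, zpow_neg, inv_zpow, inv_inv, zpow_natCast, h1]⟩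

/-- `b ↦ A (b ^ q) * b⁻¹` is surjective. -/
theorem exists_solution {k : Type u} [Field k] [IsAlgClosed k] {m : ℕ} (A : Matrix (Fin m) (Fin m) ℤ) {q : ℕ}
    (hq : 2 ≤ q) (c : Fin m → kˣ) : ∃ b : Fin m → kˣ, mAct A (fun i => b i ^ q) = b * c := by
  set B : Matrix (Fin m) (Fin m) ℤ := (q : ℤ) • A - 1 with hB
  have hdet : B.det ≠ 0 := det_ne_zero A (by exact_mod_cast hq)
  choose a ha using fun j => exists_zpow hdet (c j)
  refine ⟨mAct B.adjugate a, ?_⟩
  have h1 : mAct B (mAct B.adjugate a) = c := by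
    rw [← mAct_mul, Matrix.mul_adjugate]
    funext j
    unfold mAct
    rw [Finset.prod_eq_single j]
    · rw [Matrix.smul_apply, Matrix.one_apply_eq, smul_eq_mul, mul_one, ha]
    · intro b _ hb
      rw [Matrix.smul_apply, Matrix.one_apply_ne (Ne.symm hb), smul_zero, zpow_zero]
    · intro hj
      exact absurd (Finset.mem_univ j) hj
  have h2 : ∀ b : Fin m → kˣ, mAct A (fun i => b i ^ q) = mAct ((q : ℤ) • A) b := by
    intro b
    funext j
    unfold mAct
    refine Finset.prod_congr rfl fun i _ => ?_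
    rw [Matrix.smul_apply, smul_eq_mul, zpow_mul, zpow_natCast]
  rw [h2]
  have h3 : (q : ℤ) • A = 1 + B := by rw [hB]; abel
  rw [h3, mAct_add, mAct_one, h1]

/-! ### the theorem -/

section Main

variable {D : ChevalleyDatum} {l : ℕ} {M : CoxeterMatrix (Fin l)} (hp : IsType D l M) {k : Type u} [Field k]
  [IsAlgClosed k] {W : Type*} [Group W] (cs : CoxeterSystem M W) {p e : ℕ} [Fact p.Prime] [CharP k p]
  {Φ : (Fin D.rank → kˣ) →* D.SteinbergGroup k} (hΦ : IsPhi Φ)

include hp cs hΦ in
/-- **The generator of a twisted torus does not lie in the image of the finite group**, if the centre is not trivial and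
is fixed by the Frobenius map. -/
theorem not_mem_range {F : Type u} [Field F] [Fintype F] (f : F →+* k) (hq : Fintype.card F = p ^ e)
    {c : Fin D.rank → kˣ} (hc : ∀ s < D.nroots, ∏ i : Fin D.rank, c i ^ D.cartan i s = 1) (hc1 : c ≠ 1)
    (hfix : ∀ b : Fin D.rank → kˣ, (∀ s < D.nroots, ∏ i : Fin D.rank, b i ^ D.cartan i s = 1) → ∀ i,
      b i ^ p ^ e = b i)
    {hN : NSys M (TT D k) (nc hp k)} {w : W} {n z t : ↥(D.group k)} (hn : Rp cs hN w n)
    (hz : n = z⁻¹ * phi D k p e z)
    (hgen : ∀ s ∈ TT D k, n * phi D k p e s * n⁻¹ = s → s ∈ Subgroup.zpowers t) :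
    z * t * z⁻¹ ∉ (emb hp.inList f).range := by
  intro hmem
  have hD := hp.inList
  have hq2 : 2 ≤ p ^ e := by rw [← hq]; exact Fintype.one_lt_card
  set φ : k →+* k := iterateFrobenius k p e with hφ
  have hφf : φ.comp f = f := by
    ext a
    exact (frob_fix_iff f hq (f a)).2 ⟨a, rfl⟩
  -- the representative
  obtain ⟨ω, rfl⟩ := cs.wordProd_surjective w
  have hrp : Rp cs hN (cs.wordProd ω) (theta hD k (nW D k ω)) := by
    clear hn
    induction ω with
    | nil =>
      rw [wordProd_nil]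
      have : theta hD k (nW D k ([] : List (Fin l))) = 1 := by simp [nW]
      rw [this]
      exact rp_one
    | cons i ω ih =>
      rw [wordProd_cons, nW_cons, map_mul, theta_stn_simple hp]
      exact (rp_simple cs hN i).mul ih
  have ht0 : (theta hD k (nW D k ω))⁻¹ * n ∈ TT D k := hrp.unique hn
  obtain ⟨A, hA⟩ := exists_matrix hD hΦ (lt_rank hp) ω
  -- the solution
  obtain ⟨b, hb⟩ := exists_solution A hq2 c
  have hσb : stMap D φ (Φ b) = Φ (fun i => b i ^ p ^ e) := by
    rw [stMap_phi hΦ]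
    refine congrArg Φ (funext fun i => Units.ext ?_)
    rw [Units.val_pow_eq_pow_val]
    exact iterateFrobenius_def _ _ _
  have hτ : nW D k ω * stMap D φ (Φ b) * (nW D k ω)⁻¹ = Φ b * Φ c := by
    rw [hσb, hA, hb, map_mul]
  have hcc : Φ c ∈ Subgroup.center (D.SteinbergGroup k) := (hΦ.mem_iff c).2 hc
  have hθc : theta hD k (Φ c) = 1 := by
    rw [← MonoidHom.mem_ker, ker_theta hD]; exact hcc
  have hθσ : ∀ x : D.SteinbergGroup k, theta hD k (stMap D φ x) = phi D k p e (theta hD k x) := fun x => by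
    rw [theta_stMap, phi_eq hp]
  -- the element `s`
  have hs : theta hD k (Φ b) ∈ TT D k := theta_phi_mem hD hΦ b
  have hσs : phi D k p e (theta hD k (Φ b)) ∈ TT D k := (( fr_phi hp cs).tor _).2 hs
  have hns : n * phi D k p e (theta hD k (Φ b)) * n⁻¹ = theta hD k (Φ b) := by
    have h1 := congrArg (theta hD k) hτ
    rw [map_mul, map_mul, map_inv, map_mul, hθc, mul_one, hθσ] at h1
    have h2 : n = theta hD k (nW D k ω) * ((theta hD k (nW D k ω))⁻¹ * n) := by group
    have h3 := Cfsg.Agent.BpExc.TorChev.TT_comm hp _ ht0 _ hσs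
    rw [h2]
    calc theta hD k (nW D k ω) * ((theta hD k (nW D k ω))⁻¹ * n) * phi D k p e (theta hD k (Φ b)) *
          (theta hD k (nW D k ω) * ((theta hD k (nW D k ω))⁻¹ * n))⁻¹
        = theta hD k (nW D k ω) * ((((theta hD k (nW D k ω))⁻¹ * n) * phi D k p e (theta hD k (Φ b))) *
          ((theta hD k (nW D k ω))⁻¹ * n)⁻¹) * (theta hD k (nW D k ω))⁻¹ := by group
      _ = theta hD k (nW D k ω) * phi D k p e (theta hD k (Φ b)) * (theta hD k (nW D k ω))⁻¹ := by
        rw [h3]; group
      _ = _ := h1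
  obtain ⟨m, hm⟩ := hgen _ hs hns
  have hm' : t ^ m = theta hD k (Φ b) := hm
  -- its conjugate lies in the image
  have hzs : z * theta hD k (Φ b) * z⁻¹ ∈ (emb hp.inList f).range := by
    rw [← hm', ← conj_zpow]
    exact zpow_mem hmem m
  obtain ⟨x, hx⟩ := hzs
  obtain ⟨x', rfl⟩ := theta_surjective hD x
  obtain ⟨z', rfl⟩ := theta_surjective hD z
  set E := stMap D f x' with hE
  have hEfix : stMap D φ E = E := by rw [hE, stMap_comp, hφf]
  have hθE : theta hD k E = theta hD k (z' * Φ b * z'⁻¹) := by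
    rw [hE, theta_stMap, hx, map_mul, map_mul, map_inv]
  have key : ∀ {x y : D.SteinbergGroup k}, theta hD k x = theta hD k y →
      ∃ κ ∈ Subgroup.center (D.SteinbergGroup k), y = x * κ := by
    intro x y hxy
    refine ⟨x⁻¹ * y, ?_, by group⟩
    rw [← ker_theta hD, MonoidHom.mem_ker, map_mul, map_inv, hxy, inv_mul_cancel]
  obtain ⟨κ, hκ, h1⟩ := key hθE
  -- the Frobenius map is trivial on the centre
  have hcen : ∀ κ ∈ Subgroup.center (D.SteinbergGroup k), stMap D φ κ = κ := by
    intro κ hκ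
    obtain ⟨a, rfl⟩ := hΦ.center_le hκ
    have h2 := hfix a ((hΦ.mem_iff a).1 hκ)
    rw [stMap_phi hΦ]
    refine congrArg Φ (funext fun i => Units.ext ?_)
    have h3 := congrArg Units.val (h2 i)
    rw [Units.val_pow_eq_pow_val] at h3
    exact (iterateFrobenius_def _ _ _).trans h3
  -- the lift of `z`
  obtain ⟨a, ha⟩ := exists_theta_phi hΦ hp ht0
  have hθn : theta hD k (nW D k ω * Φ a) = theta hD k (z'⁻¹ * stMap D φ z') := by
    rw [map_mul, ha, map_mul, map_inv, hθσ, ← hz]
    group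
  obtain ⟨κ', hκ', h2⟩ := key hθn
  have h3 : stMap D φ z' = z' * (nW D k ω * Φ a * κ') := by rw [← h2]; group
  have hκc : ∀ x : D.SteinbergGroup k, κ' * x * κ'⁻¹ = x := fun x => by
    rw [← Subgroup.mem_center_iff.1 hκ' x, mul_inv_cancel_right]
  have h4 : stMap D φ (z' * Φ b * z'⁻¹) = z' * (Φ b * Φ c) * z'⁻¹ := by
    rw [map_mul, map_mul, map_inv, h3, ← hτ]
    have h5 : Φ a * stMap D φ (Φ b) * (Φ a)⁻¹ = stMap D φ (Φ b) := by
      rw [hσb, ← map_mul, ← map_inv, ← map_mul]
      congr 1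
      exact mul_inv_cancel_comm _ _
    calc z' * (nW D k ω * Φ a * κ') * stMap D φ (Φ b) * (z' * (nW D k ω * Φ a * κ'))⁻¹
        = z' * (nW D k ω * (Φ a * (κ' * stMap D φ (Φ b) * κ'⁻¹) * (Φ a)⁻¹) * (nW D k ω)⁻¹) * z'⁻¹ := by group
      _ = z' * (nW D k ω * stMap D φ (Φ b) * (nW D k ω)⁻¹) * z'⁻¹ := by rw [hκc, h5]
  rw [h1, map_mul, hEfix, hcen κ hκ, ← h1] at h4
  have h5 : Φ c = 1 := by
    have h6 : z' * Φ b * z'⁻¹ = z' * Φ b * Φ c * z'⁻¹ := by rw [h4]; group
    have h7 := mul_right_cancel h6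
    exact (mul_eq_left.1 h7.symm)
  exact hc1 (hΦ.inj (by rw [h5, map_one]))

end Main

end Cfsg.Agent.H129.StCover
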