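import Cfsg.Agent.H77.E4Poly_m3
import Cfsg.Agent.H129.CycCard
import Cfsg.Agent.FastGrp
import Cfsg.Agent.Prune
set_option linter.all false
prune_inst 0x7f00000000000000000000000000000000000000000000000000000000000000000000000000000000000000000000000000000000000000000000000000000000000000000000000000000000000000003fffffffffffffffffffffffffffbeffbdffffffff
open scoped Cfsg.Agent.FastGrp

/-!
# The cyclic tori of `²F₄(q)` (helper129)

`suz_T` : the torus of an element `w` of the Weyl group of type `F₄`, `q = 2 ^ (2m + 1)`, from a functional `L` on the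
root lattice modulo `N`.
-/

set_option autoImplicit false
set_option linter.unusedSectionVars false

namespace Cfsg.Agent.H129.SuzT

open CoxeterSystem Cfsg Cfsg.Lie Cfsg.Lie.ChevalleyDatum
open Cfsg.Agent.ChevalleyStructure Cfsg.Agent.ChevalleyStructure.Elts Cfsg.Agent.ChevalleyStructure.CoxeterGeom
  Cfsg.Agent.ChevalleyStructure.CoxeterGeomTypes Cfsg.Agent.ChevalleyStructure.NPerm
open Cfsg.Agent.Tits.Roots Cfsg.Agent.Tits.Core Cfsg.Agent.Nodes Cfsg.Agent.Nodes.Reps Cfsg.Agent.Nodes.BNOf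
  Cfsg.Agent.Nodes.RGDChev Cfsg.Agent.Nodes.Bruhat Cfsg.Agent.Nodes.SubComb Cfsg.Agent.Nodes.Coroot
open Cfsg.Agent.KFacts.RgdField Cfsg.Agent.KFacts.RgdChevCoord Cfsg.Agent.BpExc.TorCent Cfsg.Agent.BpExc.TorChev
open Cfsg.Agent.GpExc.Field Cfsg.Agent.BpExc.Tow Cfsg.Agent.BpExc.TowChev
  Cfsg.Agent.BpExc.LangFr Cfsg.Agent.BpExc Cfsg.Agent.H129.TorusChar Cfsg.Agent.H129.TorusUntw
open Cfsg.Agent.H129.TorusCent Cfsg.Agent.H129.StabGen Cfsg.Agent.H129.TorAct
open Cfsg.Agent.H493.F4End Cfsg.Agent.H493.F4Tor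

universe u

/-- the functional -/
def La (L : Fin 4 → ℤ) (x : Fin 4 → ℤ) : ℤ := ∑ i, x i * L i

theorem La_add (L x y : Fin 4 → ℤ) : La L (x + y) = La L x + La L y := by
  unfold La
  rw [← Finset.sum_add_distrib]
  exact Finset.sum_congr rfl fun i _ => by rw [Pi.add_apply, add_mul]

theorem La_zero (L : Fin 4 → ℤ) : La L 0 = 0 :=
  Finset.sum_eq_zero fun i _ => by rw [Pi.zero_apply, zero_mul]

theorem La_sr (L : Fin 4 → ℤ) (j : Fin 4) : La L (sr j) = L j := by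
  unfold La
  rw [Finset.sum_eq_single j]
  · rw [sr_self, one_mul]
  · intro i _ hi
    rw [sr_ne hi, zero_mul]
  · intro h; exact absurd (Finset.mem_univ j) h

section Alg

variable {k : Type u} [Field k] [IsAlgClosed k] [CharP k 2] {W : Type*} [Group W]
  (cs : CoxeterSystem CoxeterMatrix.F₄ W)

/-- **The twisted torus in terms of characters.** -/
theorem fix_iff (hk : LocFin k) {hN : NSys CoxeterMatrix.F₄ (TT chevF4 k) (nc hp k)} {w : W}
    {n : ↥(chevF4.group k)} (hn : Rp cs hN w n) {Th : Fin 4 → Fin 4 → ℤ}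
    (hTh : ∀ j, rep cs hp.isCartan w (sr (rv j)) = Th j) (m : ℕ) {t : ↥(chevF4.group k)} (ht : t ∈ TT chevF4 k) :
    n * ste k m t * n⁻¹ = t ↔ ∀ j, cX hp t (Th j) = cX hp t (sr j) ^ (eN j * 2 ^ m) := by
  have : Fact (Nat.Prime 2) := ⟨Nat.prime_two⟩
  have hst := ste_TT (m := m) ht
  have h1 : ∀ x, cX hp (n * ste k m t * n⁻¹) (rep cs hp.isCartan w x) = cX hp (ste k m t) x :=
    fun x => cX_rp hp cs hk 2 hn hst x
  have hnst : n * ste k m t * n⁻¹ ∈ TT chevF4 k :=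
    (Subgroup.mem_normalizer_iff.1 hn.mem_normalizer _).1 hst
  constructor
  · intro h j
    rw [← cX_ste m ht j, ← h1, hTh, h]
  · intro h
    have h2 : ∀ i, cX hp (ste k m t) (sr i) = cX hp t (rep cs hp.isCartan w (sr i)) := by
      intro i
      have h3 := cX_ste m ht (rv i)
      have h4 := h (rv i)
      have h5 := hTh (rv i)
      rw [rv_rv] at h3 h5
      rw [h3, ← h4, h5]
    have h7 : ∀ x, cX hp (ste k m t) x = cX hp t (rep cs hp.isCartan w x) := fun x =>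
      (isMC_cX hp hst).ext ((isMC_cX hp ht).comp (rep cs hp.isCartan w).toAddMonoidHom) h2 x
    refine cX_inj hp hnst ht fun i => ?_
    have h8 : sr i = rep cs hp.isCartan w (rep cs hp.isCartan w⁻¹ (sr i)) := by
      rw [← Module.End.mul_apply, ← map_mul, mul_inv_cancel, map_one, Module.End.one_apply]
    rw [h8, h1, h7]

/-- A generator of the torus. -/
structure SD (hN : NSys CoxeterMatrix.F₄ (TT chevF4 k) (nc hp k)) (w : W) (m : ℕ) (L : Fin 4 → ℤ) (N : ℕ)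
    (n z t : ↥(chevF4.group k)) (u : k) : Prop where
  hn : Rp cs hN w n
  hz : n = z⁻¹ * ste k m z
  ht : t ∈ TT chevF4 k
  hτ : n * ste k m t * n⁻¹ = t
  hu : IsPrimitiveRoot u N
  hcX : ∀ x, cX hp t x = u ^ La L x
  htN : orderOf t = N
  hgen : ∀ s ∈ TT chevF4 k, n * ste k m s * n⁻¹ = s → s ∈ Subgroup.zpowers t

/-- the row `j` of the matrix of relations -/
def rowM (Th : Fin 4 → Fin 4 → ℤ) (x : ℤ) (j a : Fin 4) : ℤ := Th j a - if j = a then (eN j : ℤ) * x else 0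

theorem rowM_eq (Th : Fin 4 → Fin 4 → ℤ) (x : ℤ) (j : Fin 4) :
    rowM Th x j = Th j - ((eN j : ℤ) * x) • (sr j : Fin 4 → ℤ) := by
  funext a
  unfold rowM
  rw [Pi.sub_apply, Pi.smul_apply, smul_eq_mul]
  by_cases h : j = a
  · subst h; rw [if_pos rfl, sr_self, mul_one]
  · rw [if_neg h, sr_ne (Ne.symm h), mul_zero]

theorem SD.exists_of (hk : LocFin k) {hN : NSys CoxeterMatrix.F₄ (TT chevF4 k) (nc hp k)} {w : W}
    {Th : Fin 4 → Fin 4 → ℤ} (hTh : ∀ j, rep cs hp.isCartan w (sr (rv j)) = Th j) (m : ℕ) {L v A : Fin 4 → ℤ}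
    {S : Fin 4 → Fin 4 → ℤ} {N : ℕ} (hN2 : ¬ 2 ∣ N)
    (hL : ∀ j, (N : ℤ) ∣ ∑ i, rowM Th (2 ^ m) j i * L i) (hv : ∑ i, v i * L i = 1)
    (hS : ∀ i a, (if i = a then 1 else 0) = L i * v a + ∑ j, S i j * rowM Th (2 ^ m) j a)
    (hA : ∀ a, N * v a = ∑ j, A j * rowM Th (2 ^ m) j a) :
    ∃ n z t u, SD cs hN w m L N n z t u := by
  have : Fact (Nat.Prime 2) := ⟨Nat.prime_two⟩
  have hN0 : N ≠ 0 := by rintro rfl; exact hN2 (dvd_zero 2)
  have hNk : (N : k) ≠ 0 := by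
    rw [Ne, CharP.cast_eq_zero_iff k 2]
    exact hN2
  have : NeZero (N : k) := ⟨hNk⟩
  have : NeZero N := ⟨hN0⟩
  obtain ⟨n, hn⟩ := exists_rp cs hN w
  obtain ⟨z, hz⟩ := Cfsg.Agent.H493.F4Lang.lang_ste m n
  obtain ⟨u, hu⟩ := HasEnoughRootsOfUnity.exists_primitiveRoot k N
  have hu0 : u ≠ 0 := hu.ne_zero hN0
  have hone : ∀ z : ℤ, u ^ z = 1 ↔ (N : ℤ) ∣ z := fun z => hu.zpow_eq_one_iff_dvd z
  have hMC : IsMC (fun x : Fin 4 → ℤ => u ^ La L x) :=
    ⟨by show u ^ La L 0 = 1; rw [La_zero, zpow_zero],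
      fun x y => by show u ^ La L (x + y) = _; rw [La_add, zpow_add₀ hu0]⟩
  obtain ⟨t, ht, hcX⟩ := exists_cX hp invC_F4 one_ne_zero hMC fun i => ⟨_, pow_one _⟩
  have hcX' : ∀ x, cX hp t x = u ^ La L x := hcX
  have hrow : ∀ j, Th j = rowM Th (2 ^ m) j + ((eN j : ℤ) * 2 ^ m) • (sr j : Fin 4 → ℤ) := fun j => by
    rw [rowM_eq, sub_add_cancel]
  have hpow : ∀ (s : ↥(chevF4.group k)), s ∈ TT chevF4 k → ∀ j, cX hp s (Th j) =
      cX hp s (rowM Th (2 ^ m) j) * cX hp s (sr j) ^ (eN j * 2 ^ m) := by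
    intro s hs j
    have h1 := isMC_cX hp hs
    conv_lhs => rw [hrow j]
    rw [h1.add, h1.zsmul]
    congr 1
    rw [show ((eN j : ℤ) * 2 ^ m) = ((eN j * 2 ^ m : ℕ) : ℤ) by push_cast; ring, zpow_natCast]
  refine ⟨n, z, t, u, hn, hz, ht, ?_, hu, hcX', ?_, ?_⟩
  · rw [fix_iff cs hk hn hTh m ht]
    intro j
    rw [hpow t ht j, hcX' (rowM Th (2 ^ m) j), (hone (La L (rowM Th (2 ^ m) j))).2 (hL j), one_mul]
  · refine Nat.dvd_antisymm ?_ ?_
    · rw [orderOf_dvd_iff_pow_eq_one]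
      refine cX_inj hp (pow_mem ht N) (one_mem _) fun i => ?_
      rw [cX_pow hp ht, cX_one, hcX', ← zpow_natCast, ← zpow_mul, hone]
      exact dvd_mul_left _ _
    · have h1 : cX hp (t ^ orderOf t) v = 1 := by rw [pow_orderOf_eq_one, cX_one]
      rw [cX_pow hp ht, hcX', ← zpow_natCast, ← zpow_mul, hone] at h1
      have h2 : La L v = 1 := hv
      rw [h2, one_mul] at h1
      exact_mod_cast h1
  · intro s hs h
    rw [fix_iff cs hk hn hTh m hs] at h
    have hmc := isMC_cX hp hs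
    have hr : ∀ j, cX hp s (rowM Th (2 ^ m) j) = 1 := by
      intro j
      have h1 := hpow s hs j
      rw [h j] at h1
      have h2 : cX hp s (sr j) ^ (eN j * 2 ^ m) ≠ 0 := pow_ne_zero _ (hmc.ne_zero _)
      exact (mul_eq_right₀ h2).1 h1.symm
    have hvN : cX hp s v ^ N = 1 := by
      have e1 : (N : ℤ) • v = ∑ j, A j • rowM Th (2 ^ m) j := by
        funext a
        rw [Pi.smul_apply, smul_eq_mul, hA a, Finset.sum_apply]
        exact Finset.sum_congr rfl fun j _ => by rw [Pi.smul_apply, smul_eq_mul]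
      rw [← zpow_natCast, ← hmc.zsmul, e1, hmc.sum_smul]
      exact Finset.prod_eq_one fun j _ => by rw [hr, one_zpow]
    have hsr : ∀ i, cX hp s (sr i) = cX hp s v ^ L i := by
      intro i
      have e1 : (sr i : Fin 4 → ℤ) = L i • v + ∑ j, S i j • rowM Th (2 ^ m) j := by
        funext a
        rw [Pi.add_apply, Pi.smul_apply, smul_eq_mul, Finset.sum_apply]
        have h1 := hS i a
        have h2 : (sr i : Fin 4 → ℤ) a = if i = a then 1 else 0 := by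
          by_cases h : i = a
          · subst h; rw [if_pos rfl, sr_self]
          · rw [if_neg h, sr_ne (Ne.symm h)]
        rw [h2, h1]
        congr 1
      rw [e1, hmc.add, hmc.zsmul, hmc.sum_smul]
      have h2 : ∏ j, cX hp s (rowM Th (2 ^ m) j) ^ S i j = 1 :=
        Finset.prod_eq_one fun j _ => by rw [hr, one_zpow]
      rw [h2, mul_one]
    obtain ⟨j, -, hj⟩ := hu.eq_pow_of_pow_eq_one hvN
    refine ⟨j, ?_⟩
    show t ^ (j : ℤ) = s
    rw [zpow_natCast]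
    refine cX_inj hp (pow_mem ht j) hs fun i => ?_
    rw [cX_pow hp ht, hcX', La_sr, hsr, ← hj, ← zpow_natCast, ← zpow_mul, ← zpow_natCast, ← zpow_mul, mul_comm]

variable {cs}

/-- **The centraliser of an element of good prime order is the torus.** -/
theorem SD.mem_TT [Finite W] {hN : NSys CoxeterMatrix.F₄ (TT chevF4 k) (nc hp k)} {w : W} {m : ℕ} {L : Fin 4 → ℤ}
    {N : ℕ} {n z t : ↥(chevF4.group k)} {u : k} (X : SD cs hN w m L N n z t u) (hk : LocFin k) (hN0 : N ≠ 0) {r : ℕ}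
    (hr : r.Prime) (hrW : ¬ r ∣ Nat.card W)
    (hG : ∀ a, IsRoot cs hp.isCartan a → ¬ (r : ℤ) ∣ La L a) {j : ℕ} (hj : orderOf (t ^ j) = r)
    {c : ↥(chevF4.group k)} (hc : c * t ^ j = t ^ j * c) : c ∈ TT chevF4 k := by
  have : Fact (Nat.Prime 2) := ⟨Nat.prime_two⟩
  have htj : t ^ j ∈ TT chevF4 k := pow_mem X.ht j
  have hone : ∀ y : ℤ, u ^ y = 1 ↔ (N : ℤ) ∣ y := fun y => X.hu.zpow_eq_one_iff_dvd y
  have hj0 : j ≠ 0 := by
    rintro rfl
    rw [pow_zero, orderOf_one] at hj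
    exact hr.one_lt.ne hj
  have hgcd : N = r * Nat.gcd N j := by
    have h1 : orderOf (t ^ j) = N / Nat.gcd N j := by rw [orderOf_pow' t hj0, X.htN]
    rw [hj] at h1
    have h2 := Nat.div_mul_cancel (Nat.gcd_dvd_left N j)
    rw [← h1] at h2
    exact h2.symm
  have hval : ∀ x, cX hp (t ^ j) x = 1 ↔ (r : ℤ) ∣ La L x := by
    intro x
    rw [cX_pow hp X.ht, X.hcX, ← zpow_natCast, ← zpow_mul, mul_comm (La L x), hone]
    obtain ⟨m, hm⟩ := Nat.gcd_dvd_right N j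
    have hd0 : Nat.gcd N j ≠ 0 := fun h0 => hN0 (by rw [hgcd, h0, mul_zero])
    have hco : Nat.Coprime r m := by
      have h3 : Nat.gcd N j = Nat.gcd (r * Nat.gcd N j) (Nat.gcd N j * m) := by
        rw [← hgcd, ← hm]
      rw [mul_comm r, Nat.gcd_mul_left] at h3
      exact Nat.eq_of_mul_eq_mul_left (Nat.pos_of_ne_zero hd0) (h3.symm.trans (mul_one _).symm)
    have e1 : (N : ℤ) = (Nat.gcd N j : ℤ) * r := by
      rw [mul_comm]; exact_mod_cast hgcd
    have e2 : (j : ℤ) * La L x = (Nat.gcd N j : ℤ) * (m * La L x) := by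
      rw [← mul_assoc]; congr 1; exact_mod_cast hm
    rw [e1, e2, mul_dvd_mul_iff_left (Nat.cast_ne_zero.2 hd0)]
    constructor
    · intro h4
      exact (Nat.isCoprime_iff_coprime.2 hco).dvd_of_dvd_mul_left h4
    · intro h4
      exact h4.mul_left _
  refine mem_TT_of_comm hp cs htj hk 2 ?_ ?_ hc
  · intro a ha h3
    exact hG a ha ((hval a).1 h3)
  · intro w' hw'
    have hVV : ∀ a, IsRoot cs hp.isCartan a → cX hp (t ^ j) a ^ 1 = 1 → ∃ v i, a = rep cs hp.isCartan v (sr i) ∧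
        rfl' cs v i ∈ (⊥ : Subgroup W) := by
      intro a ha h3
      rw [pow_one] at h3
      exact absurd ((hval a).1 h3) (hG a ha)
    refine stab_eq_one' hp cs htj hk 2 hr hrW (m := 1) (V := ⊥) ?_ hVV ?_ ?_ hw'
    · intro a _
      rw [one_mul, ← cX_pow hp htj, ← hj, pow_orderOf_eq_one, cX_one]
    · intro v hv x
      rw [Subgroup.mem_bot.1 hv, map_one, Module.End.one_apply, sub_self]
      exact zero_mem _
    · intro v hv hv1
      exact absurd (Subgroup.mem_bot.1 hv) hv1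

end Alg

/-! ### the finite group -/

section Fin

variable {K : Type u} [Field K] [Finite K] [CharP K 2]

open Cfsg.Agent.ChevalleyStructure.TwF4.Fix Cfsg.Agent.ChevalleyStructure.TwF4.TwistedFix
  Cfsg.Agent.ChevalleyStructure.TwF4 Cfsg.Agent.H493.F4Fix in
/-- the elements of `²F₄` are fixed by the endomorphism -/
theorem ste_of_twisted {m : ℕ} {φ : K →+* K} (hφ : Rln φ (2 ^ m)) {g : ↥(chevF4.group K)}
    (hg : (g : GL chevF4.Idx K) ∈ twistedF4 K (2 ^ m)) : ste K m g = g := by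
  have h1 : (g : GL chevF4.Idx K) ∈ FF φ := twisted_le_Fix hφ hg
  apply iA_injective
  apply Units.ext
  show Amat (mt (ste K m g)) = Amat (mt g)
  rw [Amat_ste]
  have h2 : Cmat (mt g) = (Amat (mt g)).map φ := h1.2
  rw [h2]
  ext i j
  rw [Matrix.map_apply, Matrix.map_apply, iterateFrobenius_def, ← map_pow, hφ.phi_pow]

end Fin

theorem genSubgroup_le_group {D : ChevalleyDatum} (hD : InList D) {K : Type*} [Field K] (S : Set (List (ℕ × K))) :
    D.genSubgroup K S ≤ D.group K := by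
  unfold ChevalleyDatum.genSubgroup
  rw [Subgroup.closure_le]
  rintro g ⟨w, -, hg⟩
  rw [← eq_wordG_iff hD] at hg
  rw [SetLike.mem_coe, hg]
  clear hg
  induction w with
  | nil => exact one_mem _
  | cons p w ih => rw [wordG_cons]; exact mul_mem (xG_mem_group hD _ _) ih

theorem twisted_le (K : Type u) [Field K] (m : ℕ) : twistedF4 K (2 ^ m) ≤ chevF4.group K :=
  genSubgroup_le_group hp.inList _

/-- the positive roots -/
def RT : Fin 24 → Fin 4 → ℤ := ![![0, 0, 0, 1], ![0, 0, 1, 0], ![0, 0, 1, 1], ![0, 1, 0, 0], ![0, 1, 1, 0], ![0, 1, 1, 1],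
    ![0, 2, 1, 0], ![0, 2, 1, 1], ![0, 2, 2, 1], ![1, 0, 0, 0], ![1, 1, 0, 0], ![1, 1, 1, 0],
    ![1, 1, 1, 1], ![1, 2, 1, 0], ![1, 2, 1, 1], ![1, 2, 2, 1], ![1, 3, 2, 1], ![2, 2, 1, 0],
    ![2, 2, 1, 1], ![2, 2, 2, 1], ![2, 3, 2, 1], ![2, 4, 2, 1], ![2, 4, 3, 1], ![2, 4, 3, 2]]

theorem RT_tab : ∀ r : Fin 48, ∃ s : Fin 24, (∀ i, vec chevF4 4 r i = RT s i) ∨ ∀ i, vec chevF4 4 r i = - RT s i := by
  decide +kernel

theorem not_dvd_root {r : ℕ} {L : Fin 4 → ℤ} (h : ∀ s, ¬ (r : ℤ) ∣ La L (RT s)) {a : Fin 4 → ℤ}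
    (ha : IsRoot CoxeterMatrix.F₄.toCoxeterSystem hp.isCartan a) : ¬ (r : ℤ) ∣ La L a := by
  obtain ⟨n, hn, rfl⟩ := (isRoot_iff hp CoxeterMatrix.F₄.toCoxeterSystem a).1 ha
  obtain ⟨s, hs | hs⟩ := RT_tab ⟨n, hn⟩
  · have e : vec chevF4 4 n = RT s := funext hs
    rw [e]
    exact h s
  · have e : vec chevF4 4 n = - RT s := funext hs
    have e2 : La L (-RT s) = - La L (RT s) := by
      unfold La
      rw [← Finset.sum_neg_distrib]
      exact Finset.sum_congr rfl fun i _ => by rw [Pi.neg_apply, neg_mul]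
    rw [e, e2, dvd_neg]
    exact h s

/-- the descent -/
theorem SD.descent {K : Type u} [Field K] [Fintype K] [CharP K 2] {k : Type u} [Field k] [IsAlgClosed k] [CharP k 2]
    (f : K →+* k) (hk : LocFin k) {m : ℕ} (hK : Fintype.card K = 2 ^ (2 * m + 1)) {W : Type*} [Group W] [Finite W]
    {cs : CoxeterSystem CoxeterMatrix.F₄ W} {hN : NSys CoxeterMatrix.F₄ (TT chevF4 k) (nc hp k)} {w : W}
    {L : Fin 4 → ℤ} {N : ℕ} {n z t : ↥(chevF4.group k)} {u : k} (X : SD cs hN w m L N n z t u) (hN0 : N ≠ 0) :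
    ∃ T : Subgroup ↥(twistedF4 K (2 ^ m)), IsCyclic ↥T ∧ Nat.card ↥T = N ∧
      ∀ r : ℕ, r.Prime → ¬ r ∣ Nat.card W → (∀ a, IsRoot cs hp.isCartan a → ¬ (r : ℤ) ∣ La L a) →
        ∀ y ∈ T, orderOf y = r → Subgroup.centralizer {y} ≤ T := by
  classical
  have : Fact (Nat.Prime 2) := ⟨Nat.prime_two⟩
  have hord : orderOf (z * t * z⁻¹) = N := by
    have h3 : z * t * z⁻¹ = MulAut.conj z t := rfl
    rw [h3, ← X.htN]
    exact orderOf_injective (MulAut.conj z).toMonoidHom (MulAut.conj z).injective t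
  have hσz : ste k m z = z * n := by rw [X.hz]; group
  have hσa : ste k m (z * t * z⁻¹) = z * t * z⁻¹ := by
    rw [map_mul, map_mul, map_inv, hσz]
    calc z * n * ste k m t * (z * n)⁻¹ = z * (n * ste k m t * n⁻¹) * z⁻¹ := by group
      _ = z * t * z⁻¹ := by rw [X.hτ]
  let ι : ↥(twistedF4 K (2 ^ m)) →* ↥(chevF4.group K) := Subgroup.inclusion (twisted_le K m)
  let e0 : ↥(twistedF4 K (2 ^ m)) →* ↥(chevF4.group k) := (emb hD f).comp ι
  have he0 : Function.Injective e0 := fun x y hxy =>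
    Subgroup.inclusion_injective _ (emb_injective hD f hxy)
  obtain ⟨φ, hφ⟩ := Cfsg.Agent.ChevalleyStructure.TwF4.TwistedFix.exists_rln hK
  have hfix : ∀ x, ste k m (e0 x) = e0 x := by
    intro x
    show ste k m (emb hD f (ι x)) = emb hD f (ι x)
    rw [← emb_ste, ste_of_twisted hφ (g := ι x) x.2]
  have hrange : z * t * z⁻¹ ∈ e0.range := by
    obtain ⟨g, hg, hgm⟩ := exists_fin f hK hσa
    exact ⟨⟨g, hgm⟩, hg⟩
  refine ⟨T0 e0 (z * t * z⁻¹), isCyclic_T0 he0, ?_, ?_⟩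
  · refine Nat.dvd_antisymm ?_ ?_
    · rw [← hord]; exact card_T0_dvd he0
    · have h1 := dvd_card_T0 (a := z * t * z⁻¹) (d := 1) he0 (by rwa [pow_one])
      rwa [one_mul, hord] at h1
  · intro r hr hrW hG y hy hyr c hc
    have hcy : c * y = y * c := (Subgroup.mem_centralizer_singleton_iff.1 hc)
    have hfo : IsOfFinOrder (z * t * z⁻¹) := by
      rw [← orderOf_pos_iff, hord]
      exact Nat.pos_of_ne_zero hN0
    obtain ⟨j, hj⟩ := (hfo.mem_powers_iff_mem_zpowers.2 hy)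
    have hj' : (z * t * z⁻¹) ^ j = e0 y := hj
    have e1 : e0 y = z * t ^ j * z⁻¹ := by rw [← hj', conj_pow]
    have hoj : orderOf (t ^ j) = r := by
      have h2 : orderOf (z * t ^ j * z⁻¹) = orderOf (t ^ j) := by
        have h3 : z * t ^ j * z⁻¹ = MulAut.conj z (t ^ j) := rfl
        rw [h3]
        exact orderOf_injective (MulAut.conj z).toMonoidHom (MulAut.conj z).injective (t ^ j)
      rw [← h2, ← e1, orderOf_injective e0 he0 y, hyr]
    have h3 : (z⁻¹ * e0 c * z) * t ^ j = t ^ j * (z⁻¹ * e0 c * z) := by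
      have e2 : t ^ j = z⁻¹ * e0 y * z := by rw [e1]; group
      rw [e2]
      calc z⁻¹ * e0 c * z * (z⁻¹ * e0 y * z) = z⁻¹ * (e0 c * e0 y) * z := by group
        _ = z⁻¹ * (e0 y * e0 c) * z := by rw [← map_mul, hcy, map_mul]
        _ = _ := by group
    have h4 := X.mem_TT hk hN0 hr hrW hG hoj h3
    have h5 : n * ste k m (z⁻¹ * e0 c * z) * n⁻¹ = z⁻¹ * e0 c * z := by
      rw [map_mul, map_mul, map_inv, hfix, hσz]
      group
    obtain ⟨i, hi⟩ := X.hgen _ h4 h5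
    rw [mem_T0]
    refine ⟨i, ?_⟩
    show (z * t * z⁻¹) ^ i = e0 c
    have h6 : t ^ i = z⁻¹ * e0 c * z := hi
    rw [conj_zpow, h6]
    group

/-- **The cyclic tori of `²F₄(q)`.** -/
theorem suz_T {K : Type u} [Field K] [Fintype K] {m : ℕ} (hK : Fintype.card K = 2 ^ (2 * m + 1))
    {C : List (Fin 4 × WData.Mat 4)} {Am : WData.Mat 4} (hAm : ∀ i j, Am i j = cartanOf chevF4 4 i j)
    (hC : WData.ChainOK Am C) {Th : Fin 4 → Fin 4 → ℤ} (hTh : ∀ j, WData.hd C (rv j) = Th j)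
    {L v A : Fin 4 → ℤ} {S : Fin 4 → Fin 4 → ℤ} {N : ℕ} (hN2 : ¬ 2 ∣ N)
    (hL : ∀ j, (N : ℤ) ∣ ∑ i, rowM Th (2 ^ m) j i * L i) (hv : ∑ i, v i * L i = 1)
    (hS : ∀ i a, (if i = a then 1 else 0) = L i * v a + ∑ j, S i j * rowM Th (2 ^ m) j a)
    (hA : ∀ a, N * v a = ∑ j, A j * rowM Th (2 ^ m) j a) [Finite CoxeterMatrix.F₄.Group] :
    ∃ T : Subgroup ↥(twistedF4 K (2 ^ m)), IsCyclic ↥T ∧ Nat.card ↥T = N ∧
      ∀ r : ℕ, r.Prime → ¬ r ∣ Nat.card CoxeterMatrix.F₄.Group → (∀ s, ¬ (r : ℤ) ∣ La L (RT s)) →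
        ∀ y ∈ T, orderOf y = r → Subgroup.centralizer {y} ≤ T := by
  classical
  have : Fact (Nat.Prime 2) := ⟨Nat.prime_two⟩
  have hc2 : CharP K 2 := F4Fixed.charP_two hK
  obtain ⟨p, e, hpF, hpc, hpk, he, hpe, hk⟩ := exists_closure hK
  have hp2 : p = 2 := CharP.eq K hpc hc2
  subst hp2
  have hN := nsys_of_locFin hp CoxeterMatrix.F₄.toCoxeterSystem hk 2
  have hw : ∀ j, rep CoxeterMatrix.F₄.toCoxeterSystem hp.isCartan
      (CoxeterMatrix.F₄.toCoxeterSystem.wordProd (C.map Prod.fst)) (sr (rv j)) = Th j := fun j => by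
    rw [H129.WData.chain_rep hp _ hAm hC, hTh]
  obtain ⟨n, z, t, u, X⟩ := SD.exists_of CoxeterMatrix.F₄.toCoxeterSystem hk (hN := hN) hw m hN2 hL hv hS hA
  have hN0 : N ≠ 0 := by rintro rfl; exact hN2 (dvd_zero 2)
  obtain ⟨T, h1, h2, h3⟩ := X.descent (algebraMap K (AlgebraicClosure K)) hk hK hN0
  exact ⟨T, h1, h2, fun r hr hrW hG => h3 r hr hrW fun a ha => not_dvd_root hG ha⟩

end Cfsg.Agent.H129.SuzT
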