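import Cfsg.Agent.H129.WData
import Cfsg.Agent.Prune
set_option linter.all false
prune_inst 0x7f00000000000000000000000000000000000000000000000000000000000000000000000000000000000000000000000000000000000000000000000000000000000000000000000000000000000000003fffffffffffffffffffffffffffbeffbdffffffff
open scoped Cfsg.Agent.FastGrp

/-!
A faster test for `ChainOK`: the matrices are turned into lists by unification.
-/

set_option autoImplicit false

namespace Cfsg.Agent.H129.ChainF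

open Cfsg.Agent.H129.WData

/-- a matrix as a list of rows -/
def mL {k l : ℕ} (U : Fin k → Fin l → ℤ) : List (List ℤ) := List.ofFn fun j => List.ofFn (U j)

/-- a chain as a list -/
def cL {l : ℕ} (L : List (Fin l × Mat l)) : List (ℕ × List (List ℤ)) := L.map fun x => (x.1.1, mL x.2)

/-- scalar product -/
noncomputable def dot (a : List ℤ) : List ℤ → ℤ :=
  List.rec (fun _ => 0) (fun x _ ih b => List.rec 0 (fun y b _ =>
    Decidable.rec (fun _ => Int.add (Int.mul x y) (ih b)) (fun _ => ih b) (Int.decEq x 0)) b) a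

/-- equal rows -/
noncomputable def eqL (u : List ℤ) : List ℤ → Bool :=
  List.rec (fun _ => true) (fun x _ ih h => List.rec true (fun y h _ =>
    Decidable.rec (fun _ => false) (fun _ => ih h) (Int.decEq x y)) h) u

/-- the row `u` is the row `h` with `s` subtracted at the place `i` -/
noncomputable def row (s : ℤ) (u : List ℤ) : List ℤ → ℕ → Bool :=
  List.rec (fun _ _ => true) (fun x u ih h i => List.rec true (fun y h _ =>
    Nat.rec (Decidable.rec (fun _ => false) (fun _ => eqL u h) (Int.decEq x (Int.sub y s)))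
      (fun i _ => Decidable.rec (fun _ => false) (fun _ => ih h i) (Int.decEq x y)) i) h) u

/-- one step -/
noncomputable def step (a : List ℤ) (i : ℕ) (U : List (List ℤ)) : List (List ℤ) → Bool :=
  List.rec (fun _ => true) (fun u _ ih H => List.rec true (fun h H _ => Bool.rec false (ih H) (row (dot a h) u h i)) H) U

/-- the test -/
noncomputable def chk (A I : List (List ℤ)) (L : List (ℕ × List (List ℤ))) : Bool :=
  List.rec true (fun x L ih => Bool.rec false ih (step (A.getD x.1 []) x.1 x.2 (List.rec I (fun y _ _ => y.2) L))) L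

theorem tst {p : Prop} {b : Bool} : ∀ d : Decidable p,
    (Decidable.rec (fun _ => false) (fun _ => b) d : Bool) = true → p ∧ b = true
  | isTrue h, e => ⟨h, e⟩

theorem both {b : Bool} : ∀ a : Bool, (Bool.rec false b a : Bool) = true → a = true ∧ b = true
  | true, e => ⟨rfl, e⟩

theorem dot_eq : ∀ {n : ℕ} (a h : Fin n → ℤ), dot (List.ofFn a) (List.ofFn h) = ∑ m, a m * h m
  | 0, a, h => by rw [List.ofFn_zero, Fin.sum_univ_zero]; rfl
  | n + 1, a, h => by
    rw [List.ofFn_succ, List.ofFn_succ, Fin.sum_univ_succ, ← dot_eq]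
    show (Decidable.rec (fun _ => a 0 * h 0 + dot _ _) (fun _ => dot _ _) (Int.decEq (a 0) 0) : ℤ) = _
    cases Int.decEq (a 0) 0 with
    | isFalse _ => rfl
    | isTrue e => exact (Int.zero_add _).symm.trans (congrArg (· + _) ((congrArg (· * h 0) e).trans (Int.zero_mul _)).symm)

theorem eqL_spec : ∀ {n : ℕ} (u h : Fin n → ℤ), eqL (List.ofFn u) (List.ofFn h) = true → ∀ m, u m = h m
  | 0, _, _, _ => fun m => m.elim0
  | n + 1, u, h, e => by
    rw [List.ofFn_succ, List.ofFn_succ] at e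
    exact Fin.cases (tst _ e).1 (eqL_spec _ _ (tst _ e).2)

theorem row_spec (s : ℤ) : ∀ {n : ℕ} (u h : Fin n → ℤ) (i : Fin n), row s (List.ofFn u) (List.ofFn h) i.1 = true →
    ∀ m, u m = h m - if m = i then s else 0
  | n + 1, u, h, ⟨0, _⟩, e => by
    rw [List.ofFn_succ, List.ofFn_succ] at e
    refine Fin.cases ((tst _ e).1.trans (congrArg _ (if_pos rfl).symm)) fun m => ?_
    rw [if_neg (by exact Fin.succ_ne_zero m), Int.sub_zero]
    exact eqL_spec _ _ (tst _ e).2 m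
  | n + 1, u, h, ⟨i + 1, hi⟩, e => by
    rw [List.ofFn_succ, List.ofFn_succ] at e
    refine Fin.cases ?_ fun m => (row_spec s _ _ ⟨i, Nat.lt_of_succ_lt_succ hi⟩ (tst _ e).2 m).trans
      (congrArg _ (if_congr (Fin.succ_inj (b := ⟨i, Nat.lt_of_succ_lt_succ hi⟩)).symm rfl rfl))
    rw [if_neg (by exact (Fin.succ_ne_zero ⟨i, Nat.lt_of_succ_lt_succ hi⟩).symm), Int.sub_zero]
    exact (tst _ e).1

theorem step_spec {l : ℕ} (a : Fin l → ℤ) (i : Fin l) : ∀ {k : ℕ} (U H : Fin k → Fin l → ℤ),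
    step (List.ofFn a) i.1 (mL U) (mL H) = true → ∀ j m, U j m = H j m - if m = i then ∑ n, a n * H j n else 0
  | 0, _, _, _ => fun j => j.elim0
  | k + 1, U, H, e => by
    delta mL at e
    rw [List.ofFn_succ, List.ofFn_succ] at e
    refine Fin.cases ?_ (step_spec a i _ _ (both _ e).2)
    rw [← dot_eq]
    exact row_spec _ _ _ i (both _ e).1

theorem chk_spec {l : ℕ} (A : Mat l) : ∀ L : List (Fin l × Mat l), chk (mL A) (mL (hd ([] : List (Fin l × Mat l)))) (cL L) = true →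
    ChainOK A L
  | [], _ => trivial
  | (i, U) :: L, e => by
    refine ⟨step_spec (A i) i U (hd L) ?_, chk_spec A L (both _ e).2⟩
    have h1 : (mL A).getD i.1 [] = List.ofFn (A i) := by
      delta mL
      rw [List.getD_eq_getElem _ _ (by rw [List.length_ofFn]; exact i.2), List.getElem_ofFn]
    have h2 : mL (hd L) = List.rec (mL (hd ([] : List (Fin l × Mat l)))) (fun y _ _ => y.2) (cL L) := by
      cases L <;> rfl
    rw [← h1, h2]
    exact (both _ e).1

theorem ok {l : ℕ} {A : Mat l} {L : List (Fin l × Mat l)} {A' I : List (List ℤ)} {L' : List (ℕ × List (List ℤ))}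
    (hI : mL (hd ([] : List (Fin l × Mat l))) = I) (hA : mL A = A') (hL : cL L = L') (h : chk A' I L' = true) : ChainOK A L :=
  chk_spec A L (by rw [hI, hA, hL]; exact h)

theorem nil {l : ℕ} : cL ([] : List (Fin l × Mat l)) = [] := rfl

theorem cons {l : ℕ} {i : Fin l} {U : Mat l} {L : List (Fin l × Mat l)} {U' : List (List ℤ)} {L' : List (ℕ × List (List ℤ))}
    (hU : mL U = U') (hL : cL L = L') : cL ((i, U) :: L) = (i.1, U') :: L' := by
  rw [← hU, ← hL]
  rfl

theorem m2 {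
    a00 a01 a10 a11 : ℤ} :
    mL ![![a00, a01], ![a10, a11]] =
    [[a00, a01], [a10, a11]] := (rfl)

theorem i2 : mL (hd ([] : List (Fin 2 × Mat 2))) =
    [[1, 0], [0, 1]] := by
  decide +kernel

theorem m3 {
    a00 a01 a02 a10 a11 a12 a20 a21 a22 : ℤ} :
    mL ![![a00, a01, a02], ![a10, a11, a12], ![a20, a21, a22]] =
    [[a00, a01, a02], [a10, a11, a12], [a20, a21, a22]] := (rfl)

theorem i3 : mL (hd ([] : List (Fin 3 × Mat 3))) =
    [[1, 0, 0], [0, 1, 0], [0, 0, 1]] := by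
  decide +kernel

theorem m4 {
    a00 a01 a02 a03 a10 a11 a12 a13 a20 a21 a22 a23 a30 a31 a32 a33 : ℤ} :
    mL ![![a00, a01, a02, a03], ![a10, a11, a12, a13], ![a20, a21, a22, a23], ![a30, a31, a32, a33]] =
    [[a00, a01, a02, a03], [a10, a11, a12, a13], [a20, a21, a22, a23], [a30, a31, a32, a33]] := (rfl)

theorem i4 : mL (hd ([] : List (Fin 4 × Mat 4))) =
    [[1, 0, 0, 0], [0, 1, 0, 0], [0, 0, 1, 0], [0, 0, 0, 1]] := by
  decide +kernel

theorem m6 {
    a00 a01 a02 a03 a04 a05 a10 a11 a12 a13 a14 a15 a20 a21 a22 a23 a24 a25 a30 a31 a32 a33 a34 a35 a40 a41 a42 a43 a44 a45 a50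
    a51 a52 a53 a54 a55 : ℤ} :
    mL ![![a00, a01, a02, a03, a04, a05], ![a10, a11, a12, a13, a14, a15], ![a20, a21, a22, a23, a24, a25], ![a30, a31, a32, a33,
    a34, a35], ![a40, a41, a42, a43, a44, a45], ![a50, a51, a52, a53, a54, a55]] =
    [[a00, a01, a02, a03, a04, a05], [a10, a11, a12, a13, a14, a15], [a20, a21, a22, a23, a24, a25], [a30, a31, a32, a33, a34,
    a35], [a40, a41, a42, a43, a44, a45], [a50, a51, a52, a53, a54, a55]] := (rfl)

theorem i6 : mL (hd ([] : List (Fin 6 × Mat 6))) =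
    [[1, 0, 0, 0, 0, 0], [0, 1, 0, 0, 0, 0], [0, 0, 1, 0, 0, 0], [0, 0, 0, 1, 0, 0], [0, 0, 0, 0, 1, 0], [0, 0, 0, 0, 0, 1]] := by
  decide +kernel

theorem m7 {
    a00 a01 a02 a03 a04 a05 a06 a10 a11 a12 a13 a14 a15 a16 a20 a21 a22 a23 a24 a25 a26 a30 a31 a32 a33 a34 a35 a36 a40 a41 a42
    a43 a44 a45 a46 a50 a51 a52 a53 a54 a55 a56 a60 a61 a62 a63 a64 a65 a66 : ℤ} :
    mL ![![a00, a01, a02, a03, a04, a05, a06], ![a10, a11, a12, a13, a14, a15, a16], ![a20, a21, a22, a23, a24, a25, a26], ![a30,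
    a31, a32, a33, a34, a35, a36], ![a40, a41, a42, a43, a44, a45, a46], ![a50, a51, a52, a53, a54, a55, a56], ![a60, a61, a62,
    a63, a64, a65, a66]] =
    [[a00, a01, a02, a03, a04, a05, a06], [a10, a11, a12, a13, a14, a15, a16], [a20, a21, a22, a23, a24, a25, a26], [a30, a31,
    a32, a33, a34, a35, a36], [a40, a41, a42, a43, a44, a45, a46], [a50, a51, a52, a53, a54, a55, a56], [a60, a61, a62, a63, a64,
    a65, a66]] := (rfl)

theorem i7 : mL (hd ([] : List (Fin 7 × Mat 7))) =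
    [[1, 0, 0, 0, 0, 0, 0], [0, 1, 0, 0, 0, 0, 0], [0, 0, 1, 0, 0, 0, 0], [0, 0, 0, 1, 0, 0, 0], [0, 0, 0, 0, 1, 0, 0], [0, 0, 0,
    0, 0, 1, 0], [0, 0, 0, 0, 0, 0, 1]] := by
  decide +kernel

theorem m8 {
    a00 a01 a02 a03 a04 a05 a06 a07 a10 a11 a12 a13 a14 a15 a16 a17 a20 a21 a22 a23 a24 a25 a26 a27 a30 a31 a32 a33 a34 a35 a36
    a37 a40 a41 a42 a43 a44 a45 a46 a47 a50 a51 a52 a53 a54 a55 a56 a57 a60 a61 a62 a63 a64 a65 a66 a67 a70 a71 a72 a73 a74 a75
    a76 a77 : ℤ} :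
    mL ![![a00, a01, a02, a03, a04, a05, a06, a07], ![a10, a11, a12, a13, a14, a15, a16, a17], ![a20, a21, a22, a23, a24, a25,
    a26, a27], ![a30, a31, a32, a33, a34, a35, a36, a37], ![a40, a41, a42, a43, a44, a45, a46, a47], ![a50, a51, a52, a53, a54,
    a55, a56, a57], ![a60, a61, a62, a63, a64, a65, a66, a67], ![a70, a71, a72, a73, a74, a75, a76, a77]] =
    [[a00, a01, a02, a03, a04, a05, a06, a07], [a10, a11, a12, a13, a14, a15, a16, a17], [a20, a21, a22, a23, a24, a25, a26, a27],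
    [a30, a31, a32, a33, a34, a35, a36, a37], [a40, a41, a42, a43, a44, a45, a46, a47], [a50, a51, a52, a53, a54, a55, a56, a57],
    [a60, a61, a62, a63, a64, a65, a66, a67], [a70, a71, a72, a73, a74, a75, a76, a77]] := (rfl)

theorem i8 : mL (hd ([] : List (Fin 8 × Mat 8))) =
    [[1, 0, 0, 0, 0, 0, 0, 0], [0, 1, 0, 0, 0, 0, 0, 0], [0, 0, 1, 0, 0, 0, 0, 0], [0, 0, 0, 1, 0, 0, 0, 0], [0, 0, 0, 0, 1, 0, 0,
    0], [0, 0, 0, 0, 0, 1, 0, 0], [0, 0, 0, 0, 0, 0, 1, 0], [0, 0, 0, 0, 0, 0, 0, 1]] := by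
  decide +kernel

theorem c2 {i : Fin 2} {
    a00 a01 a10 a11 : ℤ}
    {L : List (Fin 2 × Mat 2)} {K : List (ℕ × List (List ℤ))} (h : cL L = K) :
    cL ((i, ![![a00, a01], ![a10, a11]]) :: L) =
    (i.1, [[a00, a01], [a10, a11]]) :: K := cons m2 h

theorem c3 {i : Fin 3} {
    a00 a01 a02 a10 a11 a12 a20 a21 a22 : ℤ}
    {L : List (Fin 3 × Mat 3)} {K : List (ℕ × List (List ℤ))} (h : cL L = K) :
    cL ((i, ![![a00, a01, a02], ![a10, a11, a12], ![a20, a21, a22]]) :: L) =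
    (i.1, [[a00, a01, a02], [a10, a11, a12], [a20, a21, a22]]) :: K := cons m3 h

theorem c4 {i : Fin 4} {
    a00 a01 a02 a03 a10 a11 a12 a13 a20 a21 a22 a23 a30 a31 a32 a33 : ℤ}
    {L : List (Fin 4 × Mat 4)} {K : List (ℕ × List (List ℤ))} (h : cL L = K) :
    cL ((i, ![![a00, a01, a02, a03], ![a10, a11, a12, a13], ![a20, a21, a22, a23], ![a30, a31, a32, a33]]) :: L) =
    (i.1, [[a00, a01, a02, a03], [a10, a11, a12, a13], [a20, a21, a22, a23], [a30, a31, a32, a33]]) :: K := cons m4 h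

theorem c6 {i : Fin 6} {
    a00 a01 a02 a03 a04 a05 a10 a11 a12 a13 a14 a15 a20 a21 a22 a23 a24 a25 a30 a31 a32 a33 a34 a35 a40 a41 a42 a43 a44 a45 a50
    a51 a52 a53 a54 a55 : ℤ}
    {L : List (Fin 6 × Mat 6)} {K : List (ℕ × List (List ℤ))} (h : cL L = K) :
    cL ((i, ![![a00, a01, a02, a03, a04, a05], ![a10, a11, a12, a13, a14, a15], ![a20, a21, a22, a23, a24, a25], ![a30, a31, a32,
    a33, a34, a35], ![a40, a41, a42, a43, a44, a45], ![a50, a51, a52, a53, a54, a55]]) :: L) =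
    (i.1, [[a00, a01, a02, a03, a04, a05], [a10, a11, a12, a13, a14, a15], [a20, a21, a22, a23, a24, a25], [a30, a31, a32, a33,
    a34, a35], [a40, a41, a42, a43, a44, a45], [a50, a51, a52, a53, a54, a55]]) :: K := cons m6 h

theorem c7 {i : Fin 7} {
    a00 a01 a02 a03 a04 a05 a06 a10 a11 a12 a13 a14 a15 a16 a20 a21 a22 a23 a24 a25 a26 a30 a31 a32 a33 a34 a35 a36 a40 a41 a42
    a43 a44 a45 a46 a50 a51 a52 a53 a54 a55 a56 a60 a61 a62 a63 a64 a65 a66 : ℤ}
    {L : List (Fin 7 × Mat 7)} {K : List (ℕ × List (List ℤ))} (h : cL L = K) :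
    cL ((i, ![![a00, a01, a02, a03, a04, a05, a06], ![a10, a11, a12, a13, a14, a15, a16], ![a20, a21, a22, a23, a24, a25, a26],
    ![a30, a31, a32, a33, a34, a35, a36], ![a40, a41, a42, a43, a44, a45, a46], ![a50, a51, a52, a53, a54, a55, a56], ![a60, a61,
    a62, a63, a64, a65, a66]]) :: L) =
    (i.1, [[a00, a01, a02, a03, a04, a05, a06], [a10, a11, a12, a13, a14, a15, a16], [a20, a21, a22, a23, a24, a25, a26], [a30,
    a31, a32, a33, a34, a35, a36], [a40, a41, a42, a43, a44, a45, a46], [a50, a51, a52, a53, a54, a55, a56], [a60, a61, a62, a63,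
    a64, a65, a66]]) :: K := cons m7 h

theorem c8 {i : Fin 8} {
    a00 a01 a02 a03 a04 a05 a06 a07 a10 a11 a12 a13 a14 a15 a16 a17 a20 a21 a22 a23 a24 a25 a26 a27 a30 a31 a32 a33 a34 a35 a36
    a37 a40 a41 a42 a43 a44 a45 a46 a47 a50 a51 a52 a53 a54 a55 a56 a57 a60 a61 a62 a63 a64 a65 a66 a67 a70 a71 a72 a73 a74 a75
    a76 a77 : ℤ}
    {L : List (Fin 8 × Mat 8)} {K : List (ℕ × List (List ℤ))} (h : cL L = K) :
    cL ((i, ![![a00, a01, a02, a03, a04, a05, a06, a07], ![a10, a11, a12, a13, a14, a15, a16, a17], ![a20, a21, a22, a23, a24,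
    a25, a26, a27], ![a30, a31, a32, a33, a34, a35, a36, a37], ![a40, a41, a42, a43, a44, a45, a46, a47], ![a50, a51, a52, a53,
    a54, a55, a56, a57], ![a60, a61, a62, a63, a64, a65, a66, a67], ![a70, a71, a72, a73, a74, a75, a76, a77]]) :: L) =
    (i.1, [[a00, a01, a02, a03, a04, a05, a06, a07], [a10, a11, a12, a13, a14, a15, a16, a17], [a20, a21, a22, a23, a24, a25, a26,
    a27], [a30, a31, a32, a33, a34, a35, a36, a37], [a40, a41, a42, a43, a44, a45, a46, a47], [a50, a51, a52, a53, a54, a55, a56,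
    a57], [a60, a61, a62, a63, a64, a65, a66, a67], [a70, a71, a72, a73, a74, a75, a76, a77]]) :: K := cons m8 h

end Cfsg.Agent.H129.ChainF
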