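import Cfsg.Agent.H94.Sp.Base_m3
import Cfsg.Agent.S0588
import Cfsg.Agent.H129.CycExc
import Cfsg.Agent.H378.TwRowsF
import Cfsg.Agent.FastGrp
import Cfsg.Agent.Prune
set_option linter.all false
prune_inst 0x7f00000000000000000000000000000000000000000000000000000000000000000000000000000000000000000000000000000000000000000000000000000000000000000000000000000000000000003fffffffffffffffffffffffffffbeffbdffffffff
open scoped Cfsg.Agent.FastGrp

-- part: H129/Isolated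
section
/-!
# The isolated Hall subgroups of the finite simple groups: assembly of S2377 (helper129)

* `Row S` : every prime divisor not connected to `2` has `HasCyc`, or `HasCC` if `S` is one of the exceptions;
* `main` : the conclusion of S2377 from `Row`.
-/

set_option autoImplicit false
set_option linter.unusedSectionVars false

namespace Cfsg.Agent.H129.Isolated

open Cfsg Subgroup
open Cfsg.Agent.H94.PG Cfsg.Agent.H182.Cent

/-- the exceptional groups -/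
def Exc (S : Type*) [Group S] : Prop :=
  (∃ (F : Type) (_ : Field F) (_ : Fintype F), Fintype.card F = 4 ∧
      Nonempty (S ≃* Matrix.ProjectiveSpecialLinearGroup (Fin 3) F)) ∨
    (∃ (F : Type) (_ : Field F) (_ : Fintype F), Odd (Fintype.card F) ∧ ¬ (Fintype.card F).Prime ∧
      Nonempty (S ≃* Matrix.ProjectiveSpecialLinearGroup (Fin 2) F))

/-- the row of a simple group -/
def Row (S : Type*) [Group S] : Prop :=
  ∀ r : ℕ, r.Prime → r ∣ Nat.card S → ¬ Conn S r 2 → HasCyc S r ∨ (HasCC S r ∧ Exc S)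

theorem Row.of_near {S : Type*} [Group S]
    (h : ∀ r : ℕ, r.Prime → r ∣ Nat.card S → ¬ H564.NearTwo.Near S r → HasCyc S r) : Row S :=
  fun r hr hd hn => Or.inl (h r hr hd fun h' => hn h'.conn)

theorem Exc.congr {S H : Type*} [Group S] [Group H] (e : S ≃* H) (h : Exc S) : Exc H := by
  rcases h with ⟨F, i1, i2, h1, ⟨f⟩⟩ | ⟨F, i1, i2, h1, h2, ⟨f⟩⟩
  · exact Or.inl ⟨F, i1, i2, h1, ⟨e.symm.trans f⟩⟩
  · exact Or.inr ⟨F, i1, i2, h1, h2, ⟨e.symm.trans f⟩⟩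

theorem Row.congr {S H : Type*} [Group S] [Group H] (e : S ≃* H) (h : Row S) : Row H := by
  intro r hr hd hn
  rcases h r hr (by rwa [Nat.card_congr e.toEquiv]) (by rwa [conn_congr e]) with h1 | ⟨h1, h2⟩
  · exact Or.inl (h1.congr e)
  · exact Or.inr ⟨h1.congr e, h2.congr e⟩

variable {S : Type*} [Group S] [Finite S]

/-- the adjacency relation of the statement -/
theorem rel_iff : (fun a b : ℕ => a.Prime ∧ b.Prime ∧ a ≠ b ∧ ∃ g : S, orderOf g = a * b) = Adj S := by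
  funext a b
  apply propext
  constructor
  · rintro ⟨ha, hb, hne, g, hg⟩
    have ha0 := ha.ne_zero
    have hb0 := hb.ne_zero
    refine ⟨ha, hb, hne, g ^ b, g ^ a, ?_, ?_, (Commute.refl g).pow_pow b a⟩
    · rw [orderOf_pow' g hb0, hg, Nat.gcd_eq_right (Dvd.intro_left a rfl), Nat.mul_div_cancel _ hb.pos]
    · rw [orderOf_pow' g ha0, hg, Nat.gcd_eq_right (Dvd.intro b rfl), Nat.mul_div_cancel_left _ ha.pos]
  · rintro ⟨ha, hb, hne, x, y, hx, hy, hxy⟩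
    refine ⟨ha, hb, hne, x * y, ?_⟩
    have hco : (orderOf x).Coprime (orderOf y) := by rw [hx, hy]; exact (Nat.coprime_primes ha hb).2 hne
    rw [hxy.orderOf_mul_eq_mul_orderOf_of_coprime hco, hx, hy]

/-- **The structure given by a CC-subgroup.** -/
theorem of_CC {T : Subgroup S} {r : ℕ} (hr : r.Prime) (hd : r ∣ Nat.card ↥T) (hcomm : ∀ a ∈ T, ∀ b ∈ T, Commute a b)
    (hT : ∀ y ∈ T, y ≠ 1 → centralizer ({y} : Set S) ≤ T) :
    ∃ n : ℕ, (∃ g : S, orderOf g = n) ∧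
      (∀ g : S, g ≠ 1 → (∀ p ∈ (orderOf g).primeFactors, Conn S r p) → orderOf g ∣ n) ∧
      IsMulCommutative ↥T ∧ (Nat.card ↥T).Coprime T.index ∧
      (∀ p : ℕ, p.Prime → (p ∣ Nat.card ↥T ↔ (p ∣ Nat.card S ∧ Conn S r p))) ∧
      (IsCyclic ↥T → Nat.card ↥T = n) := by
  have hcm : IsMulCommutative ↥T := ⟨⟨fun a b => Subtype.ext (hcomm a a.2 b b.2).eq⟩⟩
  let ci : CommGroup ↥T := { (inferInstance : Group ↥T) with mul_comm := fun a b => Subtype.ext (hcomm a a.2 b b.2).eq }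
  obtain ⟨t, ht⟩ : ∃ t : ↥T, orderOf t = Monoid.exponent ↥T :=
    Monoid.exists_orderOf_eq_exponent (G := ↥T) Monoid.ExponentExists.of_finite
  refine ⟨Monoid.exponent ↥T, ⟨t, by rw [Subgroup.orderOf_coe, ht]⟩, ?_, hcm, S0588.result T hT, ?_, ?_⟩
  · intro g hg1 hg
    have h1 : orderOf g ≠ 1 := fun h => hg1 (orderOf_eq_one_iff.1 h)
    obtain ⟨p, hp, hpd⟩ := Nat.exists_prime_and_dvd h1
    have hg0 : orderOf g ≠ 0 := (orderOf_pos g).ne'
    have h2 : Conn S r p := hg p (Nat.mem_primeFactors.2 ⟨hp, hpd, hg0⟩)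
    have h3 : p ∣ Nat.card ↥T := (prime_iff hr hd hcomm hT hp).2 ⟨hpd.trans (orderOf_dvd_natCard g), h2⟩
    have ho := orderOf_pow_orderOf_div hg0 hpd
    obtain ⟨h, hh⟩ := exists_conj_mem hT hp h3 (u := g ^ (orderOf g / p)) (k := 1) (by rw [pow_one, ho])
    have hne : h * g ^ (orderOf g / p) * h⁻¹ ≠ 1 := by
      intro e
      have e1 : g ^ (orderOf g / p) = 1 := by
        have : g ^ (orderOf g / p) = h⁻¹ * (h * g ^ (orderOf g / p) * h⁻¹) * h := by group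
        rw [this, e]; group
      rw [e1, orderOf_one] at ho
      exact hp.one_lt.ne ho
    have h4 : h * g * h⁻¹ ∈ T := by
      apply hT _ hh hne
      rw [mem_centralizer_singleton_iff]
      have e1 : g * g ^ (orderOf g / p) = g ^ (orderOf g / p) * g := (Commute.self_pow g _).eq
      calc h * g * h⁻¹ * (h * g ^ (orderOf g / p) * h⁻¹) = h * (g * g ^ (orderOf g / p)) * h⁻¹ := by group
        _ = h * (g ^ (orderOf g / p) * g) * h⁻¹ := by rw [e1]
        _ = h * g ^ (orderOf g / p) * h⁻¹ * (h * g * h⁻¹) := by group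
    have h5 : orderOf (h * g * h⁻¹) = orderOf g :=
      orderOf_injective (MulAut.conj h).toMonoidHom (MulAut.conj h).injective g
    rw [← h5, ← Subgroup.orderOf_mk _ h4]
    exact Monoid.order_dvd_exponent _
  · intro p hp
    exact prime_iff hr hd hcomm hT hp
  · intro hc
    rw [IsCyclic.exponent_eq_card]

/-- **S2377 from the row.** -/
theorem main (hrow : Row S) (r : ℕ) (hr : r.Prime) (hrS : r ∣ Nat.card S)
    (h2 : ¬ Relation.ReflTransGen (fun a b : ℕ => a.Prime ∧ b.Prime ∧ a ≠ b ∧ ∃ g : S, orderOf g = a * b) r 2) :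
    ∃ (n : ℕ) (T : Subgroup S), (∃ g : S, orderOf g = n) ∧
      (∀ g : S, g ≠ 1 → (∀ p ∈ (orderOf g).primeFactors, Relation.ReflTransGen (fun a b : ℕ => a.Prime ∧ b.Prime ∧ a ≠ b ∧ ∃ g : S, orderOf g = a * b) r p) → orderOf g ∣ n) ∧
      IsMulCommutative ↥T ∧ (Nat.card ↥T).Coprime T.index ∧
      (∀ p : ℕ, p.Prime → (p ∣ Nat.card ↥T ↔ (p ∣ Nat.card S ∧ Relation.ReflTransGen (fun a b : ℕ => a.Prime ∧ b.Prime ∧ a ≠ b ∧ ∃ g : S, orderOf g = a * b) r p))) ∧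
      ((IsCyclic ↥T ∧ Nat.card ↥T = n) ∨
        (∃ (F : Type) (_ : Field F) (_ : Fintype F), Fintype.card F = 4 ∧ Nonempty (S ≃* Matrix.ProjectiveSpecialLinearGroup (Fin 3) F)) ∨
        (∃ (F : Type) (_ : Field F) (_ : Fintype F), Odd (Fintype.card F) ∧ ¬ (Fintype.card F).Prime ∧
          Nonempty (S ≃* Matrix.ProjectiveSpecialLinearGroup (Fin 2) F))) := by
  rw [rel_iff] at h2 ⊢
  rcases hrow r hr hrS h2 with ⟨T, h1, hc, hT⟩ | ⟨⟨T, h1, hcomm, hT⟩, he⟩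
  · obtain ⟨n, h3, h4, h5, h6, h7, h8⟩ := of_CC hr h1 (fun a ha b hb => by
      have := (IsCyclic.commGroup (α := ↥T)).mul_comm ⟨a, ha⟩ ⟨b, hb⟩
      exact congrArg Subtype.val this) hT
    exact ⟨n, T, h3, h4, h5, h6, h7, Or.inl ⟨hc, h8 hc⟩⟩
  · obtain ⟨n, h3, h4, h5, h6, h7, -⟩ := of_CC hr h1 hcomm hT
    exact ⟨n, T, h3, h4, h5, h6, h7, Or.inr he⟩

end Cfsg.Agent.H129.Isolated
end

-- part: H129/IsoTw
section
/-!
# `HasCyc` for the twisted exceptional groups, the rows of the exceptional groups (helper129)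
-/

set_option autoImplicit false
set_option linter.unusedSectionVars false

namespace Cfsg.Agent.H129.IsoTw

open Cfsg Cfsg.Lie Subgroup
open Cfsg.Agent.H94.PG Cfsg.Agent.H564.NearTwo Cfsg.Agent.H182.Cent Cfsg.Agent.H129 Cfsg.Agent.H129.CycT
open Cfsg.Agent.H129.Isolated Cfsg.Agent.H129.CycExc
open Cfsg.Agent.H378 Cfsg.Agent.H378.ExcAdj Cfsg.Agent.H378.CycTab Cfsg.Agent.H378.ExcNear Cfsg.Agent.H378.RegFin Cfsg.Agent.H378.AdjTab

universe u

variable {F : Type u} [Field F] [Fintype F] {q : ℕ}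

/-- `q^4 - q^2 + 1` as a natural number -/
theorem exists_N12 {q : ℕ} (hq2 : 1 ≤ q) : ∃ N : ℕ, (N : ℤ) = 1 - (q : ℤ) ^ 2 + (q : ℤ) ^ 4 := by
  refine exists_nat ?_
  have h1 : (1 : ℤ) ≤ q := by exact_mod_cast hq2
  have e : 1 - (q : ℤ) ^ 2 + (q : ℤ) ^ 4 = 1 + (q : ℤ) ^ 2 * ((q : ℤ) ^ 2 - 1) := by ring
  rw [e]
  have h2 : 0 ≤ (q : ℤ) ^ 2 * ((q : ℤ) ^ 2 - 1) := mul_nonneg (by positivity) (by nlinarith)
  linarith

theorem dvd_N12 {q N r : ℕ} (hr : r.Prime) (hN : (N : ℤ) = 1 - (q : ℤ) ^ 2 + (q : ℤ) ^ 4) (h : od q r = 12) : r ∣ N := by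
  have h1 := dvd12 hr h
  rw [pv12] at h1
  have h2 : (r : ℤ) ∣ (N : ℤ) := by
    rw [hN]
    have e : 1 - (q : ℤ) ^ 2 + (q : ℤ) ^ 4 = (q : ℤ) ^ 4 - (q : ℤ) ^ 2 + 1 := by ring
    rw [e]
    exact h1
  exact Int.natCast_dvd_natCast.1 h2

theorem hasCyc_3D4 (hq : IsPrimePow q) (hK : Fintype.card F = q ^ 3) {r : ℕ} (hr : r.Prime)
    (hd : r ∣ Nat.card ↥(twistedD4 F q)) (hn : ¬ Near ↥(twistedD4 F q) r) : HasCyc ↥(twistedD4 F q) r := by
  refine CycAt.hasCyc hr ?_ (TwRows.good2_3D4 hq hK r hr hd hn)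
  have h := (TwRows.near_3D4 hq hK hr hd).resolve_left hn
  obtain ⟨N, hN⟩ := exists_N12 hq.one_lt.le
  exact (exact_tD4_12 hq hK hN).cycAt hr (dvd_N12 hr hN h)

theorem hasCyc_2E6 (hq : IsPrimePow q) (hK : Fintype.card F = q ^ 2) {r : ℕ} (hr : r.Prime)
    (hd : r ∣ Nat.card ↥(twistedE6 F q)) (hn : ¬ Near ↥(twistedE6 F q) r) : HasCyc ↥(twistedE6 F q) r := by
  refine CycAt.hasCyc hr ?_ (TwRows.good2_2E6 hq hK r hr hd hn)
  rcases (TwRows.near_2E6 hq hK hr hd).resolve_left hn with h | ⟨h, rfl | rfl⟩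
  · have h1 := dvd18 hr h
    rw [pv18] at h1
    have hq2 := hq.two_le
    obtain ⟨N, hN⟩ := exists_nat (z := 1 - (q : ℤ) ^ 3 + (q : ℤ) ^ 6) (by
      have h1 : (1 : ℤ) ≤ (q : ℤ) ^ 3 := by exact_mod_cast Nat.one_le_pow _ _ (by omega)
      have e : 1 - (q : ℤ) ^ 3 + (q : ℤ) ^ 6 = 1 + (q : ℤ) ^ 3 * ((q : ℤ) ^ 3 - 1) := by ring
      rw [e]
      have h2 : 0 ≤ (q : ℤ) ^ 3 * ((q : ℤ) ^ 3 - 1) := mul_nonneg (by linarith) (by linarith)
      linarith)
    refine at_tE6_18 hq hK hN hr ?_ (ne_of_od hr h (by norm_num) (by norm_num))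
    have h2 : (r : ℤ) ∣ (N : ℤ) := by
      rw [hN]
      have e : 1 - (q : ℤ) ^ 3 + (q : ℤ) ^ 6 = (q : ℤ) ^ 6 - (q : ℤ) ^ 3 + 1 := by ring
      rw [e]
      exact h1
    exact Int.natCast_dvd_natCast.1 h2
  · subst h
    exact at_tE6_12 hq hK (N := 13) (by norm_num) hr dvd_rfl (by norm_num)
  · subst h
    exact at_tE6_8 hq hK (N := 17) (by norm_num) hr dvd_rfl (by norm_num)

theorem _root_.Cfsg.Agent.H129.CycT.CycExact.hasCyc {G : Type*} [Group G] {m r : ℕ} (h : CycExact G m) (hr : r ∣ m) :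
    HasCyc G r := by
  obtain ⟨T, h1, h2, h3⟩ := h
  exact ⟨T, h2 ▸ hr, h1, fun y hy hy1 => (h3 y hy hy1).le⟩

theorem hasCyc_2F4 {m : ℕ} (hm : 1 ≤ m) (hK : Fintype.card F = 2 ^ (2 * m + 1)) {r : ℕ} (hr : r.Prime)
    (hd : r ∣ Nat.card ↥(twistedF4 F (2 ^ m))) (hn : ¬ Near ↥(twistedF4 F (2 ^ m)) r) :
    HasCyc ↥(twistedF4 F (2 ^ m)) r := by
  have h := (TwRowsF.near_2F4 hm hK hr hd).resolve_left hn
  have hle : twistedF4 F (2 ^ m) ≤ chevF4.group F := TwRowsF.genSubgroup_le_group Cfsg.Agent.BpExc.RowsUntw.f4T.inList _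
  obtain ⟨N, hN⟩ := exists_N12 (q := Nat.card F) Finite.card_pos
  exact hasCyc_of_injective (Subgroup.inclusion hle) (Subgroup.inclusion_injective _) hr hd
    ((exact_F4_12 Nat.card_eq_fintype_card.symm hN).hasCyc (dvd_N12 hr hN h))

/-! ### the rows -/

theorem row_isoChevG2 {G : Type*} [Group G] (h : IsoChevG2 G) : Row G := by
  obtain ⟨F, _, _, -, ⟨e⟩⟩ := h
  exact Row.congr e.symm (Row.of_near fun r hr hd hn => hasCyc_G2 F hr hd hn)

theorem row_isoF4 {G : Type*} [Group G] (h : IsoF4 G) : Row G := by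
  obtain ⟨F, _, _, ⟨e⟩⟩ := h
  exact Row.congr e.symm (Row.of_near fun r hr hd hn => hasCyc_F4 F hr hd hn)

theorem row_isoChevE6 {G : Type*} [Group G] (h : IsoChevE6 G) : Row G := by
  obtain ⟨F, _, _, ⟨e⟩⟩ := h
  exact Row.congr e.symm (Row.of_near fun r hr hd hn => hasCyc_E6 F hr hd hn)

theorem row_isoE7 {G : Type*} [Group G] (h : IsoE7 G) : Row G := by
  obtain ⟨F, _, _, ⟨e⟩⟩ := h
  exact Row.congr e.symm (Row.of_near fun r hr hd hn => hasCyc_E7 F hr hd hn)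

theorem row_isoE8 {G : Type*} [Group G] (h : IsoE8 G) : Row G := by
  obtain ⟨F, _, _, ⟨e⟩⟩ := h
  exact Row.congr e.symm (Row.of_near fun r hr hd hn => hasCyc_E8 F hr hd hn)

theorem row_iso3D4 {G : Type*} [Group G] (h : Iso3D4 G) : Row G := by
  obtain ⟨K, _, _, q, hq, hK, ⟨e⟩⟩ := h
  exact Row.congr e.symm (Row.of_near fun r hr hd hn => hasCyc_3D4 hq hK hr hd hn)

theorem row_iso2E6 {G : Type*} [Group G] (h : Iso2E6 G) : Row G := by
  obtain ⟨K, _, _, q, hq, hK, ⟨e⟩⟩ := h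
  exact Row.congr e.symm (Row.of_near fun r hr hd hn => hasCyc_2E6 hq hK hr hd hn)

theorem row_iso2F4 {G : Type*} [Group G] (h : Iso2F4 G) : Row G := by
  obtain ⟨K, _, _, m, hm, hK, ⟨e⟩⟩ := h
  exact Row.congr e.symm (Row.of_near fun r hr hd hn => hasCyc_2F4 hm hK hr hd hn)

end Cfsg.Agent.H129.IsoTw
end
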