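import Cfsg.Agent.H129.TorusMain
set_option linter.all false

/-!
# Cyclic self-centralizing tori, general reflection subgroup (helper129)

`exists_cyclic'` : `exists_cyclic` of `TorusMain` with the hypothesis `Orth` replaced by a subgroup `V` of the Weyl
group containing the reflections in the roots killed by the `r`-part of `t`.
-/

set_option autoImplicit false
set_option linter.unusedSectionVars false

namespace Cfsg.Agent.H129.StabGen

open CoxeterSystem Cfsg Cfsg.Lie Cfsg.Lie.ChevalleyDatum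
open Cfsg.Agent.ChevalleyStructure Cfsg.Agent.ChevalleyStructure.Elts Cfsg.Agent.ChevalleyStructure.CoxeterGeom
  Cfsg.Agent.ChevalleyStructure.CoxeterGeomTypes Cfsg.Agent.ChevalleyStructure.NPerm
open Cfsg.Agent.Tits.Roots Cfsg.Agent.Tits.Core Cfsg.Agent.Nodes Cfsg.Agent.Nodes.Reps Cfsg.Agent.Nodes.BNOf
  Cfsg.Agent.Nodes.RGDChev Cfsg.Agent.Nodes.Bruhat Cfsg.Agent.Nodes.SubComb Cfsg.Agent.Nodes.Coroot
open Cfsg.Agent.KFacts.RgdField Cfsg.Agent.KFacts.RgdChevCoord Cfsg.Agent.BpExc.TorCent Cfsg.Agent.BpExc.TorChev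
open Cfsg.Agent.GpExc.Field Cfsg.Agent.BpExc.Tow Cfsg.Agent.BpExc.TowChev Cfsg.Agent.BpExc.Fr
  Cfsg.Agent.BpExc.LangFr Cfsg.Agent.LangThm Cfsg.Agent.BpExc Cfsg.Agent.H129.TorusChar Cfsg.Agent.H129.TorusCent
  Cfsg.Agent.H129.TorusTw Cfsg.Agent.H129.TorusMain

universe u

variable {D : ChevalleyDatum} {l : ℕ} {M : CoxeterMatrix (Fin l)} (hp : IsType D l M) {k : Type u} [Field k]
  {W : Type*} [Group W] (cs : CoxeterSystem M W)

section Stab

variable {t : ↥(D.group k)} (ht : t ∈ TT D k)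

include ht

/-- A Weyl group element fixing the values of `t` on the roots fixes the values on the lattice. -/
theorem fix_all {w : W} (hw : ∀ a, IsRoot cs hp.isCartan a → cX hp t (rep cs hp.isCartan w a) = cX hp t a)
    (x : Fin l → ℤ) : cX hp t (rep cs hp.isCartan w x) = cX hp t x := by
  have hmc := isMC_cX hp ht
  have e : ∀ y : Fin l → ℤ, cX hp t y = ∏ i, cX hp t (sr i) ^ y i := by
    intro y
    conv_lhs => rw [IsMC.eq_sum_sr y, hmc.sum_smul]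
  conv_lhs => rw [IsMC.eq_sum_sr x, map_sum]
  have e2 : ∀ i ∈ Finset.univ, rep cs hp.isCartan w (x i • sr i) = x i • rep cs hp.isCartan w (sr i) :=
    fun i _ => map_zsmul _ _ _
  rw [Finset.sum_congr rfl e2, hmc.sum_smul, e x]
  exact Finset.prod_congr rfl fun i _ => by rw [hw _ ⟨1, i, by rw [map_one, Module.End.one_apply]⟩]

/-- **The stabiliser of `t` in the Weyl group is trivial.** -/
theorem stab_eq_one' [Finite W] (hk : LocFin k) (p : ℕ) [Fact p.Prime] [CharP k p] {m r : ℕ} (hr : r.Prime)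
    (hrW : ¬ r ∣ Nat.card W) (hpow : ∀ a, IsRoot cs hp.isCartan a → cX hp t a ^ (m * r) = 1) {V : Subgroup W}
    (hV : ∀ a, IsRoot cs hp.isCartan a → cX hp t a ^ m = 1 → ∃ v i, a = rep cs hp.isCartan v (sr i) ∧
      rfl' cs v i ∈ V)
    (hcl : ∀ v ∈ V, ∀ x, rep cs hp.isCartan v x - x ∈
      AddSubgroup.closure {a | IsRoot cs hp.isCartan a ∧ cX hp t a ^ m = 1})
    (h1 : ∀ v ∈ V, v ≠ 1 → ∃ x, cX hp t (rep cs hp.isCartan v x - x) ≠ 1) {w : W}
    (hw : ∀ a, IsRoot cs hp.isCartan a → cX hp t (rep cs hp.isCartan w a) = cX hp t a) : w = 1 := by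
  have htm : t ^ m ∈ TT D k := pow_mem ht m
  have hχ : ∀ a, IsRoot cs hp.isCartan a → ch hp a (t ^ m) = cX hp t a ^ m := fun a ha => by
    rw [← cX_root hp cs htm ha, cX_pow hp ht]
  have hS : Sx cs hp.isCartan (ch hp) (t ^ m) = {a | IsRoot cs hp.isCartan a ∧ cX hp t a ^ m = 1} := by
    ext a
    constructor
    · rintro ⟨h1, h3⟩
      exact ⟨h1, by rw [← hχ a h1]; exact h3⟩
    · rintro ⟨h1, h3⟩
      exact ⟨h1, by rw [hχ a h1]; exact h3⟩
  set S := {a | IsRoot cs hp.isCartan a ∧ cX hp t a ^ m = 1} with hSdef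
  have hmc := isMC_cX hp htm
  have hcl' : ∀ y ∈ AddSubgroup.closure S, cX hp (t ^ m) y = 1 := by
    intro y hy
    induction hy using AddSubgroup.closure_induction with
    | mem b hb => rw [cX_pow hp ht]; exact hb.2
    | zero => exact hmc.zero
    | add a b _ _ ha hb => rw [hmc.add, ha, hb, mul_one]
    | neg a _ ha => rw [hmc.neg, ha, inv_one]
  obtain ⟨v, hv, hpos⟩ := TorCent.exists_adjust (cs := cs) (h := hp.isCartan) S V (fun a ha => hV a ha.1 ha.2) w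
  have hwv : w * v ∈ PP cs hp.isCartan (ch hp) (t ^ m) := by
    refine mem_PP.2 ⟨fun a ha => ?_, fun a ha h0 => ?_⟩
    · rw [hχ a ha, hχ _ (ha.act _), rep_mul_apply, hw _ (ha.act v), ← cX_pow hp ht, ← cX_pow hp ht]
      have e : rep cs hp.isCartan v a = a + (rep cs hp.isCartan v a - a) := by abel
      rw [e, hmc.add, hcl' _ (hcl v hv a), mul_one]
    · rw [hS] at ha
      exact hpos a ha h0
  have hPG : IsPGroup r (PP cs hp.isCartan (ch hp) (t ^ m)) :=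
    isPGroup_PP (chAddL hp cs hk p) htm hr fun a ha => by rw [hχ a ha, ← pow_mul]; exact hpow a ha
  have h3 : w * v = 1 := by
    have hrf : Fact r.Prime := ⟨hr⟩
    obtain ⟨n, hn⟩ := (IsPGroup.iff_card (p := r)).1 hPG
    have h3 : Nat.card (PP cs hp.isCartan (ch hp) (t ^ m)) ∣ Nat.card W := Subgroup.card_subgroup_dvd_card _
    rw [hn] at h3
    have h4 : n = 0 := by
      by_contra h5
      exact hrW ((dvd_pow_self r h5).trans h3)
    rw [h4, pow_zero] at hn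
    have h5 := Subgroup.card_eq_one.1 hn
    rw [h5] at hwv
    exact Subgroup.mem_bot.1 hwv
  have hwV : w ∈ V := by
    rw [eq_inv_of_mul_eq_one_left h3]
    exact inv_mem hv
  by_contra hw1
  obtain ⟨x, hx⟩ := h1 w hwV hw1
  apply hx
  have hmt := isMC_cX hp ht
  rw [sub_eq_add_neg, hmt.add, hmt.neg, fix_all hp cs ht hw]
  exact mul_inv_cancel₀ (hmt.ne_zero x)

end Stab

section Tau

variable {p e : ℕ} [Fact p.Prime] [CharP k p] {σ : MulAut ↥(D.group k)} {g : (Fin l → ℤ) ≃+ (Fin l → ℤ)}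

/-- **The general theorem.** -/
theorem exists_cyclic' [IsAlgClosed k] [Finite W] (hl : 0 < l) (hk : LocFin k) {hN : NSys M (TT D k) (nc hp k)}
    (he : 0 < e) (hσ : IsFrob p e σ) (F : Fr cs hp.isCartan (TT D k) (XX D l k) σ g) {d' : ℕ}
    {B' : Fin l → Fin l → ℤ} (hB : InvC D l d' B') (hd' : d' ≠ 0) (w : W) {V B : Fin l → Fin l → ℤ} {c : Fin l → ℤ}
    (h : Cyc l (theta hp cs w g) V B c) {N d r : ℕ} (hfN : fN c ((p ^ e : ℕ) : ℤ) = N) (hpN : ¬ p ∣ N)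
    {G0 : Type*} [Group G0] {e0 : G0 →* ↥(D.group k)} (he0 : Function.Injective e0) (hfix : ∀ x, σ (e0 x) = e0 x)
    (hr : r.Prime) (hrW : ¬ r ∣ Nat.card W) (hdr : d * r ∣ N)
    (hC : ∀ a, IsRoot cs hp.isCartan a → (r : ℤ) ∣ Gq B ((p ^ e : ℕ) : ℤ) a →
      ¬ (N : ℤ) ∣ d * Gq B ((p ^ e : ℕ) : ℤ) a)
    {VW : Subgroup W}
    (hV : ∀ a, IsRoot cs hp.isCartan a → (r : ℤ) ∣ Gq B ((p ^ e : ℕ) : ℤ) a →
      ∃ v i, a = rep cs hp.isCartan v (sr i) ∧ rfl' cs v i ∈ VW)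
    (hcl : ∀ v ∈ VW, ∀ x, rep cs hp.isCartan v x - x ∈
      AddSubgroup.closure {a | IsRoot cs hp.isCartan a ∧ (r : ℤ) ∣ Gq B ((p ^ e : ℕ) : ℤ) a})
    (hV1 : ∀ v ∈ VW, v ≠ 1 → ∃ x, ¬ (N : ℤ) ∣ d * Gq B ((p ^ e : ℕ) : ℤ) (rep cs hp.isCartan v x - x))
    (hS : ∀ (n z t : ↥(D.group k)) (u : k), Rp cs hN w n → n = z⁻¹ * σ z → t ∈ TT D k → n * σ t * n⁻¹ = t →
      IsPrimitiveRoot u N → (∀ x, cX hp t x = u ^ Gq B ((p ^ e : ℕ) : ℤ) x) →
      ∀ s ∈ Subgroup.zpowers t, z * s * z⁻¹ ∈ e0.range ↔ s ∈ Subgroup.zpowers (t ^ d)) :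
    ∃ H : Subgroup G0, IsCyclic ↥H ∧ Nat.card ↥H = N / d ∧ Subgroup.centralizer (H : Set G0) = H := by
  have hN0 : N ≠ 0 := fun h0 => hpN (by rw [h0]; exact dvd_zero p)
  have hd0 : d ≠ 0 := by
    rintro rfl
    rw [zero_mul] at hdr
    exact hN0 (Nat.eq_zero_of_zero_dvd hdr)
  have hNk : (N : k) ≠ 0 := by
    rw [Ne, CharP.cast_eq_zero_iff k p]
    exact hpN
  obtain ⟨n, hn⟩ := exists_rp cs hN w
  obtain ⟨z, hz⟩ := lang_all hp cs he hσ F 1 n
  rw [map_one, one_mul] at hz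
  obtain ⟨t, ht, hθ, htN, ⟨u, hu, hcX⟩, hgen⟩ := exists_gen hp h hl hB hd' (q := p ^ e) hfN hNk
  have hτ : n * σ t * n⁻¹ = t := (tau_iff hp cs hk hσ F hn ht).2 hθ
  refine descent he0 hfix hz (t := t) (T := TT D k) (fun s hs hs' => hgen s hs ((tau_iff hp cs hk hσ F hn hs).1 hs'))
    htN hN0 ((Dvd.intro r rfl).trans hdr) (hS n z t u hn hz ht hτ hu hcX) ?_
  -- the centraliser
  obtain ⟨m, hm⟩ := hdr
  have hr0 : r ≠ 0 := hr.ne_zero
  have hm0 : m ≠ 0 := by rintro rfl; rw [mul_zero] at hm; exact hN0 hm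
  have htd : t ^ d ∈ TT D k := pow_mem ht d
  have hval : ∀ x, cX hp (t ^ d) x = u ^ (d * Gq B ((p ^ e : ℕ) : ℤ) x) := fun x => by
    rw [cX_pow hp ht, hcX, ← zpow_natCast, ← zpow_mul, mul_comm]
  have hone : ∀ z : ℤ, u ^ z = 1 ↔ (N : ℤ) ∣ z := fun z => hu.zpow_eq_one_iff_dvd z
  have hm1 : ∀ x, cX hp (t ^ d) x ^ m = 1 ↔ (r : ℤ) ∣ Gq B ((p ^ e : ℕ) : ℤ) x := by
    intro x
    rw [hval, ← zpow_natCast, ← zpow_mul, hone, hm]
    have e1 : (((d * r * m : ℕ)) : ℤ) = (d * m) * r := by push_cast; ring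
    have e2 : (d : ℤ) * Gq B ((p ^ e : ℕ) : ℤ) x * m = (d * m) * Gq B ((p ^ e : ℕ) : ℤ) x := by ring
    rw [e1, e2]
    exact mul_dvd_mul_iff_left (mul_ne_zero (Nat.cast_ne_zero.2 hd0) (Nat.cast_ne_zero.2 hm0))
  have hset : {a | IsRoot cs hp.isCartan a ∧ cX hp (t ^ d) a ^ m = 1} =
      {a | IsRoot cs hp.isCartan a ∧ (r : ℤ) ∣ Gq B ((p ^ e : ℕ) : ℤ) a} := by
    ext a
    exact and_congr_right fun _ => hm1 a
  refine fun c hc => mem_TT_of_comm hp cs htd hk p ?_ ?_ hc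
  · intro a ha h3
    refine hC a ha ((hm1 a).1 (by rw [h3, one_pow])) ?_
    rwa [hval, hone] at h3
  · intro w' hw'
    refine stab_eq_one' hp cs htd hk p hr hrW (m := m) (V := VW) ?_ ?_ ?_ ?_ hw'
    · intro a _
      rw [hval, ← zpow_natCast, ← zpow_mul, hone, hm]
      refine ⟨Gq B ((p ^ e : ℕ) : ℤ) a, ?_⟩
      push_cast
      ring
    · intro a ha h3
      exact hV a ha ((hm1 a).1 h3)
    · rw [hset]
      exact hcl
    · intro v hv hv1
      obtain ⟨x, hx⟩ := hV1 v hv hv1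
      refine ⟨x, fun h3 => hx ?_⟩
      rwa [hval, hone] at h3

end Tau

end Cfsg.Agent.H129.StabGen
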